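import Mathlib.RingTheory.AdicCompletion.Basic
import Mathlib.RingTheory.Finiteness.Basic
import Mathlib.Algebra.BigOperators.Pi

/-!
# Groups on which the telescope of an endomorphism is invertible
-/

set_option autoImplicit false
universe u v

noncomputable section

namespace GrothLib.Gam7

/-- `x ↦ (x n - f (x (n + 1)))` is bijective on sequences. -/
def UC {A : Type u} [AddCommGroup A] (f : A →+ A) : Prop :=
  Function.Bijective fun (x : ℕ → A) (n : ℕ) => x n - f (x (n + 1))

variable {A : Type u} [AddCommGroup A] {f : A →+ A}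

theorem UC.eq_zero (hf : UC f) {x : ℕ → A} (hx : ∀ n, x n = f (x (n + 1))) : x 0 = 0 := by
  have h : x = 0 := hf.1 (funext fun n => by
    show x n - f (x (n + 1)) = (0 : ℕ → A) n - f ((0 : ℕ → A) (n + 1))
    rw [Pi.zero_apply, Pi.zero_apply, map_zero, sub_zero, ← hx n, sub_self])
  exact congrFun h 0

theorem UC.exists_solution (hf : UC f) (y : ℕ → A) : ∃ x : ℕ → A, ∀ n, x n - f (x (n + 1)) = y n :=
  (hf.2 y).imp fun _ h => congrFun h

theorem UC.of_equiv {B : Type v} [AddCommGroup B] {g : B →+ B} (e : A ≃+ B) (he : ∀ a, e (f a) = g (e a))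
    (hf : UC f) : UC g := by
  let E : (ℕ → A) ≃ (ℕ → B) := Equiv.piCongrRight fun _ => e.toEquiv
  refine (congrArg Function.Bijective (funext fun x => funext fun n => ?_)).mp
    (E.bijective.comp (hf.comp E.symm.bijective))
  show e (e.symm (x n) - f (e.symm (x (n + 1)))) = x n - g (x (n + 1))
  rw [map_sub, he, e.apply_symm_apply, e.apply_symm_apply]

section Five

variable {A₁ A₂ A₃ A₄ A₅ : Type u} [AddCommGroup A₁] [AddCommGroup A₂] [AddCommGroup A₃] [AddCommGroup A₄]
  [AddCommGroup A₅] {f₁ : A₁ →+ A₁} {f₂ : A₂ →+ A₂} {f₃ : A₃ →+ A₃} {f₄ : A₄ →+ A₄} {f₅ : A₅ →+ A₅}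
  (a : A₁ →+ A₂) (b : A₂ →+ A₃) (c : A₃ →+ A₄) (d : A₄ →+ A₅)

/-- In an exact sequence with compatible endomorphisms, the middle term inherits the property of the others. -/
theorem UC.five (ha : ∀ x, a (f₁ x) = f₂ (a x)) (hb : ∀ x, b (f₂ x) = f₃ (b x))
    (hc : ∀ x, c (f₃ x) = f₄ (c x)) (hd : ∀ x, d (f₄ x) = f₅ (d x)) (hab : ∀ x, b (a x) = 0)
    (hbc : ∀ x, b x = 0 → ∃ y, a y = x) (hcd : ∀ x, c x = 0 → ∃ y, b y = x) (hde : ∀ x, d x = 0 → ∃ y, c y = x)
    (hcb : ∀ x, c (b x) = 0) (hdc : ∀ x, d (c x) = 0)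
    (h₁ : UC f₁) (h₂ : UC f₂) (h₄ : UC f₄) (h₅ : UC f₅) : UC f₃ := by
  have inj : ∀ x : ℕ → A₃, (∀ n, x n - f₃ (x (n + 1)) = 0) → x = 0 := fun x hx => by
    have hc0 : (fun n => c (x n)) = 0 := h₄.1 (funext fun n => by
      show c (x n) - f₄ (c (x (n + 1))) = (0 : ℕ → A₄) n - f₄ ((0 : ℕ → A₄) (n + 1))
      rw [← hc, ← map_sub, hx, map_zero]
      simp)
    choose y hy using fun n => hcd (x n) (congrFun hc0 n)
    choose z hz using fun n => hbc (y n - f₂ (y (n + 1))) (by rw [map_sub, hb, hy, hy, hx])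
    obtain ⟨w, hw⟩ := h₁.exists_solution z
    have e : (fun n => a (w n)) = y := h₂.1 (funext fun n => by
      show a (w n) - f₂ (a (w (n + 1))) = _
      rw [← ha, ← map_sub, hw, hz])
    funext n
    rw [← hy n, ← congrFun e n, hab]
    rfl
  refine ⟨fun x x' h => sub_eq_zero.1 (inj (x - x') fun n => ?_), fun y => ?_⟩
  · have := congrFun h n
    simp only [Pi.sub_apply, map_sub]
    rw [sub_sub_sub_comm]
    exact sub_eq_zero.2 this
  · obtain ⟨w, hw⟩ := h₄.exists_solution fun n => c (y n)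
    have e : (fun n => d (w n)) = 0 := h₅.1 (funext fun n => by
      show d (w n) - f₅ (d (w (n + 1))) = (0 : ℕ → A₅) n - f₅ ((0 : ℕ → A₅) (n + 1))
      rw [← hd, ← map_sub, hw, hdc]
      simp)
    choose x hx using fun n => hde (w n) (congrFun e n)
    choose z hz using fun n => hcd (y n - (x n - f₃ (x (n + 1)))) (by
      rw [map_sub, map_sub, hc, hx, hx, hw, sub_self])
    obtain ⟨v, hv⟩ := h₂.exists_solution z
    refine ⟨fun n => x n + b (v n), funext fun n => ?_⟩
    show x n + b (v n) - f₃ (x (n + 1) + b (v (n + 1))) = y n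
    rw [map_add, ← hb, add_sub_add_comm, ← map_sub b, hv, hz]
    abel

end Five

/-- A complete separated module for an ideal has the property for multiplication by elements of the ideal. -/
theorem UC.of_isAdicComplete {R : Type u} [CommRing R] (I : Ideal R) {M : Type v} [AddCommGroup M] [Module R M]
    [IsAdicComplete I M] {t : R} (ht : t ∈ I) : UC (DistribSMul.toAddMonoidHom M t) := by
  have hmem : ∀ (n : ℕ) (m : M), t ^ n • m ∈ (I ^ n • ⊤ : Submodule R M) := fun n m =>
    Submodule.smul_mem_smul (Ideal.pow_mem_pow ht n) Submodule.mem_top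
  refine ⟨fun x x' h => funext fun n => sub_eq_zero.1 ?_, fun y => ?_⟩
  · have hn : ∀ k, x n - x' n = t ^ k • (x (n + k) - x' (n + k)) := fun k => by
      induction k with
      | zero => simp
      | succ k ih =>
        have e : x (n + k) - t • x (n + k + 1) = x' (n + k) - t • x' (n + k + 1) := congrFun h (n + k)
        rw [ih, pow_succ, mul_smul]
        refine congrArg (t ^ k • ·) ?_
        rw [smul_sub, sub_eq_sub_iff_sub_eq_sub.1 e]
        rfl
    exact IsHausdorff.haus (inferInstance : IsHausdorff I M) _ fun k =>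
      SModEq.zero.2 (by rw [hn k]; exact hmem k _)
  · let S : ℕ → ℕ → M := fun n k => ∑ i ∈ Finset.range k, t ^ i • y (n + i)
    have hS : ∀ n k, S n (k + 1) = y n + t • S (n + 1) k := fun n k => by
      simp only [S, Finset.sum_range_succ', Finset.smul_sum, smul_smul, ← pow_succ', pow_zero, one_smul, add_zero]
      rw [add_comm]
      refine congrArg (y n + ·) (Finset.sum_congr rfl fun i _ => ?_)
      rw [show n + (i + 1) = n + 1 + i by omega]
    have hc : ∀ n {a b : ℕ}, a ≤ b → S n a ≡ S n b [SMOD (I ^ a • ⊤ : Submodule R M)] := fun n a b hab => by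
      rw [SModEq.sub_mem]
      obtain ⟨c, rfl⟩ := Nat.exists_eq_add_of_le hab
      rw [show S n a - S n (a + c) = -∑ i ∈ Finset.range c, t ^ (a + i) • y (n + (a + i)) by
        simp only [S]; rw [Finset.sum_range_add]; abel]
      refine neg_mem (Submodule.sum_mem _ fun i _ => ?_)
      rw [pow_add, mul_smul]
      exact hmem a _
    choose L hL using fun n => IsPrecomplete.prec (inferInstance : IsPrecomplete I M) (f := S n) (hc n)
    refine ⟨L, funext fun n => sub_eq_zero.1 (IsHausdorff.haus (inferInstance : IsHausdorff I M) _ fun k =>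
      SModEq.zero.2 ?_)⟩
    show L n - t • L (n + 1) - y n ∈ _
    have h1 : L n - S n (k + 1) ∈ (I ^ k • ⊤ : Submodule R M) :=
      Submodule.smul_mono_left (Ideal.pow_le_pow_right k.le_succ) (SModEq.sub_mem.1 (hL n (k + 1)).symm)
    have h2 : t • (L (n + 1) - S (n + 1) k) ∈ (I ^ k • ⊤ : Submodule R M) :=
      Submodule.smul_mem _ t (SModEq.sub_mem.1 (hL (n + 1) k).symm)
    have e : L n - t • L (n + 1) - y n = (L n - S n (k + 1)) - t • (L (n + 1) - S (n + 1) k) := by
      rw [hS, smul_sub]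
      abel
    rw [e]
    exact sub_mem h1 h2

end GrothLib.Gam7
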