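import Groth.Agent.Lib.Gam7.Derived
import Groth.Agent.Lib.Gam7.UC

/-!
# Cones of endomorphisms and the derived torsion functor
-/

set_option autoImplicit false
set_option linter.style.haveILetI false
set_option linter.unusedSectionVars false
universe u

open CategoryTheory CategoryTheory.Limits AlgebraicGeometry TopologicalSpace Opposite Pretriangulated

attribute [local instance] HasDerivedCategory.standard

noncomputable section

namespace GrothLib.Gam7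

open GrothLib.FMod7 GrothLib.FCat7

variable {𝔛 : FSch.Sys.{u}} {h : 𝔛.IsFormal}

local notation "Hm" => DerivedCategory.homologyFunctor (FSch.ModF 𝔛 h)
local notation "D" => DerivedCategory (FSch.ModF 𝔛 h)

/-- All cohomology is coherent. -/
abbrev CohD (G : D) : Prop := ∀ q, FSch.IsCohF 𝔛 h ((Hm q).obj G)

theorem CohD.shift {G : D} (hG : CohD G) (m : ℤ) : CohD (G⟦m⟧) := fun q =>
  ObjectProperty.prop_of_iso (fun N : FSch.ModF 𝔛 h => FSch.IsCohF 𝔛 h N)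
    (((DerivedCategory.homologyFunctor (FSch.ModF 𝔛 h) 0).shiftIso m q (m + q) rfl).app G).symm (hG (m + q))

/-- An endomorphism has invertible telescope on maps into complexes with coherent cohomology. -/
def UCD {E : D} (τ : E ⟶ E) : Prop := ∀ G : D, CohD G → UC (Preadditive.leftComp G τ)

theorem UCD.shift {E : D} {τ : E ⟶ E} (hτ : UCD τ) : UCD (τ⟦(1 : ℤ)⟧') := fun G hG => by
  let κ : (G⟦(-1 : ℤ)⟧)⟦(1 : ℤ)⟧ ≅ G := (shiftEquiv (D) (1 : ℤ)).counitIso.app G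
  let e : (E ⟶ G⟦(-1 : ℤ)⟧) ≃+ (E⟦(1 : ℤ)⟧ ⟶ G) :=
    AddEquiv.ofBijective (AddMonoidHom.mk' (fun φ => φ⟦(1 : ℤ)⟧' ≫ κ.hom) fun φ ψ => by
      rw [Functor.map_add, Preadditive.add_comp])
      ⟨fun φ ψ e => (shiftFunctor _ (1 : ℤ)).map_injective ((cancel_mono κ.hom).1 e), fun y => by
        obtain ⟨φ, hφ⟩ := (shiftFunctor _ (1 : ℤ)).map_surjective (y ≫ κ.inv)
        exact ⟨φ, by simp [hφ]⟩⟩
  refine (hτ _ (hG.shift (-1))).of_equiv e fun φ => ?_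
  show (τ ≫ φ)⟦(1 : ℤ)⟧' ≫ κ.hom = τ⟦(1 : ℤ)⟧' ≫ φ⟦(1 : ℤ)⟧' ≫ κ.hom
  rw [Functor.map_comp, Category.assoc]

theorem UCD.of_triangle (T : Triangle (D)) (hT : T ∈ distTriang _) (a : T.obj₁ ⟶ T.obj₁) (b : T.obj₂ ⟶ T.obj₂)
    (c : T.obj₃ ⟶ T.obj₃) (hab : T.mor₁ ≫ b = a ≫ T.mor₁) (hbc : T.mor₂ ≫ c = b ≫ T.mor₂)
    (hca : T.mor₃ ≫ a⟦(1 : ℤ)⟧' = c ≫ T.mor₃) (ha : UCD a) (hb : UCD b) : UCD c := fun G hG =>
  UC.five (f₁ := Preadditive.leftComp G (b⟦(1 : ℤ)⟧')) (f₂ := Preadditive.leftComp G (a⟦(1 : ℤ)⟧'))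
    (f₃ := Preadditive.leftComp G c) (f₄ := Preadditive.leftComp G b) (f₅ := Preadditive.leftComp G a)
    (Preadditive.leftComp G (T.mor₁⟦(1 : ℤ)⟧')) (Preadditive.leftComp G T.mor₃) (Preadditive.leftComp G T.mor₂)
    (Preadditive.leftComp G T.mor₁)
    (fun x => show T.mor₁⟦(1 : ℤ)⟧' ≫ b⟦(1 : ℤ)⟧' ≫ x = a⟦(1 : ℤ)⟧' ≫ T.mor₁⟦(1 : ℤ)⟧' ≫ x by
      rw [← Category.assoc, ← Functor.map_comp, hab, Functor.map_comp, Category.assoc])
    (fun x => show T.mor₃ ≫ a⟦(1 : ℤ)⟧' ≫ x = c ≫ T.mor₃ ≫ x by rw [← Category.assoc, hca, Category.assoc])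
    (fun x => show T.mor₂ ≫ c ≫ x = b ≫ T.mor₂ ≫ x by rw [← Category.assoc, hbc, Category.assoc])
    (fun x => show T.mor₁ ≫ b ≫ x = a ≫ T.mor₁ ≫ x by rw [← Category.assoc, hab, Category.assoc])
    (fun x => show T.mor₃ ≫ T.mor₁⟦(1 : ℤ)⟧' ≫ x = 0 by
      rw [← Category.assoc, comp_distTriang_mor_zero₃₁ _ hT, zero_comp])
    (fun x hx => by
      obtain ⟨y, hy⟩ := Triangle.yoneda_exact₃ _ (rot_of_distTriang _ hT) x hx
      refine ⟨-y, ?_⟩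
      show T.mor₁⟦(1 : ℤ)⟧' ≫ (-y) = x
      exact (Preadditive.comp_neg _ _).trans ((Preadditive.neg_comp _ _).symm.trans hy.symm))
    (fun x hx => by
      obtain ⟨y, hy⟩ := Triangle.yoneda_exact₃ _ hT x hx
      exact ⟨y, hy.symm⟩)
    (fun x hx => by
      obtain ⟨y, hy⟩ := Triangle.yoneda_exact₂ _ hT x hx
      exact ⟨y, hy.symm⟩)
    (fun x => show T.mor₂ ≫ T.mor₃ ≫ x = 0 by rw [← Category.assoc, comp_distTriang_mor_zero₂₃ _ hT, zero_comp])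
    (fun x => show T.mor₁ ≫ T.mor₂ ≫ x = 0 by rw [← Category.assoc, comp_distTriang_mor_zero₁₂ _ hT, zero_comp])
    (hb.shift G hG) (ha.shift G hG) (hb G hG) (ha G hG)

variable (hN : 𝔛.IsLocNoethFormal)
include hN

/-- Torsion cohomology passes to cones. -/
theorem isDTorsF_obj₃ (T : Triangle (D)) (hT : T ∈ distTriang _) (h1 : FTors.IsDTorsF 𝔛 h T.obj₁)
    (h2 : FTors.IsDTorsF 𝔛 h T.obj₂) : FTors.IsDTorsF 𝔛 h T.obj₃ := fun n => by
  let δ := DerivedCategory.HomologySequence.δ T n (n + 1) rfl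
  let S0 : ShortComplex (FSch.ModF 𝔛 h) :=
    ShortComplex.mk ((Hm n).map T.mor₂) δ (DerivedCategory.HomologySequence.comp_δ T hT n (n + 1) rfl)
  have hS0 : S0.Exact := DerivedCategory.HomologySequence.exact₃ T hT n (n + 1) rfl
  haveI : Epi (kernel.lift δ ((Hm n).map T.mor₂) S0.zero) := (ShortComplex.exact_iff_epi_kernel_lift S0).1 hS0
  let S : ShortComplex (FSch.ModF 𝔛 h) :=
    ShortComplex.mk (kernel.ι δ) (Abelian.factorThruImage δ)
      ((cancel_mono (Abelian.image.ι δ)).1 (by simp))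
  have hS : S.ShortExact :=
    { exact := ShortComplex.exact_of_f_is_kernel _ (KernelFork.IsLimit.ofι _ _
        (fun x hx => kernel.lift δ x (by rw [← Abelian.image.fac δ, ← Category.assoc, hx, zero_comp]))
        (fun x hx => kernel.lift_ι _ _ _) fun x hx m hm => (cancel_mono (kernel.ι δ)).1 (hm.trans (kernel.lift_ι _ _ _).symm))
      mono_f := inferInstanceAs (Mono (kernel.ι δ))
      epi_g := inferInstanceAs (Epi (Abelian.factorThruImage δ)) }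
  exact isTorsF_extension hN hS (isTorsF_of_epi (kernel.lift δ ((Hm n).map T.mor₂) S0.zero) (h2 n))
    (isTorsF_of_mono (Abelian.image.ι δ) (h1 (n + 1)))

variable [FTors.HasRgammaT 𝔛 h]

local notation "R" => FTors.RgammaT 𝔛 h
local notation "ε" => FTors.RgammaTε 𝔛 h

/-- The shifted counit is still a coreflection. -/
theorem comp_shift_ε_bijective {T E : D} (hT : FTors.IsDTorsF 𝔛 h T) :
    Function.Bijective fun φ : T ⟶ ((R).obj E)⟦(1 : ℤ)⟧ => φ ≫ ((ε).app E)⟦(1 : ℤ)⟧' := by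
  let κ : (T⟦(-1 : ℤ)⟧)⟦(1 : ℤ)⟧ ≅ T := (shiftEquiv (D) (1 : ℤ)).counitIso.app T
  have hT' : FTors.IsDTorsF 𝔛 h (T⟦(-1 : ℤ)⟧) := fun n =>
    isTorsF_of_mono (((DerivedCategory.homologyFunctor (FSch.ModF 𝔛 h) 0).shiftIso (-1) n (-1 + n) rfl).app T).hom
      (hT (-1 + n))
  refine ⟨fun x y hxy => ?_, fun w => ?_⟩
  · obtain ⟨x', hx'⟩ := (shiftFunctor _ (1 : ℤ)).map_surjective (κ.hom ≫ x)
    obtain ⟨y', hy'⟩ := (shiftFunctor _ (1 : ℤ)).map_surjective (κ.hom ≫ y)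
    rw [← cancel_epi κ.hom, ← hx', ← hy']
    refine congrArg _ ((comp_ε_bijective hN hT').1 ((shiftFunctor _ (1 : ℤ)).map_injective ?_))
    show (x' ≫ (ε).app E)⟦(1 : ℤ)⟧' = (y' ≫ (ε).app E)⟦(1 : ℤ)⟧'
    rw [Functor.map_comp, Functor.map_comp, hx', hy', Category.assoc, Category.assoc]
    exact congrArg (κ.hom ≫ ·) hxy
  · obtain ⟨w', hw'⟩ := (shiftFunctor _ (1 : ℤ)).map_surjective (κ.hom ≫ w)
    obtain ⟨z, hz⟩ := (comp_ε_bijective hN hT').2 w'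
    refine ⟨κ.inv ≫ z⟦(1 : ℤ)⟧', ?_⟩
    show (κ.inv ≫ z⟦(1 : ℤ)⟧') ≫ ((ε).app E)⟦(1 : ℤ)⟧' = w
    rw [Category.assoc, ← Functor.map_comp, show z ≫ (ε).app E = w' from hz, hw', Iso.inv_hom_id_assoc]

/-- `RΓ'` of the cone of an endomorphism. -/
theorem exists_R_triangle {E C : D} (f : E ⟶ E) (g : E ⟶ C) (d : C ⟶ E⟦(1 : ℤ)⟧)
    (hT : Triangle.mk f g d ∈ distTriang _) :
    ∃ d' : (R).obj C ⟶ ((R).obj E)⟦(1 : ℤ)⟧, Triangle.mk ((R).map f) ((R).map g) d' ∈ distTriang _ ∧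
      d' ≫ ((ε).app E)⟦(1 : ℤ)⟧' = (ε).app C ≫ d ∧
      ∀ (a : E ⟶ E) (c : C ⟶ C), d ≫ a⟦(1 : ℤ)⟧' = c ≫ d → d' ≫ ((R).map a)⟦(1 : ℤ)⟧' = (R).map c ≫ d' := by
  obtain ⟨X, gX, dX, hX⟩ := distinguished_cocone_triangle ((R).map f)
  have nf : (R).map f ≫ (ε).app E = (ε).app E ≫ f := (ε).naturality f
  have ng : (R).map g ≫ (ε).app C = (ε).app E ≫ g := (ε).naturality g
  obtain ⟨u, hu1, hu2⟩ : ∃ u : X ⟶ C, gX ≫ u = (ε).app E ≫ g ∧ dX ≫ ((ε).app E)⟦(1 : ℤ)⟧' = u ≫ d :=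
    complete_distinguished_triangle_morphism _ _ hX hT ((ε).app E) ((ε).app E) nf
  have hXt : FTors.IsDTorsF 𝔛 h X := isDTorsF_obj₃ hN _ hX (isDTorsF_R E) (isDTorsF_R E)
  have hu : ∀ {T : D}, FTors.IsDTorsF 𝔛 h T → Function.Bijective fun φ : T ⟶ X => φ ≫ u := fun {T} hT' => by
    have key : ∀ x : T ⟶ X, x ≫ u = 0 → x = 0 := fun x hx => by
      have h0 : x ≫ dX = 0 := (comp_shift_ε_bijective hN hT').1 (by
        show (x ≫ dX) ≫ ((ε).app E)⟦(1 : ℤ)⟧' = 0 ≫ _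
        rw [Category.assoc, hu2, ← Category.assoc, hx, zero_comp, zero_comp])
      obtain ⟨y, rfl⟩ : ∃ y : T ⟶ (R).obj E, x = y ≫ gX := Triangle.coyoneda_exact₃ _ hX x h0
      rw [Category.assoc, hu1] at hx
      obtain ⟨z, hz⟩ : ∃ z : T ⟶ E, y ≫ (ε).app E = z ≫ f :=
        Triangle.coyoneda_exact₂ _ hT (y ≫ (ε).app E) ((Category.assoc _ _ _).trans hx)
      obtain ⟨z', rfl⟩ := (comp_ε_bijective hN hT').2 z
      have hy : y = z' ≫ (R).map f := (comp_ε_bijective hN hT').1 (by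
        show y ≫ (ε).app E = (z' ≫ (R).map f) ≫ (ε).app E
        rw [hz]
        show (z' ≫ (ε).app E) ≫ f = _
        rw [Category.assoc, ← nf, Category.assoc])
      show y ≫ gX = 0
      rw [hy, Category.assoc]
      exact (congrArg (z' ≫ ·) (comp_distTriang_mor_zero₁₂ _ hX)).trans comp_zero
    refine ⟨fun x y hxy => sub_eq_zero.1 (key _ ?_), fun w => ?_⟩
    · rw [Preadditive.sub_comp]
      exact sub_eq_zero.2 hxy
    · obtain ⟨v, hv⟩ := (comp_shift_ε_bijective hN hT' (E := E)).2 (w ≫ d)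
      have h0 : v ≫ ((R).map f)⟦(1 : ℤ)⟧' = 0 := (comp_shift_ε_bijective hN hT').1 (by
        show (v ≫ ((R).map f)⟦(1 : ℤ)⟧') ≫ ((ε).app E)⟦(1 : ℤ)⟧' = 0 ≫ _
        rw [zero_comp, Category.assoc, ← Functor.map_comp, nf, Functor.map_comp, ← Category.assoc,
          show v ≫ ((ε).app E)⟦(1 : ℤ)⟧' = w ≫ d from hv, Category.assoc]
        exact (congrArg (w ≫ ·) (comp_distTriang_mor_zero₃₁ _ hT)).trans comp_zero)
      obtain ⟨x, hx⟩ : ∃ x : T ⟶ X, v = x ≫ dX := Triangle.coyoneda_exact₁ _ hX v h0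
      have h1 : (w - x ≫ u) ≫ d = 0 := by
        rw [Preadditive.sub_comp, Category.assoc, ← hu2, ← Category.assoc, ← hx,
          show v ≫ ((ε).app E)⟦(1 : ℤ)⟧' = w ≫ d from hv, sub_self]
      obtain ⟨y, hy⟩ : ∃ y : T ⟶ E, w - x ≫ u = y ≫ g := Triangle.coyoneda_exact₃ _ hT (w - x ≫ u) h1
      obtain ⟨y', rfl⟩ := (comp_ε_bijective hN hT').2 y
      refine ⟨x + y' ≫ gX, ?_⟩
      show (x + y' ≫ gX) ≫ u = w
      rw [Preadditive.add_comp, Category.assoc, hu1, ← eq_sub_iff_add_eq']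
      exact (hy.trans (Category.assoc _ _ _)).symm
  obtain ⟨θ, hθ⟩ := (comp_ε_bijective hN hXt (F := C)).2 u
  obtain ⟨θ', hθ'⟩ := (hu (isDTorsF_R C)).2 ((ε).app C)
  change θ ≫ (ε).app C = u at hθ
  change θ' ≫ u = (ε).app C at hθ'
  haveI : IsIso θ := ⟨θ', (hu hXt).1 (by
      show (θ ≫ θ') ≫ u = 𝟙 X ≫ u
      rw [Category.assoc, hθ', hθ, Category.id_comp]), (comp_ε_bijective hN (isDTorsF_R C)).1 (by
      show (θ' ≫ θ) ≫ (ε).app C = 𝟙 _ ≫ (ε).app C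
      rw [Category.assoc, hθ, hθ', Category.id_comp])⟩
  have hg : gX ≫ θ = (R).map g := (comp_ε_bijective hN (isDTorsF_R E)).1 (by
    show (gX ≫ θ) ≫ (ε).app C = (R).map g ≫ (ε).app C
    rw [Category.assoc, hθ, hu1, ng])
  refine ⟨inv θ ≫ dX, isomorphic_distinguished _ hX _ ?_, ?_, fun a c hac => ?_⟩
  · refine Triangle.isoMk _ _ (Iso.refl _) (Iso.refl _) (asIso θ).symm ?_ ?_ ?_
    · exact (Category.comp_id _).trans (Category.id_comp _).symm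
    · show (R).map g ≫ inv θ = 𝟙 _ ≫ gX
      rw [← hg, Category.assoc, IsIso.hom_inv_id, Category.comp_id, Category.id_comp]
    · show (inv θ ≫ dX) ≫ (𝟙 ((R).obj E))⟦(1 : ℤ)⟧' = inv θ ≫ dX
      rw [CategoryTheory.Functor.map_id, Category.comp_id]
  · rw [Category.assoc, hu2, ← Category.assoc]
    exact congrArg (· ≫ d) ((IsIso.inv_comp_eq θ).2 hθ.symm)
  · have he : (inv θ ≫ dX) ≫ ((ε).app E)⟦(1 : ℤ)⟧' = (ε).app C ≫ d := by
      rw [Category.assoc, hu2, ← Category.assoc]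
      exact congrArg (· ≫ d) ((IsIso.inv_comp_eq θ).2 hθ.symm)
    refine (comp_shift_ε_bijective hN (isDTorsF_R C)).1 ?_
    show ((inv θ ≫ dX) ≫ ((R).map a)⟦(1 : ℤ)⟧') ≫ ((ε).app E)⟦(1 : ℤ)⟧' =
      ((R).map c ≫ inv θ ≫ dX) ≫ ((ε).app E)⟦(1 : ℤ)⟧'
    rw [Category.assoc, ← Functor.map_comp, show (R).map a ≫ (ε).app E = (ε).app E ≫ a from (ε).naturality a,
      Functor.map_comp, ← Category.assoc, he, Category.assoc, hac, ← Category.assoc,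
      show (ε).app C ≫ c = (R).map c ≫ (ε).app C from ((ε).naturality c).symm, Category.assoc, ← he,
      ← Category.assoc]

/-- Precomposition with the counit is bijective for `E` once it is for a cone of a telescopic endomorphism. -/
theorem bijective_of_cone {E C : D} (f : E ⟶ E) (g : E ⟶ C) (d : C ⟶ E⟦(1 : ℤ)⟧)
    (hT : Triangle.mk f g d ∈ distTriang _) (hf : UCD f) (hRf : UCD ((R).map f))
    (hC : ∀ G : D, CohD G → Function.Bijective fun φ : C ⟶ G => (ε).app C ≫ φ) :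
    ∀ G : D, CohD G → Function.Bijective fun φ : E ⟶ G => (ε).app E ≫ φ := by
  obtain ⟨d', hT', hd', -⟩ := exists_R_triangle hN f g d hT
  have nf : (R).map f ≫ (ε).app E = (ε).app E ≫ f := (ε).naturality f
  have ng : (R).map g ≫ (ε).app C = (ε).app E ≫ g := (ε).naturality g
  have factor : ∀ {E C : D} {f : E ⟶ E} {g : E ⟶ C} {d : C ⟶ E⟦(1 : ℤ)⟧}, Triangle.mk f g d ∈ distTriang _ →
      ∀ {G : D} (x : E ⟶ G), d ≫ x⟦(1 : ℤ)⟧' = 0 → ∃ x₁, x = f ≫ x₁ := fun {E C f g d} hT {G} x hx => by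
    obtain ⟨y, hy⟩ : ∃ y : E⟦(1 : ℤ)⟧ ⟶ G⟦(1 : ℤ)⟧, x⟦(1 : ℤ)⟧' = (-f⟦(1 : ℤ)⟧') ≫ y :=
      Triangle.yoneda_exact₃ _ (rot_of_distTriang _ hT) (x⟦(1 : ℤ)⟧') hx
    obtain ⟨x₁, rfl⟩ := (shiftFunctor _ (1 : ℤ)).map_surjective y
    refine ⟨-x₁, (shiftFunctor _ (1 : ℤ)).map_injective (hy.trans ?_)⟩
    simp
  have inj : ∀ G : D, CohD G → ∀ x : E ⟶ G, (ε).app E ≫ x = 0 → x = 0 := fun G hG => by
    have step : ∀ x : {x : E ⟶ G // (ε).app E ≫ x = 0}, ∃ x' : {x : E ⟶ G // (ε).app E ≫ x = 0}, x.1 = f ≫ x'.1 := by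
      rintro ⟨x, hx⟩
      have h0 : d ≫ x⟦(1 : ℤ)⟧' = 0 := (hC _ (hG.shift 1)).1 (by
        show (ε).app C ≫ d ≫ x⟦(1 : ℤ)⟧' = (ε).app C ≫ 0
        rw [comp_zero, ← Category.assoc, ← hd', Category.assoc, ← Functor.map_comp, hx, Functor.map_zero, comp_zero])
      obtain ⟨x₁, hx₁⟩ := factor hT x h0
      obtain ⟨v, hv⟩ : ∃ v : (R).obj C ⟶ G, (ε).app E ≫ x₁ = (R).map g ≫ v :=
        Triangle.yoneda_exact₂ _ hT' ((ε).app E ≫ x₁) (by
        show (R).map f ≫ (ε).app E ≫ x₁ = 0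
        rw [← Category.assoc, nf, Category.assoc, ← hx₁, hx])
      obtain ⟨v', rfl⟩ := (hC G hG).2 v
      refine ⟨⟨x₁ - g ≫ v', ?_⟩, ?_⟩
      · rw [Preadditive.comp_sub, hv]
        show (R).map g ≫ (ε).app C ≫ v' - (ε).app E ≫ g ≫ v' = 0
        rw [← Category.assoc, ng, Category.assoc, sub_self]
      · show x = f ≫ (x₁ - g ≫ v')
        rw [Preadditive.comp_sub, ← hx₁, ← Category.assoc,
          show f ≫ g = 0 from comp_distTriang_mor_zero₁₂ _ hT, zero_comp, sub_zero]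
    choose next hnext using step
    intro x hx
    exact (hf G hG).eq_zero (x := fun n => (next^[n] ⟨x, hx⟩).1) fun n => by
      rw [Function.iterate_succ_apply']
      exact hnext _
  intro G hG
  refine ⟨fun x y hxy => sub_eq_zero.1 (inj G hG _ ?_), fun y => ?_⟩
  · rw [Preadditive.comp_sub]
    exact sub_eq_zero.2 hxy
  have step : ∀ y : (R).obj E ⟶ G, ∃ (a : E ⟶ G) (y₁ : (R).obj E ⟶ G),
      y = (ε).app E ≫ a + (R).map f ≫ y₁ := fun y => by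
    obtain ⟨v, hv⟩ := (hC _ (hG.shift 1)).2 (d' ≫ y⟦(1 : ℤ)⟧')
    change (ε).app C ≫ v = d' ≫ y⟦(1 : ℤ)⟧' at hv
    have h0 : g ≫ v = 0 := inj _ (hG.shift 1) _ (by
      rw [← Category.assoc, ← ng, Category.assoc, hv, ← Category.assoc,
        show (R).map g ≫ d' = 0 from comp_distTriang_mor_zero₂₃ _ hT', zero_comp])
    obtain ⟨a', ha'⟩ : ∃ a' : E⟦(1 : ℤ)⟧ ⟶ G⟦(1 : ℤ)⟧, v = d ≫ a' := Triangle.yoneda_exact₃ _ hT v h0
    obtain ⟨a, rfl⟩ := (shiftFunctor _ (1 : ℤ)).map_surjective a'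
    obtain ⟨y₁, hy₁⟩ := factor hT' (y - (ε).app E ≫ a) (by
      rw [Functor.map_sub, Preadditive.comp_sub, ← hv, ha', Functor.map_comp, ← Category.assoc d', hd', Category.assoc]
      exact sub_self _)
    exact ⟨a, y₁, by rw [← hy₁, add_sub_cancel]⟩
  choose a next hnext using step
  let ys : ℕ → ((R).obj E ⟶ G) := fun n => next^[n] y
  obtain ⟨b, hb⟩ := (hf G hG).exists_solution fun n => a (ys n)
  refine ⟨b 0, (sub_eq_zero.1 ((hRf G hG).eq_zero (x := fun n => ys n - (ε).app E ≫ b n) fun n => ?_)).symm⟩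
  show ys n - (ε).app E ≫ b n = (R).map f ≫ (ys (n + 1) - (ε).app E ≫ b (n + 1))
  have hbn : b n - f ≫ b (n + 1) = a (ys n) := hb n
  rw [show ys (n + 1) = next (ys n) from Function.iterate_succ_apply' _ _ _, Preadditive.comp_sub,
    ← Category.assoc ((R).map f), nf, Category.assoc]
  conv_lhs => rw [hnext (ys n), ← hbn, Preadditive.comp_sub]
  abel

end GrothLib.Gam7
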