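import Groth.Agent.Lib.KInj.Adjoint
import Groth.Agent.Lib.BCDVcomp.Homology

/-!
# Derived categories of coreflective Serre subcategories
-/

set_option autoImplicit false
set_option linter.style.haveILetI false
universe w w' v v' u u'

open CategoryTheory CategoryTheory.Limits HomologicalComplex HomotopyCategory GrothLib.KInj

namespace GrothLib.Gam7

variable {A : Type u} [Category.{v} A] [Abelian A] {B : Type u'} [Category.{v'} B] [Abelian B]
  {L : B ⥤ A} {G : A ⥤ B} (adj : L ⊣ G) [L.Additive] [G.Additive]
  [PreservesFiniteLimits L] [PreservesFiniteColimits L] [L.ReflectsIsomorphisms]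
  [IsGrothendieckAbelian.{v} A] [HasDerivedCategory.{w} A] [HasDerivedCategory.{w'} B]

include adj in
/-- If the counit is a quasi-isomorphism on K-injective complexes of injectives whose cohomology lies in `P`,
the exact inclusion is fully faithful on derived categories with essential image given by `P`. -/
theorem full_faithful_essImage (P : ObjectProperty A) [P.IsClosedUnderIsomorphisms] (hPL : ∀ X : B, P (L.obj X))
    (hqi : ∀ I : CochainComplex A ℤ, I.IsKInjective → (∀ n, Injective (I.X n)) → (∀ n, P (I.homology n)) →
      QuasiIso ((mapComplexAdj adj (ComplexShape.up ℤ)).counit.app I)) :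
    L.mapDerivedCategory.Full ∧ L.mapDerivedCategory.Faithful ∧
      ∀ Y : DerivedCategory A, L.mapDerivedCategory.essImage Y ↔
        ∀ n : ℤ, P ((DerivedCategory.homologyFunctor A n).obj Y) := by
  have hL : ∀ X : DerivedCategory B, ∀ n, P ((DerivedCategory.homologyFunctor A n).obj
      (L.mapDerivedCategory.obj X)) := fun X n =>
    P.prop_of_iso ((BCDVcomp.homologyMapDerivedIso L n).app X).symm (hPL _)
  have core : ∀ Y : DerivedCategory A, (∀ n, P ((DerivedCategory.homologyFunctor A n).obj Y)) →
      ∃ (W : DerivedCategory B) (ε : L.mapDerivedCategory.obj W ≅ Y), ∀ X : DerivedCategory B,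
        Function.Bijective (fun f : X ⟶ W => L.mapDerivedCategory.map f ≫ ε.hom) := by
    intro Y hY
    haveI := Localization.essSurj (DerivedCategory.Qh (C := A)) (subcategoryAcyclic A).trW
    let K := DerivedCategory.Qh.objPreimage Y
    obtain ⟨I, i, hi, hI, hX⟩ := exists_kInjective_resolution A K.as
    haveI hqh : IsIso (DerivedCategory.Qh.map ((quotient A (ComplexShape.up ℤ)).map i)) := by
      refine Localization.inverts DerivedCategory.Qh (HomotopyCategory.quasiIso A (ComplexShape.up ℤ)) _ ?_
      rwa [quotient_map_mem_quasiIso_iff, HomologicalComplex.mem_quasiIso_iff]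
    let e : DerivedCategory.Qh.obj ((quotient A (ComplexShape.up ℤ)).obj I) ≅ Y :=
      (@asIso _ _ _ _ _ hqh).symm ≪≫ DerivedCategory.Qh.objObjPreimageIso Y
    let Iq := (quotient A (ComplexShape.up ℤ)).obj I
    let GI := (G.mapHomotopyCategory (ComplexShape.up ℤ)).obj Iq
    let c : (L.mapHomotopyCategory (ComplexShape.up ℤ)).obj GI ⟶ Iq := (mapHomotopyAdj adj).counit.app Iq
    have hc : IsIso (DerivedCategory.Qh.map c) := by
      refine Localization.inverts DerivedCategory.Qh (HomotopyCategory.quasiIso A (ComplexShape.up ℤ)) _ ?_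
      show HomotopyCategory.quasiIso A (ComplexShape.up ℤ)
        ((quotient A (ComplexShape.up ℤ)).map ((mapComplexAdj adj (ComplexShape.up ℤ)).counit.app I))
      rw [quotient_map_mem_quasiIso_iff, HomologicalComplex.mem_quasiIso_iff]
      exact hqi I hI hX fun n => P.prop_of_iso
        (((DerivedCategory.homologyFunctor A n).mapIso e).symm ≪≫
          (DerivedCategory.homologyFunctorFactorsh A n).app Iq ≪≫
          (HomotopyCategory.homologyFunctorFactors A _ n).app I) (hY n)
    refine ⟨DerivedCategory.Qh.obj GI,
      L.mapDerivedCategoryFactorsh.app GI ≪≫ @asIso _ _ _ _ _ hc ≪≫ e, fun X => ?_⟩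
    haveI := Localization.essSurj (DerivedCategory.Qh (C := B)) (subcategoryAcyclic B).trW
    let Z := DerivedCategory.Qh.objPreimage X
    let eX : DerivedCategory.Qh.obj Z ≅ X := DerivedCategory.Qh.objObjPreimageIso X
    have hor := CochainComplex.IsKInjective.rightOrthogonal I
    let ε := (L.mapDerivedCategoryFactorsh.app GI ≪≫ @asIso _ _ _ _ _ hc ≪≫ e)
    have hZ : Function.Bijective
        (fun f : DerivedCategory.Qh.obj Z ⟶ DerivedCategory.Qh.obj GI => L.mapDerivedCategory.map f ≫ ε.hom) := by
      have h1 := (rightOrthogonal_map adj hor).map_bijective_of_isTriangulated DerivedCategory.Qh Z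
      refine (Function.Bijective.of_comp_iff _ h1).1 ?_
      have h2 : Function.Bijective fun g : Z ⟶ GI =>
          DerivedCategory.Qh.map ((L.mapHomotopyCategory (ComplexShape.up ℤ)).map g ≫ c) ≫ e.hom := by
        have := (Iso.homToEquiv e).bijective.comp
          ((hor.map_bijective_of_isTriangulated DerivedCategory.Qh _).comp
            (((mapHomotopyAdj adj).homEquiv Z Iq).symm).bijective)
        refine (congrArg Function.Bijective (funext fun g => ?_)).mp this
        simp only [Function.comp_apply, Adjunction.homEquiv_counit]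
        rfl
      refine (congrArg Function.Bijective (funext fun g => ?_)).mpr
        ((Iso.homFromEquiv (L.mapDerivedCategoryFactorsh.app Z).symm).bijective.comp h2)
      simp only [Function.comp_apply, Iso.homFromEquiv_apply, Iso.symm_inv, Iso.app_hom]
      refine ((L.mapDerivedCategoryFactorsh.hom.naturality_assoc g _).trans (congrArg (_ ≫ ·) ?_))
      simp [c]
    refine (congrArg Function.Bijective (funext fun f => ?_)).mpr
      (((Iso.homFromEquiv (L.mapDerivedCategory.mapIso eX)).bijective.comp hZ).comp
        (Iso.homFromEquiv eX.symm).bijective)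
    simp [ε]
  have ff : ∀ X X' : DerivedCategory B, Function.Bijective
      (fun f : X ⟶ X' => L.mapDerivedCategory.map f) := fun X X' => by
    obtain ⟨W, ε, hε⟩ := core _ (hL X')
    obtain ⟨u, hu⟩ := (hε X').2 (𝟙 _)
    have hu' : L.mapDerivedCategory.map u = ε.inv := by
      rw [← cancel_mono ε.hom]
      exact hu.trans ε.inv_hom_id.symm
    haveI : IsIso (L.mapDerivedCategory.map u) := hu' ▸ inferInstance
    haveI : IsIso u := (DerivedCategory.isIso_iff B u).2 fun n => by
      have := (NatIso.isIso_map_iff (BCDVcomp.homologyMapDerivedIso L n) u).1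
        (inferInstanceAs (IsIso ((DerivedCategory.homologyFunctor A n).map (L.mapDerivedCategory.map u))))
      haveI : IsIso (L.map ((DerivedCategory.homologyFunctor B n).map u)) := this
      exact isIso_of_reflects_iso _ L
    refine (congrArg Function.Bijective (funext fun f => ?_)).mpr
      ((hε X).comp (Iso.homToEquiv (asIso u)).bijective)
    simp [hu']
  refine ⟨⟨fun {X X'} => (ff X X').2⟩, ⟨fun {X X'} => fun {a b} hab => (ff X X').1 hab⟩, fun Y =>
    ⟨fun ⟨X, ⟨e⟩⟩ n => P.prop_of_iso ((DerivedCategory.homologyFunctor A n).mapIso e) (hL X n), fun hY => ?_⟩⟩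
  obtain ⟨W, ε, -⟩ := core Y hY
  exact ⟨W, ⟨ε⟩⟩

end GrothLib.Gam7
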