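import Groth.Agent.Lib.Gam7.Qis
import Groth.Agent.Lib.KInj.Derived
import Groth.Agent.Lib.KInj.SiteMod

/-!
# The derived torsion functor and complexes with torsion cohomology
-/

set_option autoImplicit false
set_option linter.style.haveILetI false
set_option linter.unusedSectionVars false
universe u

open CategoryTheory CategoryTheory.Limits AlgebraicGeometry TopologicalSpace Opposite

attribute [local instance] HasDerivedCategory.standard

noncomputable section

namespace GrothLib.Gam7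

open GrothLib.FMod7 GrothLib.FCat7 GrothLib.KInj

variable {𝔛 : FSch.Sys.{u}} {h : 𝔛.IsFormal}

local notation "q" => HomotopyCategory.quotient (FSch.ModF 𝔛 h) (ComplexShape.up ℤ)

/-- The map `Γ' ⟶ 𝟭` on a complex, in the derived category. -/
theorem gammaτ_app (K : CochainComplex (FSch.ModF 𝔛 h) ℤ) :
    (FTors.gammaτ (FTors.openIdealFam 𝔛 h)).app ((q).obj K) =
      DerivedCategory.Qh.map (((FTors.gammaT 𝔛 h).mapHomotopyCategoryFactors (ComplexShape.up ℤ)).hom.app K) ≫
        DerivedCategory.Qh.map ((q).map (incl K)) := by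
  show (FTors.gammaτ0 (FTors.openIdealFam 𝔛 h)).app K = _
  simp [FTors.gammaτ0, incl]

theorem isIso_gammaτ (hN : 𝔛.IsLocNoethFormal) (I : CochainComplex (FSch.ModF 𝔛 h) ℤ)
    (hI : ∀ n, Injective (I.X n)) (hH : ∀ n, FTors.IsTorsF 𝔛 h (I.homology n)) :
    IsIso ((FTors.gammaτ (FTors.openIdealFam 𝔛 h)).app ((q).obj I)) := by
  rw [gammaτ_app]
  have : IsIso (DerivedCategory.Qh.map ((q).map (incl I))) := by
    refine Localization.inverts DerivedCategory.Qh (HomotopyCategory.quasiIso _ (ComplexShape.up ℤ)) _ ?_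
    rw [HomotopyCategory.quotient_map_mem_quasiIso_iff, HomologicalComplex.mem_quasiIso_iff]
    exact quasiIso_incl hN I hI hH
  infer_instance

/-- The torsion functor sends the inclusion of the torsion submodule to an isomorphism. -/
theorem isIso_gammaT_map_ι (M : FSch.ModF 𝔛 h) :
    IsIso ((FTors.gammaT 𝔛 h).map ((FTors.gammaTι 𝔛 h).app M)) := by
  haveI : IsIso ((FTors.gammaTι 𝔛 h).app ((FTors.gammaT 𝔛 h).obj M)) :=
    isIso_gammaι_of_isTorsF (isTorsF_gammaT M)
  haveI : Mono ((FTors.gammaTι 𝔛 h).app M) := ⟨fun g g' e => hom_ext_basis fun U _ z =>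
    sHom_gammaι_injective M U (congrArg (fun φ => sHom φ U z) e)⟩
  have e : (FTors.gammaT 𝔛 h).map ((FTors.gammaTι 𝔛 h).app M) =
      (FTors.gammaTι 𝔛 h).app ((FTors.gammaT 𝔛 h).obj M) :=
    (cancel_mono ((FTors.gammaTι 𝔛 h).app M)).1 ((FTors.gammaTι 𝔛 h).naturality ((FTors.gammaTι 𝔛 h).app M))
  rw [e]
  infer_instance

theorem isTorsF_homology_TC (I : CochainComplex (FSch.ModF 𝔛 h) ℤ) (n : ℤ) :
    FTors.IsTorsF 𝔛 h ((TC I).homology n) :=
  isTorsF_of_epi ((TC I).homologyπ n) (isTorsF_of_mono ((TC I).iCycles n) (isTorsF_gammaT (I.X n)))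

theorem isDTorsF_Q_iff (K : CochainComplex (FSch.ModF 𝔛 h) ℤ) :
    FTors.IsDTorsF 𝔛 h (DerivedCategory.Qh.obj ((q).obj K)) ↔ ∀ n, FTors.IsTorsF 𝔛 h (K.homology n) := by
  refine forall_congr' fun n => ?_
  let e : SiteCmp.HMod (DerivedCategory.Qh.obj ((q).obj K)) n ≅ K.homology n :=
    ((DerivedCategory.homologyFunctorFactorsh _ n).app ((q).obj K)) ≪≫
      (HomotopyCategory.homologyFunctorFactors _ _ n).app K
  exact ⟨isTorsF_of_mono e.inv, isTorsF_of_mono e.hom⟩

theorem IsDTorsF_of_iso {E E' : DerivedCategory (FSch.ModF 𝔛 h)} (e : E ≅ E') (hE : FTors.IsDTorsF 𝔛 h E) :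
    FTors.IsDTorsF 𝔛 h E' := fun n =>
  isTorsF_of_mono ((DerivedCategory.homologyFunctor _ n).mapIso e).inv (hE n)

/-- Every object is a K-injective complex of injective modules. -/
theorem exists_kinj (E : DerivedCategory (FSch.ModF 𝔛 h)) :
    ∃ I : CochainComplex (FSch.ModF 𝔛 h) ℤ, I.IsKInjective ∧ (∀ n, Injective (I.X n)) ∧
      Nonempty (E ≅ DerivedCategory.Qh.obj ((q).obj I)) := by
  haveI := Localization.essSurj (DerivedCategory.Qh (C := FSch.ModF 𝔛 h))
    (HomotopyCategory.subcategoryAcyclic (FSch.ModF 𝔛 h)).trW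
  let X := DerivedCategory.Qh.objPreimage E
  obtain ⟨I, i, hi, hI, hX⟩ := exists_kInjective_resolution (FSch.ModF 𝔛 h) X.as
  have : IsIso (DerivedCategory.Qh.map ((q).map i)) := by
    refine Localization.inverts DerivedCategory.Qh (HomotopyCategory.quasiIso _ (ComplexShape.up ℤ)) _ ?_
    rwa [HomotopyCategory.quotient_map_mem_quasiIso_iff, HomologicalComplex.mem_quasiIso_iff]
  exact ⟨I, hI, hX, ⟨(DerivedCategory.Qh.objObjPreimageIso E).symm ≪≫
    @asIso _ _ _ _ (DerivedCategory.Qh.map ((q).map i)) this⟩⟩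

variable [FTors.HasRgammaT 𝔛 h]

local notation "R" => FTors.RgammaT 𝔛 h
local notation "ε" => FTors.RgammaTε 𝔛 h
local notation "η" => Functor.totalRightDerivedUnit (FTors.gammaKh (FTors.openIdealFam 𝔛 h)) DerivedCategory.Qh
  (HomotopyCategory.quasiIso (FSch.ModF 𝔛 h) (ComplexShape.up ℤ))

theorem unit_comp_ε (X : HomotopyCategory (FSch.ModF 𝔛 h) (ComplexShape.up ℤ)) :
    (η).app X ≫ (ε).app (DerivedCategory.Qh.obj X) = (FTors.gammaτ (FTors.openIdealFam 𝔛 h)).app X :=
  ((R).rightDerived_fac_app _ _ _ _ X).trans (Category.comp_id _)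

theorem isIso_unit_kinj (I : CochainComplex (FSch.ModF 𝔛 h) ℤ) [I.IsKInjective] :
    IsIso ((η).app ((q).obj I)) := by
  haveI := isIso_unit_of_rightOrthogonal (CochainComplex.IsKInjective.rightOrthogonal I)
  have := totalRightDerivedUnit_iso_hom (FTors.gammaKh (FTors.openIdealFam 𝔛 h)) ((q).obj I)
  have : IsIso ((η).app ((q).obj I) ≫
      (totalRightDerivedIso (FTors.gammaKh (FTors.openIdealFam 𝔛 h))).hom.app
        (DerivedCategory.Qh.obj ((q).obj I))) := by
    rw [this]
    infer_instance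
  exact IsIso.of_isIso_comp_right _ ((totalRightDerivedIso (FTors.gammaKh (FTors.openIdealFam 𝔛 h))).hom.app _)

/-- `RΓ' E` has torsion cohomology. -/
theorem isDTorsF_R (E : DerivedCategory (FSch.ModF 𝔛 h)) : FTors.IsDTorsF 𝔛 h ((R).obj E) := by
  obtain ⟨I, hI, -, ⟨e⟩⟩ := exists_kinj E
  haveI := isIso_unit_kinj I
  let j : DerivedCategory.Qh.obj ((q).obj (TC I)) ≅ (R).obj E :=
    DerivedCategory.Qh.mapIso (((FTors.gammaT 𝔛 h).mapHomotopyCategoryFactors (ComplexShape.up ℤ)).app I).symm ≪≫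
      asIso ((η).app ((q).obj I)) ≪≫ (R).mapIso e.symm
  exact IsDTorsF_of_iso j ((isDTorsF_Q_iff _).2 (isTorsF_homology_TC I))

/-- The counit is invertible exactly on torsion cohomology. -/
theorem isIso_ε_iff (hN : 𝔛.IsLocNoethFormal) (E : DerivedCategory (FSch.ModF 𝔛 h)) :
    IsIso ((ε).app E) ↔ FTors.IsDTorsF 𝔛 h E := by
  refine ⟨fun _ => IsDTorsF_of_iso (asIso ((ε).app E)) (isDTorsF_R E), fun hE => ?_⟩
  obtain ⟨I, hI, hX, ⟨e⟩⟩ := exists_kinj E
  rw [NatTrans.isIso_app_iff_of_iso (ε) e]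
  haveI := isIso_unit_kinj I
  have : IsIso ((η).app ((q).obj I) ≫ (ε).app (DerivedCategory.Qh.obj ((q).obj I))) := by
    rw [unit_comp_ε]
    exact isIso_gammaτ hN I hX ((isDTorsF_Q_iff I).1 (IsDTorsF_of_iso e hE))
  exact IsIso.of_isIso_comp_left ((η).app ((q).obj I)) _

/-- `RΓ'` inverts the counit. -/
theorem isIso_map_ε (hN : 𝔛.IsLocNoethFormal) (F : DerivedCategory (FSch.ModF 𝔛 h)) :
    IsIso ((R).map ((ε).app F)) := by
  obtain ⟨I, hI, hX, ⟨e⟩⟩ := exists_kinj F
  have key : IsIso ((R).map ((ε).app (DerivedCategory.Qh.obj ((q).obj I)))) := by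
    haveI := isIso_unit_kinj I
    let f : (q).obj (TC I) ⟶ (q).obj I := (q).map (incl I)
    have hη : IsIso ((η).app ((q).obj (TC I))) := by
      haveI : IsIso ((ε).app (DerivedCategory.Qh.obj ((q).obj (TC I)))) :=
        (isIso_ε_iff hN _).2 ((isDTorsF_Q_iff _).2 (isTorsF_homology_TC I))
      have : IsIso ((η).app ((q).obj (TC I)) ≫ (ε).app (DerivedCategory.Qh.obj ((q).obj (TC I)))) := by
        rw [unit_comp_ε, gammaτ_app]
        have : IsIso (incl (TC I)) := by
          refine @HomologicalComplex.Hom.isIso_of_components _ _ _ _ _ _ _ (incl (TC I)) fun n => ?_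
          rw [incl_f]
          exact isIso_gammaι_of_isTorsF (isTorsF_gammaT (I.X n))
        infer_instance
      exact IsIso.of_isIso_comp_right _ ((ε).app (DerivedCategory.Qh.obj ((q).obj (TC I))))
    have hf : IsIso ((FTors.gammaKh (FTors.openIdealFam 𝔛 h)).map f) := by
      have : IsIso (((FTors.gammaT 𝔛 h).mapHomologicalComplex (ComplexShape.up ℤ)).map (incl I)) := by
        refine @HomologicalComplex.Hom.isIso_of_components _ _ _ _ _ _ _ _ fun n => ?_
        show IsIso ((FTors.gammaT 𝔛 h).map ((incl I).f n))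
        rw [incl_f]
        exact isIso_gammaT_map_ι _
      show IsIso (DerivedCategory.Qh.map (((FTors.gammaT 𝔛 h).mapHomotopyCategory (ComplexShape.up ℤ)).map f))
      refine @Functor.map_isIso _ _ _ _ _ _ (DerivedCategory.Qh (C := FSch.ModF 𝔛 h)) _ ?_
      exact (NatIso.isIso_map_iff ((FTors.gammaT 𝔛 h).mapHomotopyCategoryFactors (ComplexShape.up ℤ)) (incl I)).2
        (@Functor.map_isIso _ _ _ _ _ _ (q) (((FTors.gammaT 𝔛 h).mapHomologicalComplex (ComplexShape.up ℤ)).map (incl I)) this)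
    have h1 : IsIso ((R).map (DerivedCategory.Qh.map f)) := by
      have : IsIso ((η).app ((q).obj (TC I)) ≫ (R).map (DerivedCategory.Qh.map f)) := by
        rw [show (η).app ((q).obj (TC I)) ≫ (R).map (DerivedCategory.Qh.map f) =
          (FTors.gammaKh (FTors.openIdealFam 𝔛 h)).map f ≫ (η).app ((q).obj I) from ((η).naturality f).symm]
        infer_instance
      exact IsIso.of_isIso_comp_left ((η).app ((q).obj (TC I))) _
    have h2 : IsIso ((R).map ((FTors.gammaτ (FTors.openIdealFam 𝔛 h)).app ((q).obj I))) := by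
      rw [gammaτ_app, Functor.map_comp]
      exact IsIso.comp_isIso' inferInstance h1
    rw [← unit_comp_ε, Functor.map_comp] at h2
    exact IsIso.of_isIso_comp_left ((R).map ((η).app ((q).obj I))) _
  have e1 : (R).map ((ε).app F) = (R).map ((R).map e.hom) ≫
      (R).map ((ε).app (DerivedCategory.Qh.obj ((q).obj I))) ≫ (R).map e.inv := by
    rw [← Functor.map_comp, ← Functor.map_comp]
    congr 1
    rw [← Category.assoc, (ε).naturality e.hom]
    simp
  rw [e1]
  infer_instance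

/-- `RΓ'` is the coreflection to complexes with torsion cohomology. -/
theorem comp_ε_bijective (hN : 𝔛.IsLocNoethFormal) {E F : DerivedCategory (FSch.ModF 𝔛 h)}
    (hE : FTors.IsDTorsF 𝔛 h E) :
    Function.Bijective (fun φ : E ⟶ (R).obj F => φ ≫ (ε).app F) := by
  haveI := (isIso_ε_iff hN E).2 hE
  haveI := (isIso_ε_iff hN ((R).obj F)).2 (isDTorsF_R F)
  haveI := isIso_map_ε hN F
  refine ⟨fun a b hab => ?_, fun ψ => ⟨inv ((ε).app E) ≫ (R).map ψ, ?_⟩⟩
  · have h1 : (R).map a = (R).map b := by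
      rw [← cancel_mono ((R).map ((ε).app F)), ← Functor.map_comp, ← Functor.map_comp]
      exact congrArg _ hab
    have na := (ε).naturality a
    have nb := (ε).naturality b
    rw [h1, nb] at na
    exact ((cancel_epi ((ε).app E)).1 na).symm
  · refine (Category.assoc _ _ _).trans ((IsIso.inv_comp_eq _).2 ?_)
    exact (ε).naturality ψ

end GrothLib.Gam7
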