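import Groth.Agent.Lib.FCat7.FreeSect
import Groth.Agent.Lib.ModSupp25.Restr
import Mathlib.CategoryTheory.Abelian.Images

/-!
# Solving linear equations in sections of an injective sheaf of modules
-/

set_option autoImplicit false
set_option linter.style.haveILetI false
set_option linter.unusedSectionVars false
universe u

open CategoryTheory CategoryTheory.Limits Opposite TopologicalSpace

noncomputable section

namespace GrothLib.Gam7

open GrothLib.FMod7 GrothLib.LocFac25 GrothLib.FCat7

variable {T : TopCat.{u}} {O : Sheaf (Opens.grothendieckTopology T) CommRingCat.{u}}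

theorem app_fdesc {V : Opens T} {ι : Type u} [Fintype ι] {N : ModSite.Mod (O.over V)}
    (s : ι → (SheafOfModules.unit _ ⟶ N)) (W : Over V)
    (pr : ι → (SheafOfModules.free (R := ModSite.ringSh (O.over V)) ι ⟶ SheafOfModules.unit _))
    (hpr : ∑ j, pr j ≫ SheafOfModules.ιFree j = 𝟙 _) (x : osect (freeO O V ι) W) :
    oHom (fdesc s) W x = ∑ j, (show O.obj.obj (op W.left) from oHom (pr j) W x) • valAt (s j) W := by
  have h1 : fdesc s = ∑ j, pr j ≫ s j := by
    refine ((Category.id_comp (fdesc s)).symm.trans (congrArg (· ≫ fdesc s) hpr.symm)).trans ?_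
    refine (Preadditive.sum_comp _ _ _).trans ?_
    exact Finset.sum_congr rfl fun j _ => (Category.assoc _ _ _).trans (congrArg (pr j ≫ ·) (ιFree_fdesc s j))
  rw [h1]
  refine (map_sum (AddMonoidHom.mk' (fun φ : freeO O V ι ⟶ N => oHom φ W x) fun _ _ => rfl) _ _).trans ?_
  exact Finset.sum_congr rfl fun j _ => app_one W (s j) _

/-- Equations `c i • y = v i` have a solution in an injective module when the right hand sides satisfy all
relations of the coefficients. -/
theorem exists_of_injective (J : ModSite.Mod O) [Injective J] (V : Opens T) {ι : Type u} [Fintype ι]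
    (c : ι → O.obj.obj (op V)) (v : ι → ModSite.sect J V)
    (hv : ∀ (W : Opens T) (hW : W ≤ V) (a : ι → O.obj.obj (op W)),
      ∑ i, a i * ores O hW (c i) = 0 → ∑ i, a i • sres J hW (v i) = 0) :
    ∃ y : ModSite.sect J V, ∀ i, c i • y = v i := by
  classical
  obtain ⟨pr, hpr⟩ := exists_proj (O := O) (V := V) ι
  choose γ hγ using fun i => ev_surjective (O := O) (M := SheafOfModules.unit _) (V := V) (c i)
  choose α hα using fun i => ev_surjective (O := O) (M := (ModSite.restr O V).obj J) (V := V) (v i)
  haveI := ModSupp25.injective_restr O V J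
  let φ := fdesc γ
  let ψ := fdesc α
  have h : kernel.ι φ ≫ ψ = 0 := by
    refine SheafOfModules.hom_ext (PresheafOfModules.hom_ext fun W => ModuleCat.hom_ext (LinearMap.ext fun k => ?_))
    obtain ⟨W⟩ := W
    let z : osect (freeO O V ι) W := oHom (kernel.ι φ) W k
    have hz : oHom φ W z = 0 := congrArg (fun f : kernel φ ⟶ _ => oHom f W k) (kernel.condition φ)
    show oHom ψ W z = 0
    rw [app_fdesc γ W pr hpr] at hz
    rw [app_fdesc α W pr hpr]
    refine Eq.trans (Finset.sum_congr rfl fun i _ => ?_)
      (hv W.left W.hom.le (fun i => (show O.obj.obj (op W.left) from oHom (pr i) W z)) ?_)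
    · refine congrArg (fun q : ModSite.sect J W.left => (show O.obj.obj (op W.left) from oHom (pr i) W z) • q) ?_
      exact (evAt_eq_res W (α i)).trans (congrArg (sres J W.hom.le) (hα i))
    · refine Eq.trans (Finset.sum_congr rfl fun i _ => ?_) hz
      refine congrArg (fun q : O.obj.obj (op W.left) => (show O.obj.obj (op W.left) from oHom (pr i) W z) * q) ?_
      refine Eq.trans ?_ (map_evAt (γ i) (Over.homMk W.hom (Category.comp_id _) : W ⟶ Over.mk (𝟙 V)))
      exact congrArg (ores O W.hom.le) (hγ i).symm
  let m : Abelian.coimage φ ⟶ SheafOfModules.unit _ := Abelian.coimageImageComparison φ ≫ Abelian.image.ι φ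
  have hm : Abelian.coimage.π φ ≫ m = φ := Abelian.coimage_image_factorisation φ
  let g : SheafOfModules.unit _ ⟶ (ModSite.restr O V).obj J := Injective.factorThru (cokernel.desc _ ψ h) m
  have hg : φ ≫ g = ψ := by
    rw [← hm, Category.assoc, Injective.comp_factorThru]
    exact cokernel.π_desc _ _ _
  refine ⟨ev g, fun i => ?_⟩
  have e := congrArg (SheafOfModules.ιFree i ≫ ·) hg
  simp only [φ, ψ] at e
  rw [← Category.assoc, ιFree_fdesc, ιFree_fdesc] at e
  refine Eq.trans ?_ (hα i)
  rw [← e]
  refine Eq.trans ?_ (evAt_comp (W := Over.mk (𝟙 V)) (γ i) g).symm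
  exact congrArg (fun q : (ModSite.ringSh (O.over V)).obj.obj (op (Over.mk (𝟙 V))) => q • ev g) (hγ i).symm

end GrothLib.Gam7
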