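import Groth.Agent.Lib.Gam7.Vanish
import Groth.Agent.Lib.DerComp.Rep

/-!
# Sections of the generator at an open
-/

set_option autoImplicit false
set_option linter.style.haveILetI false
set_option linter.unusedSectionVars false
universe u

open CategoryTheory CategoryTheory.Limits AlgebraicGeometry TopologicalSpace Opposite

noncomputable section

namespace GrothLib.Gam7

open GrothLib.FMod7 GrothLib.FCat7

variable {𝔛 : FSch.Sys.{u}} {h : 𝔛.IsFormal} {W : (𝔛.X 0).Opens}

variable (h W) in
/-- The generator at an open. -/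
abbrev Pgen : FSch.ModF 𝔛 h := (SiteDer.freeMod (𝔛.Osh h)).obj W

variable (h W) in
/-- The corepresentation of sections by the generator. -/
abbrev pRep : DerComp.SecRep (Pgen h W) W := DerComp.freeModRep (𝔛.Osh h) W

variable (h W) in
/-- The tautological section. -/
def one : ModSite.sect (Pgen h W) W := (pRep h W).eqv (Pgen h W) (𝟙 _)

theorem sHom_mulEnd_one (t : Sec 𝔛 h W) : sHom ((pRep h W).mulEnd t) W (one h W) = t • one h W := by
  refine ((pRep h W).comp (𝟙 _) ((pRep h W).mulEnd t)).symm.trans ?_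
  rw [Category.id_comp, DerComp.SecRep.mulEnd, Equiv.apply_symm_apply]
  rfl

/-- Every section of the generator is locally a multiple of the tautological one. -/
theorem exists_span_one {V : (𝔛.X 0).Opens} (z : ModSite.sect (Pgen h W) V) {p : 𝔛.X 0} (hp : p ∈ V) :
    ∃ (V' : (𝔛.X 0).Opens) (hV : V' ≤ V), p ∈ V' ∧ sres _ hV z ∈ spanAt (Pgen h W) (fun _ : PUnit.{u + 1} => W)
      (fun _ => one h W) V' := by
  let U : PUnit.{u + 1} → (𝔛.X 0).Opens := fun _ => W
  let s : ∀ i, ModSite.sect (Pgen h W) (U i) := fun _ => one h W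
  haveI : Epi (genIncl (Pgen h W) U s) := Preadditive.epi_of_cancel_zero _ fun {Z} g hg => by
    refine (pRep h W).hom_ext ?_
    rw [(pRep h W).eqv_zero, (pRep h W).eqv_eq]
    obtain ⟨x', hx'⟩ := exists_genMod_sect (Pgen h W) U s (mem_genSet (Pgen h W) U s PUnit.unit)
    exact (congrArg (sHom g W) hx'.symm).trans (sHom_eq_zero hg W x')
  haveI := isIso_of_mono_of_epi (genIncl (Pgen h W) U s)
  have hz : sHom (genIncl (Pgen h W) U s) V (sHom (inv (genIncl (Pgen h W) U s)) V z) = z :=
    (sHom_comp _ _ V z).symm.trans (congrArg (fun φ : Pgen h W ⟶ Pgen h W => sHom φ V z) (IsIso.inv_hom_id _))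
  obtain ⟨V', hV, hp', hm⟩ := sHom_genIncl_mem (Pgen h W) U s (sHom (inv (genIncl (Pgen h W) U s)) V z) p hp
  rw [hz] at hm
  exact ⟨V', hV, hp', hm⟩

/-- The generator vanishes outside its open. -/
theorem germZero_Pgen {p : 𝔛.X 0} (hp : p ∉ W) : GermZero (Pgen h W) p := fun V hpV z => by
  obtain ⟨V', hV, hp', hm⟩ := exists_span_one z hpV
  refine ⟨V', hV, hp', ?_⟩
  rw [spanAt, Set.range_eq_empty_iff.2 ⟨fun i => hp (i.2 hp')⟩, Submodule.span_empty, Submodule.mem_bot] at hm
  exact hm

/-- An endomorphism of the generator is multiplication by its scalar on sections inside the open. -/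
theorem sHom_mulEnd (t : Sec 𝔛 h W) {V : (𝔛.X 0).Opens} (hV : V ≤ W) (z : ModSite.sect (Pgen h W) V) :
    sHom ((pRep h W).mulEnd t) V z = rRes hV t • z := by
  refine FMod7.sect_ext _ _ _ fun p hp => ?_
  obtain ⟨V', hV', hp', hm⟩ := exists_span_one z hp
  refine ⟨V', hV', hp', ?_⟩
  show sres _ hV' (sHom ((pRep h W).mulEnd t) V z) = sres _ hV' (rRes hV t • z)
  rw [← sHom_res, sres_smul, rRes_rRes]
  refine Submodule.span_induction ?_ ?_ ?_ ?_ hm
  · rintro _ ⟨i, rfl⟩
    rw [sHom_res, sHom_mulEnd_one, sres_smul]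
  · rw [map_zero, smul_zero]
  · intro x y _ _ hx hy
    rw [map_add, smul_add, hx, hy]
  · intro c x _ hx
    rw [map_smul, hx, smul_comm]

end GrothLib.Gam7
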