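import Groth.Agent.Lib.Gam7.Nil
import Mathlib.Algebra.Homology.HomologicalComplex
import Mathlib.Algebra.Homology.ShortComplex.HomologicalComplex

/-!
# Complexes of injective modules with torsion cohomology: reduction of sections to torsion sections
-/

set_option autoImplicit false
set_option linter.style.haveILetI false
set_option linter.unusedSectionVars false
universe u

open CategoryTheory CategoryTheory.Limits AlgebraicGeometry TopologicalSpace Opposite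

noncomputable section

namespace GrothLib.Gam7

open GrothLib.FMod7 GrothLib.FCat7

variable {𝔛 : FSch.Sys.{u}} {h : 𝔛.IsFormal}

/-- A section killed by the differential is locally a boundary after multiplication by a power of a function
of the ideal of definition, when the homology is torsion. -/
theorem exists_pow_smul_eq_d (hN : 𝔛.IsLocNoethFormal) (S : ShortComplex (FSch.ModF 𝔛 h))
    (hS : FTors.IsTorsF 𝔛 h S.homology) {W : (𝔛.X 0).Opens} (hW : IsAffineOpen W) (x : ModSite.sect S.X₂ W)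
    (hx : sHom S.g W x = 0) {t : Sec 𝔛 h W} (ht : t ∈ secIdeal 𝔛 h W) {p : 𝔛.X 0} (hp : p ∈ W) :
    ∃ (W' : (𝔛.X 0).Opens) (hW' : W' ≤ W) (n : ℕ) (y : ModSite.sect S.X₁ W'), IsAffineOpen W' ∧ p ∈ W' ∧
      sHom S.f W' y = rRes hW' t ^ n • sres S.X₂ hW' x := by
  obtain ⟨k, hk⟩ := exists_kernel_sect S.g W x hx
  let c : ModSite.sect S.cycles W := sHom S.cyclesIsoKernel.inv W k
  have hc : sHom S.iCycles W c = x := by
    refine (sHom_comp S.cyclesIsoKernel.inv S.iCycles W k).symm.trans (Eq.trans ?_ hk)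
    refine congrArg (fun φ : kernel S.g ⟶ S.X₂ => sHom φ W k) ?_
    simp
  obtain ⟨N, hN'⟩ := (LocNil.of_isTorsSect (t := t) hN (hS W (sHom S.homologyπ W c)) hW ht).exists_pow hW.isCompact
  obtain ⟨W₁, hW₁, hpW₁, y, hy⟩ := exists_local_preimage_of_exact (ShortComplex.mk S.toCycles S.homologyπ (by simp))
    (ShortComplex.exact_of_g_is_cokernel _ S.homologyIsCokernel) (t ^ N • c)
    ((map_smul (sHom S.homologyπ W) _ _).trans hN') hp
  obtain ⟨W', hW'a, hpW', hW'₁⟩ := exists_isAffineOpen_mem_and_subset (x := p) (U := W₁) hpW₁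
  have hle : W' ≤ W₁ := hW'₁
  refine ⟨W', hle.trans hW₁, N, sres S.X₁ hle y, hW'a, hpW', ?_⟩
  have e : sHom S.f W₁ y = sres S.X₂ hW₁ (t ^ N • x) := by
    rw [← hc, ← map_smul, ← sHom_res]
    refine Eq.trans ?_ (congrArg (sHom S.iCycles W₁) hy)
    exact congrArg (fun φ : S.X₁ ⟶ S.X₂ => sHom φ W₁ y) S.toCycles_i.symm
  rw [sHom_res, e, sres_sres, sres_smul, map_pow]

variable (hN : 𝔛.IsLocNoethFormal) (I : CochainComplex (FSch.ModF 𝔛 h) ℤ)
  (hI : ∀ n, Injective (I.X n)) (hH : ∀ n, FTors.IsTorsF 𝔛 h (I.homology n))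
  {V : (𝔛.X 0).Opens} (hV : IsAffineOpen V) {r : ℕ} (s : Fin r → Sec 𝔛 h V)
  (hs : ∀ i, s i ∈ secIdeal 𝔛 h V)

/-- Locally killed by powers of the first `k` functions, on an open inside `V`. -/
abbrev P {W : (𝔛.X 0).Opens} (hWV : W ≤ V) (k : ℕ) {M : FSch.ModF 𝔛 h} (x : ModSite.sect M W) : Prop :=
  Nil (fun i => rRes hWV (s i)) k x

theorem P.res {W W' : (𝔛.X 0).Opens} {hWV : W ≤ V} {k : ℕ} {M : FSch.ModF 𝔛 h} {x : ModSite.sect M W}
    (hx : P s hWV k x) (hW' : W' ≤ W) : P s (hW'.trans hWV) k (sres M hW' x) := by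
  have := Nil.res hx hW'
  simp only [rRes_rRes] at this
  exact this

theorem d_d {i j k : ℤ} {W : (𝔛.X 0).Opens} (x : ModSite.sect (I.X i) W) :
    sHom (I.d j k) W (sHom (I.d i j) W x) = 0 :=
  sHom_eq_zero (I.d_comp_d i j k) W x

include hN hH hV hs in
theorem exists_pow_smul_eq_d' {i j k : ℤ} (hij : i + 1 = j) (hjk : j + 1 = k) {W : (𝔛.X 0).Opens} (hWV : W ≤ V)
    (hW : IsAffineOpen W) (x : ModSite.sect (I.X j) W) (hx : sHom (I.d j k) W x = 0) (l : Fin r)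
    {p : 𝔛.X 0} (hp : p ∈ W) :
    ∃ (W' : (𝔛.X 0).Opens) (hW' : W' ≤ W) (n : ℕ) (y : ModSite.sect (I.X i) W'), IsAffineOpen W' ∧ p ∈ W' ∧
      sHom (I.d i j) W' y = rRes (hW'.trans hWV) (s l) ^ n • sres (I.X j) hW' x := by
  have ht : rRes hWV (s l) ∈ secIdeal 𝔛 h W := (map_secIdeal hN hV hW hWV).le (Ideal.mem_map_of_mem _ (hs l))
  obtain ⟨W', hW', n, y, ha, hp', e⟩ := exists_pow_smul_eq_d hN (I.sc' i j k)
    (isTorsF_of_mono ((ShortComplex.homologyMapIso (I.isoSc' i j k (by simp; omega) (by simp; omega))).inv) (hH j))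
    hW x hx ht hp
  rw [rRes_rRes] at e
  exact ⟨W', hW', n, y, ha, hp', e⟩

include hN hI hH hV hs in
/-- A boundary killed by powers is locally the boundary of a section killed by powers. -/
theorem exists_nil_of_nil_d : ∀ k, k ≤ r → ∀ (i j : ℤ), i + 1 = j → ∀ (W : (𝔛.X 0).Opens) (hWV : W ≤ V),
    IsAffineOpen W → ∀ y : ModSite.sect (I.X i) W, P s hWV k (sHom (I.d i j) W y) → ∀ p ∈ W,
    ∃ (W' : (𝔛.X 0).Opens) (hW' : W' ≤ W) (y' : ModSite.sect (I.X i) W'), IsAffineOpen W' ∧ p ∈ W' ∧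
      P s (hW'.trans hWV) k y' ∧ sHom (I.d i j) W' y' = sres (I.X j) hW' (sHom (I.d i j) W y) := by
  intro k
  induction k with
  | zero => exact fun _ i j _ W hWV hW y _ p hp =>
      ⟨W, le_rfl, y, hW, hp, Nil.zero_idx, (sres_id (M := I.X j) _).symm⟩
  | succ k ih =>
    intro hk i j hij W hWV hW y hy p hp
    have hk' : k ≤ r := Nat.le_of_succ_le hk
    let l : Fin r := ⟨k, hk⟩
    obtain ⟨W₁, h₁, y₁, hW₁, hp₁, hy₁, e₁⟩ := ih hk' i j hij W hWV hW y (hy.mono k.le_succ) p hp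
    obtain ⟨n, hn⟩ := ((hy.res s h₁) l (Nat.lt_succ_self k)).exists_pow hW₁.isCompact
    obtain ⟨W₂, h₂, m, w, hW₂, hp₂, e₂⟩ := exists_pow_smul_eq_d' hN I hH hV s hs
      (show i - 1 + 1 = i by omega) hij (h₁.trans hWV) hW₁ (rRes (h₁.trans hWV) (s l) ^ n • y₁)
      (by rw [map_smul, e₁]; exact hn) l hp₁
    have hPw : P s (h₂.trans (h₁.trans hWV)) k (sHom (I.d (i - 1) i) W₂ w) := by
      rw [e₂]
      exact Nil.smul (P.res s (Nil.smul hy₁ _) h₂) _
    obtain ⟨W₃, h₃, w', hW₃, hp₃, hw', e₃⟩ := ih hk' (i - 1) i (by omega) W₂ _ hW₂ w hPw p hp₂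
    let h₀ : W₃ ≤ V := h₃.trans (h₂.trans (h₁.trans hWV))
    haveI := hI (i - 1)
    obtain ⟨z, hz, hzt⟩ := hw'.exists_split hN hW₃ (rRes h₀ (s l)) (m + n)
    refine ⟨W₃, h₃.trans (h₂.trans h₁), sres (I.X i) (h₃.trans h₂) y₁ - sHom (I.d (i - 1) i) W₃ z, hW₃, hp₃,
      ?_, ?_⟩
    · refine Nil.succ (j := l) (Nil.sub (hy₁.res s (h₃.trans h₂)) (hz.hom _)) (LocNil.of_pow_smul (n := m + n) ?_)
      have e : sHom (I.d (i - 1) i) W₃ (w' - rRes h₀ (s l) ^ (m + n) • z) = rRes h₀ (s l) ^ (m + n) •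
          (sres (I.X i) (h₃.trans h₂) y₁ - sHom (I.d (i - 1) i) W₃ z) := by
        rw [map_sub, map_smul, smul_sub, e₃, e₂]
        congr 1
        rw [sres_smul, sres_smul, sres_smul, map_pow, map_pow, map_pow, rRes_rRes, rRes_rRes, rRes_rRes, sres_sres,
          smul_smul, ← pow_add]
      exact e ▸ hzt.hom _
    · rw [map_sub, d_d, sub_zero, sHom_res, e₁, sres_sres]

include hN hI hH hV hs in
/-- A cycle is locally homologous to one killed by powers. -/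
theorem exists_nil_cycle : ∀ k, k ≤ r → ∀ (i j : ℤ), i + 1 = j → ∀ (W : (𝔛.X 0).Opens) (hWV : W ≤ V),
    IsAffineOpen W → ∀ x : ModSite.sect (I.X j) W, sHom (I.d j (j + 1)) W x = 0 → ∀ p ∈ W,
    ∃ (W' : (𝔛.X 0).Opens) (hW' : W' ≤ W) (z : ModSite.sect (I.X i) W'), IsAffineOpen W' ∧ p ∈ W' ∧
      P s (hW'.trans hWV) k (sres (I.X j) hW' x - sHom (I.d i j) W' z) := by
  intro k
  induction k with
  | zero => exact fun _ i j _ W hWV hW x _ p hp => ⟨W, le_rfl, 0, hW, hp, Nil.zero_idx⟩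
  | succ k ih =>
    intro hk i j hij W hWV hW x hx p hp
    have hk' : k ≤ r := Nat.le_of_succ_le hk
    let l : Fin r := ⟨k, hk⟩
    obtain ⟨W₁, h₁, z₁, hW₁, hp₁, hx₁⟩ := ih hk' i j hij W hWV hW x hx p hp
    obtain ⟨W₂, h₂, n, y, hW₂, hp₂, e₂⟩ := exists_pow_smul_eq_d' hN I hH hV s hs hij rfl (h₁.trans hWV) hW₁
      (sres (I.X j) h₁ x - sHom (I.d i j) W₁ z₁)
      (by rw [map_sub, sHom_res, hx, d_d, sub_zero]; exact map_zero _) l hp₁
    obtain ⟨W₃, h₃, y', hW₃, hp₃, hy', e₃⟩ := exists_nil_of_nil_d hN I hI hH hV s hs k hk' i j hij W₂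
      (h₂.trans (h₁.trans hWV)) hW₂ y (by rw [e₂]; exact (hx₁.res s h₂).smul _) p hp₂
    let h₀ : W₃ ≤ V := h₃.trans (h₂.trans (h₁.trans hWV))
    haveI := hI i
    obtain ⟨z₂, hz₂, hzt⟩ := hy'.exists_split hN hW₃ (rRes h₀ (s l)) n
    refine ⟨W₃, h₃.trans (h₂.trans h₁), sres (I.X i) (h₃.trans h₂) z₁ + z₂, hW₃, hp₃, ?_⟩
    have ex : sres (I.X j) (h₃.trans (h₂.trans h₁)) x - sHom (I.d i j) W₃ (sres (I.X i) (h₃.trans h₂) z₁ + z₂) =
        sres (I.X j) (h₃.trans h₂) (sres (I.X j) h₁ x - sHom (I.d i j) W₁ z₁) - sHom (I.d i j) W₃ z₂ := by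
      rw [map_add, sres_sub, sres_sres, sHom_res, sub_add_eq_sub_sub]
    rw [ex]
    refine Nil.succ (j := l) (Nil.sub (hx₁.res s (h₃.trans h₂)) (hz₂.hom _)) (LocNil.of_pow_smul (n := n) ?_)
    have e : sHom (I.d i j) W₃ (y' - rRes h₀ (s l) ^ n • z₂) = rRes h₀ (s l) ^ n •
        (sres (I.X j) (h₃.trans h₂) (sres (I.X j) h₁ x - sHom (I.d i j) W₁ z₁) - sHom (I.d i j) W₃ z₂) := by
      rw [map_sub, map_smul, smul_sub, e₃, e₂]
      congr 1
      rw [sres_smul, map_pow, rRes_rRes, sres_sres]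
    exact e ▸ hzt.hom _

end GrothLib.Gam7
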