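import Groth.Agent.Lib.Gam7.KappaDerived
import Groth.Agent.Lib.Tors7.Derived
import Groth.Agent.Lib.PAlg7.Torsion

/-!
# Complexes with torsion cohomology on a scheme and on its completion
-/

set_option autoImplicit false
set_option linter.style.haveILetI false
set_option linter.unusedSectionVars false
set_option backward.isDefEq.respectTransparency false
universe u

open CategoryTheory CategoryTheory.Limits AlgebraicGeometry TopologicalSpace Opposite

attribute [local instance] HasDerivedCategory.standard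

noncomputable section

namespace GrothLib.Gam7

open GrothLib.FMod7 GrothLib.FCat7

variable {X : Scheme.{u}} [IsLocallyNoetherian X] {𝓘 : X.IdealSheafData}
  {h : (FSch.completionAlong X 𝓘).IsFormal} [PreservesFiniteLimits (complMor h).pull]

local notation "CC" => FSch.completionAlong X 𝓘
local notation "κ" => SiteCmp.pullD (complMor h)
set_option quotPrecheck false in
local notation "UU" => Adjunction.unit (Tors7.dAdj (h := h))

theorem isDTorsF_pullD {T : DerivedCategory (ModSite.Mod X.sheaf)} (hT : FTors.IsDTorsZp X 𝓘 T) :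
    FTors.IsDTorsF CC h ((κ).obj T) := fun i =>
  Tors7.isTors_of_iso (Tors7.nonempty_hMod_pullD (h := h) T i).some.symm (Tors7.isTorsF_pull (hT i))

theorem isIso_unit_of_isDTorsZp {T : DerivedCategory (ModSite.Mod X.sheaf)} (hT : FTors.IsDTorsZp X 𝓘 T) :
    IsIso ((UU).app T) :=
  PAlg7.isIso_unit_mapDerivedAdj (complMor h).adj T fun i => Tors7.isIso_unit (hT i)

theorem bijective_map_of_isIso_unit (T T' : DerivedCategory (ModSite.Mod X.sheaf)) [IsIso ((UU).app T')] :
    Function.Bijective (fun φ : T ⟶ T' => (κ).map φ) := by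
  let adj := Tors7.dAdj (h := h)
  refine (Function.Bijective.of_comp_iff' (adj.homEquiv T ((κ).obj T')).bijective _).1 ?_
  have e : (adj.homEquiv T ((κ).obj T')) ∘ (fun φ : T ⟶ T' => (κ).map φ) = fun φ => φ ≫ adj.unit.app T' :=
    funext fun φ => by
      simp only [Function.comp_apply]
      rw [Adjunction.homEquiv_unit]
      exact (adj.unit.naturality φ).symm
  exact e ▸ (asIso (adj.unit.app T')).homToEquiv.bijective

theorem isDTorsZp_push {E : DerivedCategory (FSch.ModF CC h)} (hE : FTors.IsDTorsF CC h E) :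
    FTors.IsDTorsZp X 𝓘 ((complMor h).push.mapDerivedCategory.obj E) := fun i =>
  Tors7.isTors_of_iso (DerTrunc.nonempty_homology_mapDerivedCategory (complMor h).push E i).some.symm
    (Tors7.isTorsZp_push (hE i))

variable [FTors.HasRgammaT (FSch.completionAlong X 𝓘) h] [FTors.HasRgammaZp X 𝓘]

local notation "RZ" => FTors.RgammaZp X 𝓘
local notation "εZ" => FTors.RgammaZpε X 𝓘

set_option maxHeartbeats 800000 in
theorem isIso_unit_rgammaZp (F : DerivedCategory (ModSite.Mod X.sheaf)) : IsIso ((UU).app ((RZ).obj F)) := by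
  haveI : IsGrothendieckAbelian.{u} (ModSite.Mod X.sheaf) := KInj.isGrothendieckAbelian_sheafOfModules _
  haveI := Localization.essSurj (DerivedCategory.Qh (C := ModSite.Mod X.sheaf))
    (HomotopyCategory.subcategoryAcyclic (ModSite.Mod X.sheaf)).trW
  let q := HomotopyCategory.quotient (ModSite.Mod X.sheaf) (ComplexShape.up ℤ)
  obtain ⟨J, i, hi, hJ, -⟩ :=
    KInj.exists_kInjective_resolution (ModSite.Mod X.sheaf) (DerivedCategory.Qh.objPreimage F).as
  haveI := hJ
  have : IsIso (DerivedCategory.Qh.map (q.map i)) := by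
    refine Localization.inverts DerivedCategory.Qh (HomotopyCategory.quasiIso _ (ComplexShape.up ℤ)) _ ?_
    rwa [HomotopyCategory.quotient_map_mem_quasiIso_iff, HomologicalComplex.mem_quasiIso_iff]
  obtain ⟨θ, -⟩ := exists_rgamma_iso (FTors.powIdealFam X 𝓘) J ((DerivedCategory.Qh.objObjPreimageIso F).symm ≪≫
    @asIso _ _ _ _ (DerivedCategory.Qh.map (q.map i)) this)
  let G := GC (FTors.powIdealFam X 𝓘) J
  let e : DerivedCategory.Q.obj G ≅ (RZ).obj F := (DerivedCategory.quotientCompQhIso _).symm.app G ≪≫ θ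
  rw [← NatTrans.isIso_app_iff_of_iso (UU) e]
  have hq : QuasiIso ((KInj.mapComplexAdj (complMor h).adj (ComplexShape.up ℤ)).unit.app G) := by
    have : IsIso ((KInj.mapComplexAdj (complMor h).adj (ComplexShape.up ℤ)).unit.app G) := by
      refine @HomologicalComplex.Hom.isIso_of_components _ _ _ _ _ _ _ _ fun n => ?_
      exact Tors7.isIso_unit (isTors_gamma (FTors.powIdealFam X 𝓘) (J.X n))
    infer_instance
  letI : CatCommSq ((complMor h).pull.mapHomologicalComplex (ComplexShape.up ℤ)) DerivedCategory.Q DerivedCategory.Q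
      (complMor h).pull.mapDerivedCategory := ⟨(complMor h).pull.mapDerivedCategoryFactors.symm⟩
  letI : CatCommSq ((complMor h).push.mapHomologicalComplex (ComplexShape.up ℤ)) DerivedCategory.Q DerivedCategory.Q
      (complMor h).push.mapDerivedCategory := ⟨(complMor h).push.mapDerivedCategoryFactors.symm⟩
  show IsIso ((DerCat.mapDerivedAdj (complMor h).adj).unit.app (DerivedCategory.Q.obj G))
  rw [show (DerCat.mapDerivedAdj (complMor h).adj).unit.app (DerivedCategory.Q.obj G) = _ from
    Adjunction.localization_unit_app _ _ _ _ _ _ _ G]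
  have : IsIso (DerivedCategory.Q.map ((KInj.mapComplexAdj (complMor h).adj (ComplexShape.up ℤ)).unit.app G)) :=
    Localization.inverts DerivedCategory.Q (HomologicalComplex.quasiIso _ (ComplexShape.up ℤ)) _ hq
  infer_instance

include h in
theorem isDTorsZp_rgammaZp (F : DerivedCategory (ModSite.Mod X.sheaf)) : FTors.IsDTorsZp X 𝓘 ((RZ).obj F) := by
  haveI := isIso_unit_rgammaZp (h := h) F
  exact fun i => Tors7.isTors_of_iso
    ((DerivedCategory.homologyFunctor _ i).mapIso (asIso ((UU).app ((RZ).obj F))).symm)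
    (isDTorsZp_push (isDTorsF_pullD_and_isIso_R_map (h := h) F).1 i)

include h in
theorem isIso_εZ {T : DerivedCategory (ModSite.Mod X.sheaf)} (hT : FTors.IsDTorsZp X 𝓘 T) :
    IsIso ((εZ).app T) := by
  obtain ⟨e, he, -⟩ := existsUnique_iso (h := h) T
  haveI := (isIso_ε_iff (Tors7.hN (X := X) (𝓘 := 𝓘)) ((κ).obj T)).2 (isDTorsF_pullD hT)
  haveI : IsIso ((κ).map ((εZ).app T)) := by
    rw [← he]
    infer_instance
  haveI := isIso_unit_rgammaZp (h := h) T
  haveI := isIso_unit_of_isDTorsZp (h := h) hT
  have h2 := (UU).naturality ((εZ).app T)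
  have : IsIso ((εZ).app T ≫ (UU).app T) := by
    rw [show (εZ).app T ≫ (UU).app T = (UU).app ((RZ).obj T) ≫
      (complMor h).push.mapDerivedCategory.map ((κ).map ((εZ).app T)) from h2]
    infer_instance
  exact IsIso.of_isIso_comp_right ((εZ).app T) ((UU).app T)

include h in
/-- The derived torsion part on a scheme is the coreflection to torsion cohomology. -/
theorem comp_εZ_bijective {T F : DerivedCategory (ModSite.Mod X.sheaf)} (hT : FTors.IsDTorsZp X 𝓘 T) :
    Function.Bijective (fun φ : T ⟶ (RZ).obj F => φ ≫ (εZ).app F) := by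
  refine ⟨fun a b hab => ?_, fun ψ => ?_⟩
  · haveI := isIso_unit_rgammaZp (h := h) F
    obtain ⟨e, he, -⟩ := existsUnique_iso (h := h) F
    refine (bijective_map_of_isIso_unit (h := h) T ((RZ).obj F)).1 ((cancel_mono e.hom).1 ?_)
    refine (comp_ε_bijective (Tors7.hN (X := X) (𝓘 := 𝓘)) (isDTorsF_pullD hT)).1 ?_
    simp only [Category.assoc, he, ← Functor.map_comp]
    exact congrArg _ hab
  · haveI := isIso_εZ (h := h) hT
    refine ⟨inv ((εZ).app T) ≫ (RZ).map ψ, ?_⟩
    exact (Category.assoc _ _ _).trans ((IsIso.inv_comp_eq _).2 ((εZ).naturality ψ))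

/-- The completion is bijective on maps from or to complexes with torsion cohomology. -/
theorem bijective_pullD_map (E F : DerivedCategory (ModSite.Mod X.sheaf))
    (hEF : FTors.IsDTorsZp X 𝓘 E ∨ FTors.IsDTorsZp X 𝓘 F) :
    Function.Bijective (fun φ : E ⟶ F => (κ).map φ) := by
  rcases hEF with hE | hF
  · haveI := isIso_unit_rgammaZp (h := h) F
    obtain ⟨e, he, -⟩ := existsUnique_iso (h := h) F
    have h1 : Function.Bijective (fun a : E ⟶ (RZ).obj F => (κ).map (a ≫ (εZ).app F)) := by
      have := (comp_ε_bijective (Tors7.hN (X := X) (𝓘 := 𝓘)) (F := (κ).obj F) (isDTorsF_pullD hE)).comp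
        (e.homToEquiv.bijective.comp (bijective_map_of_isIso_unit (h := h) E ((RZ).obj F)))
      refine (congrArg Function.Bijective (funext fun a => ?_)).mp this
      simp [Function.comp_apply, he]
    exact (Function.Bijective.of_comp_iff _ (comp_εZ_bijective (h := h) hE)).1 h1
  · haveI := isIso_unit_of_isDTorsZp (h := h) hF
    exact bijective_map_of_isIso_unit E F

/-- The derived torsion parts commute with the direct image of the completion. -/
theorem existsUnique_iso_push [SiteCmp.HasRpushD (complMor h)] (E : DerivedCategory (FSch.ModF CC h)) :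
    ∃! e : (RZ).obj ((SiteCmp.RpushD (complMor h)).obj E) ≅
        (SiteCmp.RpushD (complMor h)).obj ((FTors.RgammaT CC h).obj E),
      e.hom ≫ (SiteCmp.RpushD (complMor h)).map ((FTors.RgammaTε CC h).app E) =
        (εZ).app ((SiteCmp.RpushD (complMor h)).obj E) := by
  obtain ⟨j⟩ := Tors7.nonempty_RpushD_iso (h := h)
  let adj := (Tors7.dAdj (h := h)).ofNatIsoRight j.symm
  let P := SiteCmp.RpushD (complMor h)
  let ε' := (FTors.RgammaTε CC h).app E
  have hb : ∀ T : DerivedCategory (ModSite.Mod X.sheaf), FTors.IsDTorsZp X 𝓘 T → Function.Bijective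
      (fun φ : T ⟶ P.obj ((FTors.RgammaT CC h).obj E) => φ ≫ P.map ε') := fun T hT => by
    have := (adj.homEquiv T E).bijective.comp ((comp_ε_bijective (Tors7.hN (X := X) (𝓘 := 𝓘)) (F := E)
      (isDTorsF_pullD (h := h) hT)).comp (adj.homEquiv T ((FTors.RgammaT CC h).obj E)).symm.bijective)
    refine (congrArg Function.Bijective (funext fun φ => ?_)).mp this
    exact (adj.homEquiv_naturality_right _ ε').trans
      (congrArg (· ≫ P.map ε') ((adj.homEquiv T _).apply_symm_apply φ))
  have hX1 := isDTorsZp_rgammaZp (h := h) (P.obj E)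
  have hX2 : FTors.IsDTorsZp X 𝓘 (P.obj ((FTors.RgammaT CC h).obj E)) := fun i =>
    Tors7.isTors_of_iso ((DerivedCategory.homologyFunctor _ i).mapIso (j.app _).symm)
      (isDTorsZp_push (isDTorsF_R E) i)
  obtain ⟨g, hg⟩ := (hb _ hX1).2 ((εZ).app (P.obj E))
  obtain ⟨k, hk⟩ := (comp_εZ_bijective (h := h) (F := P.obj E) hX2).2 (P.map ε')
  have hg' : g ≫ P.map ε' = (εZ).app (P.obj E) := hg
  have hk' : k ≫ (εZ).app (P.obj E) = P.map ε' := hk
  refine ⟨⟨g, k, (comp_εZ_bijective (h := h) hX1).1 ?_, (hb _ hX2).1 ?_⟩, hg,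
    fun e he => Iso.ext ((hb _ hX1).1 (he.trans hg.symm))⟩
  · exact ((Category.assoc _ _ _).trans ((congrArg (g ≫ ·) hk').trans hg')).trans (Category.id_comp _).symm
  · exact ((Category.assoc _ _ _).trans ((congrArg (k ≫ ·) hg').trans hk')).trans (Category.id_comp _).symm

end GrothLib.Gam7
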