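import Groth.Agent.Lib.Gam7.SumQis
import Groth.Agent.Lib.Gam7.Derived
import Groth.Agent.Lib.RpushD7.CoprodPush
import Groth.Agent.Lib.RpushD7.Descend

/-!
# The derived torsion functor commutes with sums and has a right adjoint
-/

set_option autoImplicit false
set_option linter.style.haveILetI false
set_option linter.unusedSectionVars false
universe v' u' u

open CategoryTheory CategoryTheory.Limits AlgebraicGeometry TopologicalSpace Opposite Pretriangulated

attribute [local instance] HasDerivedCategory.standard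
attribute [local instance] Classical.decEq

noncomputable section

namespace GrothLib.Gam7

open GrothLib.FMod7 GrothLib.FCat7

/-- Invertibility of a map out of a coproduct only depends on the components up to isomorphism. -/
theorem isIso_desc_of_iso {C : Type u'} [Category.{v'} C] {α : Type u} {X X' : α → C} [HasCoproduct X]
    [HasCoproduct X'] {Y Y' : C} (e : ∀ a, X a ≅ X' a) (eY : Y ≅ Y') (f : ∀ a, X a ⟶ Y) (f' : ∀ a, X' a ⟶ Y')
    (hc : ∀ a, (e a).hom ≫ f' a = f a ≫ eY.hom) (hf : IsIso (Sigma.desc f)) : IsIso (Sigma.desc f') := by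
  let m : ∐ X' ⟶ ∐ X := Sigma.desc fun a => (e a).inv ≫ Sigma.ι X a
  haveI : IsIso m := ⟨Sigma.desc fun a => (e a).hom ≫ Sigma.ι X' a, Sigma.hom_ext _ _ fun a => by simp [m],
    Sigma.hom_ext _ _ fun a => by simp [m]⟩
  have he : Sigma.desc f' = m ≫ Sigma.desc f ≫ eY.hom := Sigma.hom_ext _ _ fun a => by
    simp [m, ← hc]
  rw [he]
  infer_instance

variable {𝔛 : FSch.Sys.{u}} {h : 𝔛.IsFormal}

local notation "q" => HomotopyCategory.quotient (FSch.ModF 𝔛 h) (ComplexShape.up ℤ)

/-- Cohomology of a complex in the derived category. -/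
def homIso (n : ℤ) :
    (q) ⋙ DerivedCategory.Qh ⋙ DerivedCategory.homologyFunctor (FSch.ModF 𝔛 h) n ≅
      HomologicalComplex.homologyFunctor (FSch.ModF 𝔛 h) (ComplexShape.up ℤ) n :=
  Functor.isoWhiskerLeft _ (DerivedCategory.homologyFunctorFactorsh _ n) ≪≫
    HomotopyCategory.homologyFunctorFactors _ _ n

variable [FTors.HasRgammaT 𝔛 h]

local notation "R" => FTors.RgammaT 𝔛 h
local notation "η" => Functor.totalRightDerivedUnit (FTors.gammaKh (FTors.openIdealFam 𝔛 h)) DerivedCategory.Qh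
  (HomotopyCategory.quasiIso (FSch.ModF 𝔛 h) (ComplexShape.up ℤ))

theorem isIso_homology_R_desc (hN : 𝔛.IsLocNoethFormal) {α : Type u}
    (E : α → DerivedCategory (FSch.ModF 𝔛 h)) [HasCoproduct E] (n : ℤ) :
    IsIso (Sigma.desc fun a => (DerivedCategory.homologyFunctor _ n).map ((R).map (Sigma.ι E a))) := by
  haveI : IsGrothendieckAbelian.{u} (FSch.ModF 𝔛 h) := KInj.isGrothendieckAbelian_sheafOfModules _
  choose I hI hX e using fun a => exists_kinj (E a)
  obtain ⟨J, hJ, hJX, ⟨eJ⟩⟩ := exists_kinj (∐ E)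
  haveI := hJ
  have hφ : ∀ a, ∃ φ : I a ⟶ J, DerivedCategory.Qh.map ((q).map φ) =
      (e a).some.inv ≫ Sigma.ι E a ≫ eJ.hom := fun a => by
    obtain ⟨f, hf⟩ := (CochainComplex.IsKInjective.Qh_map_bijective ((q).obj (I a)) J).2
      ((e a).some.inv ≫ Sigma.ι E a ≫ eJ.hom)
    obtain ⟨φ, rfl⟩ := (q).map_surjective f
    exact ⟨φ, hf⟩
  choose φ hφ using hφ
  let H := fun m => DerivedCategory.homologyFunctor (FSch.ModF 𝔛 h) m
  have hiso : ∀ m, IsIso (Sigma.desc fun a => HomologicalComplex.homologyMap (φ a) m) := fun m => by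
    refine isIso_desc_of_iso (fun a => (H m).mapIso (e a).some ≪≫ (homIso m).app (I a))
      ((H m).mapIso eJ ≪≫ (homIso m).app J) (fun a => (H m).map (Sigma.ι E a)) _ (fun a => ?_)
      (RpushD7.isIso_homologySigma E m)
    have n1 := (homIso (𝔛 := 𝔛) (h := h) m).hom.naturality (φ a)
    simp only [Functor.comp_map, HomologicalComplex.homologyFunctor_map] at n1
    simp only [Iso.trans_hom, Functor.mapIso_hom, Iso.app_hom, Category.assoc]
    rw [← n1, hφ, Functor.map_comp, Functor.map_comp]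
    simp only [H]
    simp only [Category.assoc, Iso.map_hom_inv_id_assoc]
  have hT := isIso_sigma_tmap hN I J φ (fun U p hp => by
    obtain ⟨V, hV, hpV, hVU⟩ := exists_isAffineOpen_mem_and_subset (x := p) (U := U) hp
    obtain ⟨r, s, hs⟩ := exists_gens (h := h) hN hV
    exact ⟨V, hVU, r, s, hV, hpV, hs, fun a m => @splits_of_injective _ _ hN _ (hX a m) _ _ s,
      fun m => @splits_of_injective _ _ hN _ (hJX m) _ _ s⟩) hiso n
  haveI hηI : ∀ a, IsIso ((η).app ((q).obj (I a))) := fun a => @isIso_unit_kinj _ _ _ (I a) (hI a)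
  haveI := isIso_unit_kinj (h := h) J
  let Fac := (FTors.gammaT 𝔛 h).mapHomotopyCategoryFactors (ComplexShape.up ℤ)
  let θ : ∀ a, DerivedCategory.Qh.obj ((q).obj (TC (I a))) ≅ (R).obj (E a) := fun a =>
    DerivedCategory.Qh.mapIso (Fac.app (I a)).symm ≪≫ @asIso _ _ _ _ ((η).app ((q).obj (I a))) (hηI a) ≪≫
      (R).mapIso (e a).some.symm
  let θJ : DerivedCategory.Qh.obj ((q).obj (TC J)) ≅ (R).obj (∐ E) :=
    DerivedCategory.Qh.mapIso (Fac.app J).symm ≪≫ asIso ((η).app ((q).obj J)) ≪≫ (R).mapIso eJ.symm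
  have hθ : ∀ a, DerivedCategory.Qh.map ((q).map (tmap (φ a))) ≫ θJ.hom =
      (θ a).hom ≫ (R).map (Sigma.ι E a) := fun a => by
    have n1 : DerivedCategory.Qh.map ((q).map (tmap (φ a))) ≫ DerivedCategory.Qh.map (Fac.inv.app J) =
        DerivedCategory.Qh.map (Fac.inv.app (I a)) ≫
          (FTors.gammaKh (FTors.openIdealFam 𝔛 h)).map ((q).map (φ a)) := by
      rw [← Functor.map_comp]
      exact (congrArg DerivedCategory.Qh.map (Fac.inv.naturality (φ a))).trans (Functor.map_comp _ _ _)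
    have n2 : (FTors.gammaKh (FTors.openIdealFam 𝔛 h)).map ((q).map (φ a)) ≫ (η).app ((q).obj J) =
        (η).app ((q).obj (I a)) ≫ (R).map (DerivedCategory.Qh.map ((q).map (φ a))) :=
      (η).naturality ((q).map (φ a))
    simp only [θ, θJ, Iso.trans_hom, Functor.mapIso_hom, Iso.symm_hom, Iso.app_inv, asIso_hom, Category.assoc]
    refine (Category.assoc _ _ _).symm.trans ((congrArg (· ≫ _) n1).trans ((Category.assoc _ _ _).trans ?_))
    refine congrArg (DerivedCategory.Qh.map (Fac.inv.app (I a)) ≫ ·) ?_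
    refine (Category.assoc _ _ _).symm.trans ((congrArg (· ≫ _) n2).trans ((Category.assoc _ _ _).trans ?_))
    refine congrArg ((η).app ((q).obj (I a)) ≫ ·) ?_
    rw [hφ, ← Functor.map_comp, ← Functor.map_comp]
    simp
  refine isIso_desc_of_iso (fun a => ((homIso n).app (TC (I a))).symm ≪≫ (H n).mapIso (θ a))
    (((homIso n).app (TC J)).symm ≪≫ (H n).mapIso θJ) (fun a => HomologicalComplex.homologyMap (tmap (φ a)) n) _
    (fun a => ?_) hT
  have n1 := (homIso (𝔛 := 𝔛) (h := h) n).inv.naturality (tmap (φ a))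
  simp only [Functor.comp_map, HomologicalComplex.homologyFunctor_map] at n1
  simp only [Iso.trans_hom, Iso.symm_hom, Iso.app_inv, Functor.mapIso_hom, Category.assoc]
  refine Eq.trans ?_ ((congrArg (· ≫ (H n).map θJ.hom) n1).trans (Category.assoc _ _ _)).symm |>.trans
    (Category.assoc _ _ _)
  rw [← Functor.map_comp, ← Functor.map_comp, hθ]

/-- `RΓ'` commutes with coproducts. -/
theorem isIso_R_coprod (hN : 𝔛.IsLocNoethFormal) {α : Type u}
    (E : α → DerivedCategory (FSch.ModF 𝔛 h)) [HasCoproduct E] [HasCoproduct fun a => (R).obj (E a)] :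
    IsIso (Sigma.desc fun a => (R).map (Sigma.ι E a)) := by
  haveI : IsGrothendieckAbelian.{u} (FSch.ModF 𝔛 h) := KInj.isGrothendieckAbelian_sheafOfModules _
  refine (DerivedCategory.isIso_iff (C := FSch.ModF 𝔛 h) _).2 fun n => ?_
  let H := DerivedCategory.homologyFunctor (FSch.ModF 𝔛 h) n
  let a' := Sigma.desc fun a => H.map (Sigma.ι (fun a => (R).obj (E a)) a)
  haveI : IsIso a' := RpushD7.isIso_homologySigma _ n
  have e : a' ≫ H.map (Sigma.desc fun a => (R).map (Sigma.ι E a)) =
      Sigma.desc fun a => H.map ((R).map (Sigma.ι E a)) := Sigma.hom_ext _ _ fun a => by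
    rw [Sigma.ι_desc_assoc, ← Functor.map_comp, Sigma.ι_desc, Sigma.ι_desc]
  refine @IsIso.of_isIso_comp_left _ _ _ _ _ a' _ inferInstance ?_
  rw [e]
  exact isIso_homology_R_desc hN E n

end GrothLib.Gam7
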