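import Groth.Agent.Lib.Gam7.KappaGamma
import Groth.Agent.Lib.Gam7.SumDerived
import Groth.Agent.Lib.FMod7.ComplExact

/-!
# The derived torsion functor of a completion
-/

set_option autoImplicit false
set_option linter.style.haveILetI false
set_option linter.unusedSectionVars false
universe u

open CategoryTheory CategoryTheory.Limits AlgebraicGeometry TopologicalSpace Opposite

attribute [local instance] HasDerivedCategory.standard
attribute [local instance] Classical.decEq

noncomputable section

namespace GrothLib.Gam7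

open GrothLib.FMod7 GrothLib.FCat7

section Generic

variable {C : Type u} [SmallCategory C] {J : GrothendieckTopology C} [HasSheafify J AddCommGrpCat.{u}]
  [J.WEqualsLocallyBijective AddCommGrpCat.{u}] {O : Sheaf J CommRingCat.{u}} (I : FTors.IdealFam O)

local notation "q" => HomotopyCategory.quotient (ModSite.Mod O) (ComplexShape.up ℤ)

/-- The subcomplex of torsion sections. -/
abbrev GC (K : CochainComplex (ModSite.Mod O) ℤ) : CochainComplex (ModSite.Mod O) ℤ :=
  ((FTors.gamma O I).mapHomologicalComplex (ComplexShape.up ℤ)).obj K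

/-- The inclusion of the subcomplex of torsion sections. -/
def ginclu (K : CochainComplex (ModSite.Mod O) ℤ) : GC I K ⟶ K :=
  (NatTrans.mapHomologicalComplex (FTors.gammaι I) (ComplexShape.up ℤ)).app K ≫
    (Functor.mapHomologicalComplexIdIso (ModSite.Mod O) (ComplexShape.up ℤ)).hom.app K

theorem ginclu_f (K : CochainComplex (ModSite.Mod O) ℤ) (i : ℤ) :
    (ginclu I K).f i = (FTors.gammaι I).app (K.X i) := by
  simp [ginclu]
  exact Category.comp_id _

variable [FTors.HasRgamma I]

local notation "R" => FTors.Rgamma I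
local notation "η" => Functor.totalRightDerivedUnit (FTors.gammaKh I) DerivedCategory.Qh
  (HomotopyCategory.quasiIso (ModSite.Mod O) (ComplexShape.up ℤ))

theorem isIso_rgamma_unit [IsGrothendieckAbelian.{u} (ModSite.Mod O)] (K : CochainComplex (ModSite.Mod O) ℤ)
    [K.IsKInjective] : IsIso ((η).app ((q).obj K)) := by
  haveI := KInj.isIso_unit_of_rightOrthogonal (CochainComplex.IsKInjective.rightOrthogonal K)
  have := KInj.totalRightDerivedUnit_iso_hom (FTors.gammaKh I) ((q).obj K)
  have : IsIso ((η).app ((q).obj K) ≫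
      (KInj.totalRightDerivedIso (FTors.gammaKh I)).hom.app (DerivedCategory.Qh.obj ((q).obj K))) := by
    rw [this]
    infer_instance
  exact IsIso.of_isIso_comp_right _ ((KInj.totalRightDerivedIso (FTors.gammaKh I)).hom.app _)

/-- At a K-injective complex the derived torsion functor is the subcomplex of torsion sections. -/
theorem exists_rgamma_iso [IsGrothendieckAbelian.{u} (ModSite.Mod O)] {F : DerivedCategory (ModSite.Mod O)}
    (K : CochainComplex (ModSite.Mod O) ℤ) [K.IsKInjective] (e : F ≅ DerivedCategory.Qh.obj ((q).obj K)) :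
    ∃ θ : DerivedCategory.Qh.obj ((q).obj (GC I K)) ≅ (R).obj F,
      (FTors.Rgammaε I).app F = θ.inv ≫ DerivedCategory.Qh.map ((q).map (ginclu I K)) ≫ e.inv := by
  haveI := isIso_rgamma_unit I K
  let Fac := (FTors.gamma O I).mapHomotopyCategoryFactors (ComplexShape.up ℤ)
  refine ⟨DerivedCategory.Qh.mapIso (Fac.app K).symm ≪≫ asIso ((η).app ((q).obj K)) ≪≫ (R).mapIso e.symm, ?_⟩
  rw [Iso.eq_inv_comp]
  simp only [Iso.trans_hom, Functor.mapIso_hom, Iso.symm_hom, Iso.app_inv, asIso_hom, Category.assoc]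
  have n1 : (R).map e.inv ≫ (FTors.Rgammaε I).app F =
      (FTors.Rgammaε I).app (DerivedCategory.Qh.obj ((q).obj K)) ≫ e.inv := (FTors.Rgammaε I).naturality e.inv
  have n2 : (η).app ((q).obj K) ≫ (FTors.Rgammaε I).app (DerivedCategory.Qh.obj ((q).obj K)) =
      (FTors.gammaτ I).app ((q).obj K) := ((R).rightDerived_fac_app _ _ _ _ ((q).obj K)).trans (Category.comp_id _)
  have n3 : (FTors.gammaτ I).app ((q).obj K) =
      DerivedCategory.Qh.map (Fac.hom.app K) ≫ DerivedCategory.Qh.map ((q).map (ginclu I K)) := by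
    show (FTors.gammaτ0 I).app K = _
    simp [FTors.gammaτ0, ginclu, Fac]
  refine (congrArg (fun a => DerivedCategory.Qh.map (Fac.inv.app K) ≫ (η).app ((q).obj K) ≫ a) n1).trans ?_
  rw [← Category.assoc ((η).app ((q).obj K)), n2, n3, Category.assoc, ← Category.assoc, ← Functor.map_comp,
    Fac.inv_hom_id_app, CategoryTheory.Functor.map_id, Category.id_comp]

end Generic

variable {X : Scheme.{u}} [IsLocallyNoetherian X] {𝓘 : X.IdealSheafData}
  {h : (FSch.completionAlong X 𝓘).IsFormal} [PreservesFiniteLimits (complMor h).pull]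
  [FTors.HasRgammaT (FSch.completionAlong X 𝓘) h] [FTors.HasRgammaZp X 𝓘]

local notation "CC" => FSch.completionAlong X 𝓘
local notation "R" => FTors.RgammaT (FSch.completionAlong X 𝓘) h
local notation "ε" => FTors.RgammaTε (FSch.completionAlong X 𝓘) h

/-- The completion of the torsion subcomplex, into an injective resolution of the completion, is inverted by the
derived torsion functor. -/
theorem isIso_R_map_kappa (J : CochainComplex (ModSite.Mod X.sheaf) ℤ) (hJ : ∀ n, Injective (J.X n)) :
    IsIso ((R).map (DerivedCategory.Qh.map ((HomotopyCategory.quotient _ (ComplexShape.up ℤ)).map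
      (((complMor h).pull.mapHomologicalComplex (ComplexShape.up ℤ)).map
        (ginclu (FTors.powIdealFam X 𝓘) J))))) := by
  let κ := (complMor h).pull.mapHomologicalComplex (ComplexShape.up ℤ)
  let q' := HomotopyCategory.quotient (FSch.ModF CC h) (ComplexShape.up ℤ)
  let j := κ.map (ginclu (FTors.powIdealFam X 𝓘) J)
  have hN := Tors7.hN (X := X) (𝓘 := 𝓘)
  haveI : IsGrothendieckAbelian.{u} (FSch.ModF CC h) := KInj.isGrothendieckAbelian_sheafOfModules _
  obtain ⟨J', i, hi, hJ', hJ'X⟩ := KInj.exists_kInjective_resolution (FSch.ModF CC h) (κ.obj J)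
  haveI := hJ'
  haveI : IsIso (DerivedCategory.Qh.map (q'.map i)) := by
    refine Localization.inverts DerivedCategory.Qh (HomotopyCategory.quasiIso _ (ComplexShape.up ℤ)) _ ?_
    rwa [HomotopyCategory.quotient_map_mem_quasiIso_iff, HomologicalComplex.mem_quasiIso_iff]
  let S := κ.obj (GC (FTors.powIdealFam X 𝓘) J)
  let g : S ⟶ J' := j ≫ i
  suffices IsIso ((R).map (DerivedCategory.Qh.map (q'.map g))) by
    have e : (R).map (DerivedCategory.Qh.map (q'.map g)) =
        (R).map (DerivedCategory.Qh.map (q'.map j)) ≫ (R).map (DerivedCategory.Qh.map (q'.map i)) := by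
      rw [← Functor.map_comp, ← Functor.map_comp, ← Functor.map_comp]
    rw [e] at this
    exact IsIso.of_isIso_comp_right _ ((R).map (DerivedCategory.Qh.map (q'.map i)))
  have hS : ∀ n, FTors.IsTorsF CC h (S.X n) := fun n => Tors7.isTorsF_pull (isTors_gamma _ (J.X n))
  let η := Functor.totalRightDerivedUnit (FTors.gammaKh (FTors.openIdealFam CC h)) DerivedCategory.Qh
    (HomotopyCategory.quasiIso (FSch.ModF CC h) (ComplexShape.up ℤ))
  haveI : IsIso (η.app (q'.obj J')) := isIso_unit_kinj J'
  haveI : IsIso (η.app (q'.obj S)) := by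
    haveI : IsIso ((ε).app (DerivedCategory.Qh.obj (q'.obj S))) :=
      (isIso_ε_iff hN _).2 ((isDTorsF_Q_iff _).2 fun n =>
        isTorsF_of_epi (S.homologyπ n) (isTorsF_of_mono (S.iCycles n) (hS n)))
    have : IsIso (η.app (q'.obj S) ≫ (ε).app (DerivedCategory.Qh.obj (q'.obj S))) := by
      rw [unit_comp_ε, gammaτ_app]
      have : IsIso (incl S) := by
        refine @HomologicalComplex.Hom.isIso_of_components _ _ _ _ _ _ _ (incl S) fun n => ?_
        rw [incl_f]
        exact isIso_gammaι_of_isTorsF (hS n)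
      infer_instance
    exact IsIso.of_isIso_comp_right _ ((ε).app (DerivedCategory.Qh.obj (q'.obj S)))
  have h1 : IsIso (DerivedCategory.Qh.map (q'.map (tmap j))) := by
    have : IsIso (tmap j) := by
      refine @HomologicalComplex.Hom.isIso_of_components _ _ _ _ _ _ _ _ fun n => ?_
      show IsIso ((FTors.gammaT CC h).map ((complMor h).pull.map ((ginclu (FTors.powIdealFam X 𝓘) J).f n)))
      rw [ginclu_f]
      exact isIso_gammaT_pull_ι (J.X n)
    infer_instance
  have h2 : IsIso (DerivedCategory.Qh.map (q'.map (tmap i))) := by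
    refine Localization.inverts DerivedCategory.Qh (HomotopyCategory.quasiIso _ (ComplexShape.up ℤ)) _ ?_
    rw [HomotopyCategory.quotient_map_mem_quasiIso_iff, HomologicalComplex.mem_quasiIso_iff]
    have single : ∀ {K L : CochainComplex (FSch.ModF CC h) ℤ} (f : K ⟶ L) (n : ℤ),
        (Sigma.desc fun _ : PUnit.{u + 1} => HomologicalComplex.homologyMap f n) =
          (coproductUniqueIso fun _ : PUnit.{u + 1} => K.homology n).hom ≫ HomologicalComplex.homologyMap f n :=
      fun {K L} f n => Sigma.hom_ext _ _ fun _ => by simp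
    refine ⟨fun n => (quasiIsoAt_iff_isIso_homologyMap _ _).2 ?_⟩
    have hi' : ∀ m, IsIso (Sigma.desc fun _ : PUnit.{u + 1} => HomologicalComplex.homologyMap i m) := fun m => by
      haveI : IsIso (HomologicalComplex.homologyMap i m) :=
        (quasiIsoAt_iff_isIso_homologyMap _ _).1 (hi.quasiIsoAt m)
      rw [single]
      infer_instance
    have h3 := isIso_sigma_tmap hN (fun _ : PUnit.{u + 1} => κ.obj J) J' (fun _ => i) (fun U p hp => by
      obtain ⟨U', hU', -, hpU', hU'U⟩ := exists_affine_below (𝓘 := 𝓘) hp (W := ⊤) trivial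
      obtain ⟨r, f, -, hs⟩ := exists_gens_compl (h := h) (𝓘 := 𝓘) hU'
      exact ⟨onCompl U', hU'U, r, _, Tors7.isAffineOpen_onCompl hU', hpU', hs,
        fun _ m => @splits_kappa _ _ _ _ (J.X m) (hJ m) _ _ f,
        fun m => @splits_of_injective _ _ hN _ (hJ'X m) _ _ _⟩) hi' n
    rw [single] at h3
    exact @IsIso.of_isIso_comp_left _ _ _ _ _ _ (HomologicalComplex.homologyMap (tmap i) n) inferInstance h3
  have hg : IsIso ((FTors.gammaKh (FTors.openIdealFam CC h)).map (q'.map g)) := by
    refine (NatIso.isIso_map_iff (Functor.isoWhiskerRight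
      ((FTors.gammaT CC h).mapHomotopyCategoryFactors (ComplexShape.up ℤ)) DerivedCategory.Qh) g).2 ?_
    show IsIso (DerivedCategory.Qh.map (q'.map (tmap (j ≫ i))))
    rw [show tmap (j ≫ i) = tmap j ≫ tmap i from Functor.map_comp _ _ _, Functor.map_comp, Functor.map_comp]
    exact IsIso.comp_isIso' h1 h2
  have : IsIso (η.app (q'.obj S) ≫ (R).map (DerivedCategory.Qh.map (q'.map g))) := by
    rw [show η.app (q'.obj S) ≫ (R).map (DerivedCategory.Qh.map (q'.map g)) =
      (FTors.gammaKh (FTors.openIdealFam CC h)).map (q'.map g) ≫ η.app (q'.obj J') from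
      (η.naturality (q'.map g)).symm]
    infer_instance
  exact IsIso.of_isIso_comp_left (η.app (q'.obj S)) _

set_option maxHeartbeats 800000 in
/-- The completion of the derived torsion part has torsion cohomology, and the derived torsion functor inverts
the completion of the counit. -/
theorem isDTorsF_pullD_and_isIso_R_map (F : DerivedCategory (ModSite.Mod X.sheaf)) :
    FTors.IsDTorsF CC h ((SiteCmp.pullD (complMor h)).obj ((FTors.RgammaZp X 𝓘).obj F)) ∧
      IsIso ((R).map ((SiteCmp.pullD (complMor h)).map ((FTors.RgammaZpε X 𝓘).app F))) := by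
  haveI : IsGrothendieckAbelian.{u} (ModSite.Mod X.sheaf) := KInj.isGrothendieckAbelian_sheafOfModules _
  let q := HomotopyCategory.quotient (ModSite.Mod X.sheaf) (ComplexShape.up ℤ)
  let q' := HomotopyCategory.quotient (FSch.ModF CC h) (ComplexShape.up ℤ)
  haveI := Localization.essSurj (DerivedCategory.Qh (C := ModSite.Mod X.sheaf))
    (HomotopyCategory.subcategoryAcyclic (ModSite.Mod X.sheaf)).trW
  let F₀ := DerivedCategory.Qh.objPreimage F
  obtain ⟨J, i, hi, hJ, hJX⟩ := KInj.exists_kInjective_resolution (ModSite.Mod X.sheaf) F₀.as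
  haveI := hJ
  have : IsIso (DerivedCategory.Qh.map (q.map i)) := by
    refine Localization.inverts DerivedCategory.Qh (HomotopyCategory.quasiIso _ (ComplexShape.up ℤ)) _ ?_
    rwa [HomotopyCategory.quotient_map_mem_quasiIso_iff, HomologicalComplex.mem_quasiIso_iff]
  let e : F ≅ DerivedCategory.Qh.obj (q.obj J) := (DerivedCategory.Qh.objObjPreimageIso F).symm ≪≫
    @asIso _ _ _ _ (DerivedCategory.Qh.map (q.map i)) this
  obtain ⟨θ, hθ⟩ := exists_rgamma_iso (FTors.powIdealFam X 𝓘) J e
  let P := (complMor h).pull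
  let Ψ : q ⋙ DerivedCategory.Qh ⋙ P.mapDerivedCategory ≅
      P.mapHomologicalComplex (ComplexShape.up ℤ) ⋙ q' ⋙ DerivedCategory.Qh :=
    Functor.isoWhiskerLeft q P.mapDerivedCategoryFactorsh ≪≫ (Functor.associator _ _ _).symm ≪≫
      Functor.isoWhiskerRight (P.mapHomotopyCategoryFactors (ComplexShape.up ℤ)) DerivedCategory.Qh ≪≫
      Functor.associator _ _ _
  refine ⟨IsDTorsF_of_iso ((Ψ.app (GC (FTors.powIdealFam X 𝓘) J)).symm ≪≫ P.mapDerivedCategory.mapIso θ)
    ((isDTorsF_Q_iff _).2 fun n => isTorsF_of_epi (HomologicalComplex.homologyπ _ n)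
      (isTorsF_of_mono (HomologicalComplex.iCycles _ n) (Tors7.isTorsF_pull (isTors_gamma _ (J.X n))))), ?_⟩
  have h1 : IsIso ((R).map (P.mapDerivedCategory.map (DerivedCategory.Qh.map (q.map
      (ginclu (FTors.powIdealFam X 𝓘) J))))) :=
    (NatIso.isIso_map_iff (Functor.isoWhiskerRight Ψ (R)) (ginclu (FTors.powIdealFam X 𝓘) J)).2
      (isIso_R_map_kappa J hJX)
  show IsIso ((R).map (P.mapDerivedCategory.map ((FTors.RgammaZpε X 𝓘).app F)))
  rw [show (FTors.RgammaZpε X 𝓘).app F = _ from hθ]
  simp only [Functor.map_comp]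
  exact IsIso.comp_isIso' inferInstance (IsIso.comp_isIso' h1 inferInstance)

/-- The canonical comparison of derived torsion functors under completion. -/
theorem existsUnique_iso (F : DerivedCategory (ModSite.Mod X.sheaf)) :
    ∃! e : (SiteCmp.pullD (complMor h)).obj ((FTors.RgammaZp X 𝓘).obj F) ≅
        (R).obj ((SiteCmp.pullD (complMor h)).obj F),
      e.hom ≫ (ε).app ((SiteCmp.pullD (complMor h)).obj F) =
        (SiteCmp.pullD (complMor h)).map ((FTors.RgammaZpε X 𝓘).app F) := by
  have hN := Tors7.hN (X := X) (𝓘 := 𝓘)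
  obtain ⟨hT, hφ⟩ := isDTorsF_pullD_and_isIso_R_map (h := h) F
  let G := (SiteCmp.pullD (complMor h)).obj F
  obtain ⟨ψ, hψ⟩ := (comp_ε_bijective hN (F := G) hT).2 ((SiteCmp.pullD (complMor h)).map ((FTors.RgammaZpε X 𝓘).app F))
  haveI := (isIso_ε_iff hN _).2 hT
  haveI := (isIso_ε_iff hN ((R).obj G)).2 (isDTorsF_R G)
  haveI := isIso_map_ε hN G
  haveI : IsIso ((R).map ψ) := by
    have : IsIso ((R).map ψ ≫ (R).map ((ε).app G)) := by
      rw [← Functor.map_comp]
      exact (show ψ ≫ (ε).app G = _ from hψ) ▸ hφ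
    exact IsIso.of_isIso_comp_right _ ((R).map ((ε).app G))
  haveI : IsIso ψ := by
    have : IsIso ((ε).app _ ≫ ψ) := by
      rw [show (ε).app _ ≫ ψ = (R).map ψ ≫ (ε).app ((R).obj G) from ((ε).naturality ψ).symm]
      infer_instance
    exact IsIso.of_isIso_comp_left ((ε).app _) ψ
  exact ⟨asIso ψ, hψ, fun e he => Iso.ext ((comp_ε_bijective hN (F := G) hT).1 (he.trans hψ.symm))⟩

end GrothLib.Gam7
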