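import Groth.Agent.Lib.Gam7.Iter
import Mathlib.Algebra.Homology.QuasiIso

/-!
# The torsion subcomplex of a complex of injective modules with torsion cohomology
-/

set_option autoImplicit false
set_option linter.style.haveILetI false
set_option linter.unusedSectionVars false
universe u

open CategoryTheory CategoryTheory.Limits AlgebraicGeometry TopologicalSpace Opposite

noncomputable section

namespace GrothLib.Gam7

open GrothLib.FMod7 GrothLib.FCat7

variable {𝔛 : FSch.Sys.{u}} {h : 𝔛.IsFormal}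

/-- The inclusion of the torsion subcomplex. -/
def incl (I : CochainComplex (FSch.ModF 𝔛 h) ℤ) :
    ((FTors.gammaT 𝔛 h).mapHomologicalComplex (ComplexShape.up ℤ)).obj I ⟶ I :=
  (NatTrans.mapHomologicalComplex (FTors.gammaTι 𝔛 h) (ComplexShape.up ℤ)).app I ≫
    (Functor.mapHomologicalComplexIdIso (FSch.ModF 𝔛 h) (ComplexShape.up ℤ)).hom.app I

theorem incl_f (I : CochainComplex (FSch.ModF 𝔛 h) ℤ) (i : ℤ) :
    (incl I).f i = (FTors.gammaTι 𝔛 h).app (I.X i) := by
  simp [incl]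
  exact Category.comp_id _

/-- A section killed by the differential is a cycle. -/
theorem exists_cycle (K : CochainComplex (FSch.ModF 𝔛 h) ℤ) (i : ℤ) {W : (𝔛.X 0).Opens}
    (x : ModSite.sect (K.X i) W) (hx : sHom (K.d i (i + 1)) W x = 0) :
    ∃ c : ModSite.sect (K.cycles i) W, sHom (K.iCycles i) W c = x := by
  obtain ⟨k, hk⟩ := exists_kernel_sect (K.d i (i + 1)) W x hx
  refine ⟨sHom (K.liftCycles (kernel.ι (K.d i (i + 1))) (i + 1) (by simp) (kernel.condition _)) W k, ?_⟩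
  refine (sHom_comp (K.liftCycles (kernel.ι (K.d i (i + 1))) (i + 1) (by simp) (kernel.condition _)) (K.iCycles i) W k).symm.trans
    (Eq.trans ?_ hk)
  exact congrArg (fun φ : kernel (K.d i (i + 1)) ⟶ K.X i => sHom φ W k) (K.liftCycles_i _ _ _ _)

theorem exists_gens (hN : 𝔛.IsLocNoethFormal) {W : (𝔛.X 0).Opens} (hW : IsAffineOpen W) :
    ∃ (r : ℕ) (s : Fin r → Sec 𝔛 h W), Ideal.span (Set.range s) = secIdeal 𝔛 h W := by
  haveI := isNoetherianRing_Sec (h := h) hN hW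
  exact Submodule.fg_iff_exists_fin_generating_family.1 (IsNoetherian.noetherian _)

theorem exists_gamma_of_nil (hN : 𝔛.IsLocNoethFormal) {V W : (𝔛.X 0).Opens} (hV : IsAffineOpen V) (hWV : W ≤ V)
    (hW : IsAffineOpen W) {r : ℕ} (s : Fin r → Sec 𝔛 h V) (hs : Ideal.span (Set.range s) = secIdeal 𝔛 h V)
    {M : FSch.ModF 𝔛 h} {x : ModSite.sect M W} (hx : P s hWV r x) :
    ∃ u : ModSite.sect ((FTors.gammaT 𝔛 h).obj M) W, sHom ((FTors.gammaTι 𝔛 h).app M) W u = x := by
  refine exists_gamma_sect (hx.isTorsSect hN hW ?_)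
  rw [← map_secIdeal hN hV hW hWV, ← hs, Ideal.map_span, ← Set.range_comp]
  rfl

variable (hN : 𝔛.IsLocNoethFormal) (I : CochainComplex (FSch.ModF 𝔛 h) ℤ)
  (hI : ∀ n, Injective (I.X n)) (hH : ∀ n, FTors.IsTorsF 𝔛 h (I.homology n))

/-- The torsion subcomplex. -/
abbrev TC : CochainComplex (FSch.ModF 𝔛 h) ℤ :=
  ((FTors.gammaT 𝔛 h).mapHomologicalComplex (ComplexShape.up ℤ)).obj I

instance mono_incl_f (i : ℤ) : Mono ((incl I).f i) := by
  rw [incl_f]
  exact ⟨fun g g' e => hom_ext_basis fun U _ z => sHom_gammaι_injective (I.X i) U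
    (congrArg (fun φ => sHom φ U z) e)⟩

include hN hI hH in
theorem mono_homologyMap (j : ℤ) : Mono (HomologicalComplex.homologyMap (incl I) j) := by
  refine Preadditive.mono_of_cancel_zero _ fun {Z} g hg => hom_ext_basis fun U _ z => ?_
  suffices H : ∀ w : ModSite.sect ((TC I).homology j) U, sHom (HomologicalComplex.homologyMap (incl I) j) U w = 0 →
      w = 0 from
    H (sHom g U z) ((sHom_comp g _ U z).symm.trans (congrArg (fun φ : Z ⟶ I.homology j => sHom φ U z) hg))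
  intro w hw
  refine sect_ext _ _ _ fun p hp => ?_
  obtain ⟨W₀, h₀, hp₀, c, hc⟩ := exists_local_preimage ((TC I).homologyπ j) w hp
  have h0 : sHom (I.homologyπ j) W₀ (sHom (HomologicalComplex.cyclesMap (incl I) j) W₀ c) = 0 := by
    refine (sHom_comp _ _ W₀ c).symm.trans ?_
    refine (congrArg (fun φ : (TC I).cycles j ⟶ I.homology j => sHom φ W₀ c)
      (HomologicalComplex.homologyπ_naturality (incl I) j).symm).trans ?_
    refine (sHom_comp _ _ W₀ c).trans ?_
    rw [hc, sHom_res, hw]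
    exact map_zero ((I.homology j).val.map (homOfLE h₀).op).hom
  obtain ⟨W₁, h₁, hp₁, y, hy⟩ := exists_local_preimage_of_exact
    (ShortComplex.mk (I.toCycles (j - 1) j) (I.homologyπ j) (by simp))
    (ShortComplex.exact_of_g_is_cokernel _ (I.homologyIsCokernel (j - 1) j (by simp))) _ h0 hp₀
  obtain ⟨W₂, hW₂, hp₂, h₂'⟩ := exists_isAffineOpen_mem_and_subset (x := p) (U := W₁) hp₁
  have h₂ : W₂ ≤ W₁ := h₂'
  obtain ⟨r, s, hs⟩ := exists_gens (h := h) hN hW₂
  let x : ModSite.sect ((TC I).X j) W₂ := sres _ (h₂.trans h₁) (sHom ((TC I).iCycles j) W₀ c)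
  have hdy : sHom (I.d (j - 1) j) W₂ (sres _ h₂ y) = sHom ((incl I).f j) W₂ x := by
    rw [sHom_res, sHom_res]
    refine Eq.trans ?_ (congrArg (sres (I.X j) (h₂.trans h₁)) ((sHom_comp _ _ W₀ c).symm.trans
      ((congrArg (fun φ : (TC I).cycles j ⟶ I.X j => sHom φ W₀ c) (HomologicalComplex.cyclesMap_i (incl I) j)).trans
        (sHom_comp _ _ W₀ c))))
    rw [← sres_sres h₁ h₂ (sHom (I.iCycles j) W₀ _), ← sHom_res (I.iCycles j) h₁, ← hy]
    refine congrArg (sres (I.X j) h₂) ((congrArg (fun φ : I.X (j - 1) ⟶ I.X j => sHom φ W₁ y)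
      (I.toCycles_i (j - 1) j)).symm.trans (sHom_comp _ _ W₁ y))
  obtain ⟨W₃, h₃, y', hW₃, hp₃, hy', e₃⟩ := exists_nil_of_nil_d hN I hI hH hW₂ s
    (fun i => hs ▸ Ideal.subset_span ⟨i, rfl⟩) r le_rfl (j - 1) j (by omega) W₂ le_rfl hW₂ (sres _ h₂ y)
    (by
      rw [hdy]
      refine Nil.of_isTorsSect hN ?_ hW₂ fun i => by
        rw [show rRes (le_refl W₂) (s i) = s i from sres_id (M := FSch.unitF 𝔛 h) _]
        exact hs ▸ Ideal.subset_span ⟨i, rfl⟩
      rw [incl_f]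
      exact isTorsSect_gammaι x) p hp₂
  obtain ⟨u, hu⟩ : ∃ u : ModSite.sect ((TC I).X (j - 1)) W₃, sHom ((incl I).f (j - 1)) W₃ u = y' := by
    rw [incl_f]
    exact exists_gamma_of_nil hN hW₂ h₃ hW₃ s hs hy'
  refine ⟨W₃, (h₃.trans (h₂.trans h₁)).trans h₀, hp₃, ?_⟩
  have hu' : sHom ((TC I).d (j - 1) j) W₃ u = sres _ h₃ x := by
    refine sHom_injective ((incl I).f j) W₃ ?_
    refine ((sHom_comp _ _ W₃ u).symm.trans ((congrArg (fun φ : (TC I).X (j - 1) ⟶ I.X j => sHom φ W₃ u)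
      ((incl I).comm (j - 1) j)).symm.trans (sHom_comp _ _ W₃ u))).trans ?_
    rw [hu, e₃, hdy, sHom_res]
    simp only [x, sHom_res, sres_sres]
  have hcu : sHom ((TC I).toCycles (j - 1) j) W₃ u = sres _ (h₃.trans (h₂.trans h₁)) c := by
    refine sHom_injective ((TC I).iCycles j) W₃ ?_
    refine ((sHom_comp _ _ W₃ u).symm.trans
      (congrArg (fun φ : (TC I).X (j - 1) ⟶ (TC I).X j => sHom φ W₃ u) ((TC I).toCycles_i (j - 1) j))).trans ?_
    rw [hu', sHom_res]
    exact sres_sres _ _ _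
  rw [← sres_sres h₀ (h₃.trans (h₂.trans h₁)), ← hc, ← sHom_res, ← hcu]
  refine Eq.trans ?_ (map_zero (((TC I).homology j).val.map
    (homOfLE ((h₃.trans (h₂.trans h₁)).trans h₀)).op).hom).symm
  exact sHom_eq_zero ((TC I).toCycles_comp_homologyπ (j - 1) j) W₃ u

include hN hI hH in
theorem epi_homologyMap (j : ℤ) : Epi (HomologicalComplex.homologyMap (incl I) j) := by
  refine Preadditive.epi_of_cancel_zero _ fun {Z} g hg => hom_ext_basis fun U _ z => ?_
  show sHom g U z = 0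
  refine sect_ext _ _ _ fun p hp => ?_
  obtain ⟨W₀, h₀, hp₀, c, hc⟩ := exists_local_preimage (I.homologyπ j) z hp
  obtain ⟨W₁, hW₁, hp₁, h₁'⟩ := exists_isAffineOpen_mem_and_subset (x := p) (U := W₀) hp₀
  have h₁ : W₁ ≤ W₀ := h₁'
  obtain ⟨r, s, hs⟩ := exists_gens (h := h) hN hW₁
  let x : ModSite.sect (I.X j) W₁ := sHom (I.iCycles j) W₁ (sres _ h₁ c)
  have hx : sHom (I.d j (j + 1)) W₁ x = 0 := sHom_eq_zero (I.iCycles_d j (j + 1)) W₁ _
  obtain ⟨W₂, h₂, z', hW₂, hp₂, hx'⟩ := exists_nil_cycle hN I hI hH hW₁ s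
    (fun i => hs ▸ Ideal.subset_span ⟨i, rfl⟩) r le_rfl (j - 1) j (by omega) W₁ le_rfl hW₁ x hx p hp₁
  obtain ⟨u, hu⟩ : ∃ u : ModSite.sect ((TC I).X j) W₂, sHom ((incl I).f j) W₂ u =
      sres (I.X j) h₂ x - sHom (I.d (j - 1) j) W₂ z' := by
    rw [incl_f]
    exact exists_gamma_of_nil hN hW₁ h₂ hW₂ s hs hx'
  have hdu : sHom ((TC I).d j (j + 1)) W₂ u = 0 := by
    refine sHom_injective ((incl I).f (j + 1)) W₂ ?_
    refine ((sHom_comp _ _ W₂ u).symm.trans ((congrArg (fun φ : (TC I).X j ⟶ I.X (j + 1) => sHom φ W₂ u)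
      ((incl I).comm j (j + 1))).symm.trans (sHom_comp _ _ W₂ u))).trans ?_
    rw [hu, map_sub, sHom_res, hx, d_d, map_zero, sub_zero]
    exact map_zero _
  obtain ⟨v, hv⟩ := exists_cycle (TC I) j u hdu
  have hvc : sHom (HomologicalComplex.cyclesMap (incl I) j) W₂ v =
      sres _ (h₂.trans h₁) c - sHom (I.toCycles (j - 1) j) W₂ z' := by
    refine sHom_injective (I.iCycles j) W₂ ?_
    refine ((sHom_comp _ _ W₂ v).symm.trans ((congrArg (fun φ : (TC I).cycles j ⟶ I.X j => sHom φ W₂ v)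
      (HomologicalComplex.cyclesMap_i (incl I) j)).trans (sHom_comp _ _ W₂ v))).trans ?_
    rw [hv, hu, map_sub]
    refine congr_arg₂ (· - ·) ?_ ((congrArg (fun φ : I.X (j - 1) ⟶ I.X j => sHom φ W₂ z')
      (I.toCycles_i (j - 1) j)).symm.trans (sHom_comp _ _ W₂ z'))
    exact ((sHom_res _ h₂ _).symm).trans (congrArg (sHom (I.iCycles j) W₂) (sres_sres _ _ _))
  have hz : sHom (HomologicalComplex.homologyMap (incl I) j) W₂ (sHom ((TC I).homologyπ j) W₂ v) =
      sres _ ((h₂.trans h₁).trans h₀) z := by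
    refine ((sHom_comp _ _ W₂ v).symm.trans ((congrArg (fun φ : (TC I).cycles j ⟶ I.homology j => sHom φ W₂ v)
      (HomologicalComplex.homologyπ_naturality (incl I) j)).trans (sHom_comp _ _ W₂ v))).trans ?_
    rw [hvc, map_sub, sHom_res, hc, sres_sres, sHom_eq_zero (I.toCycles_comp_homologyπ (j - 1) j), sub_zero]
  refine ⟨W₂, (h₂.trans h₁).trans h₀, hp₂, ?_⟩
  rw [← sHom_res, ← hz, sHom_eq_zero hg]
  exact (map_zero (Z.val.map (homOfLE ((h₂.trans h₁).trans h₀)).op).hom).symm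

include hN hI hH in
/-- The torsion subcomplex of a complex of injectives with torsion cohomology has the same cohomology. -/
theorem quasiIso_incl : QuasiIso (incl I) := by
  refine ⟨fun j => (quasiIsoAt_iff_isIso_homologyMap _ _).2 ?_⟩
  haveI := mono_homologyMap hN I hI hH j
  haveI := epi_homologyMap hN I hI hH j
  exact isIso_of_mono_of_epi _

end GrothLib.Gam7
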