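import Groth.Agent.Lib.Gam7.KappaSplit
import Groth.Agent.Lib.Gam7.Qis
import Groth.Agent.Lib.Tors7.Equiv

/-!
# The completion commutes with torsion parts
-/

set_option autoImplicit false
set_option linter.style.haveILetI false
set_option linter.unusedSectionVars false
universe u

open CategoryTheory CategoryTheory.Limits AlgebraicGeometry TopologicalSpace Opposite

noncomputable section

namespace GrothLib.Gam7

open GrothLib.FMod7 GrothLib.FCat7

section Generic

variable {C : Type u} [SmallCategory C] {J : GrothendieckTopology C} {O : Sheaf J CommRingCat.{u}}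
  (I : FTors.IdealFam O)

theorem isTors_gamma (M : ModSite.Mod O) : FTors.IsTors I ((FTors.gamma O I).obj M) := fun U z =>
  J.superset_covering (fun V g hg => by
    obtain ⟨n, hn⟩ := (FTors.killSieve_apply I M _ g).1 hg
    exact ⟨n, fun _ g' a ha => Subtype.ext (hn g' a ha)⟩) z.2

instance mono_gammaι' (M : ModSite.Mod O) : Mono ((FTors.gammaι I).app M) :=
  ⟨fun g g' e => by
    apply SheafOfModules.hom_ext
    ext U x
    exact Subtype.ext (congrArg (fun φ => φ.val.app U x) e)⟩

end Generic

variable {X : Scheme.{u}} [IsLocallyNoetherian X] {𝓘 : X.IdealSheafData}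
  {h : (FSch.completionAlong X 𝓘).IsFormal}

/-- Sections killed by powers of generators of the ideal are torsion. -/
theorem isTorsSect_of_gens (M : ModSite.Mod X.sheaf) {U U' : X.Opens} (hU : IsAffineOpen U) (hU' : U' ≤ U)
    {r : ℕ} (f : Fin r → Γ(X, U)) (hf : Ideal.span (Set.range f) = 𝓘.ideal ⟨U, hU⟩) (m : Fin r → ℕ)
    (z : ModSite.sect M U') (hz : ∀ i, xRes hU' (f i ^ m i) • z = 0) :
    FTors.IsTorsSect (FTors.powIdealFam X 𝓘) M z := by
  classical
  haveI := IsLocallyNoetherian.component_noetherian (X := X) ⟨U, hU⟩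
  let b : Ideal Γ(X, U) := Ideal.span (Set.range fun i => f i ^ m i)
  have hb : 𝓘.ideal ⟨U, hU⟩ ≤ b.radical := hf ▸ Ideal.span_le.2 (by
    rintro _ ⟨i, rfl⟩
    exact ⟨m i, Ideal.subset_span ⟨i, rfl⟩⟩)
  obtain ⟨n, hn⟩ := Ideal.exists_pow_le_of_le_radical_of_fg hb (IsNoetherian.noetherian _)
  refine FTors.IsTorsSect.of_killedBy (n := n) fun W g a ha => ?_
  refine FMod7.sect_ext (T := X.toTopCat) M _ _ fun y hy => ?_
  obtain ⟨V, hV, hyV, hVW⟩ := exists_isAffineOpen_mem_and_subset (x := y) (U := W) hy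
  refine ⟨V, hVW, hyV, ?_⟩
  let j : V ⟶ W := homOfLE hVW
  show FTors.res M j (a • FTors.res M g z) = FTors.res M j 0
  rw [FTors.res_smul, show FTors.res M j (0 : ModSite.sect M W) = 0 from map_zero (M.val.map j.op).hom,
    ← FTors.res_comp]
  have ha' := (FTors.mem_powIdealFam_iff X _ n W a).1 ha ⟨V, hV⟩ hVW
  have hVU : V ≤ U := (hVW.trans g.le).trans hU'
  rw [← 𝓘.map_ideal (U := ⟨V, hV⟩) (V := ⟨U, hU⟩) hVU, ← Ideal.map_pow] at ha'
  let w : ModSite.sect M V := FTors.res M (j ≫ g) z
  change (show X.sheaf.obj.obj (op V) from (X.sheaf.obj.map j.op).hom a) • w = 0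
  have key : ∀ c ∈ b.map (xRes (X := X) hVU), (show X.sheaf.obj.obj (op V) from c) • w = 0 := fun c hc => by
    rw [Ideal.map_span, ← Set.range_comp] at hc
    induction hc using Submodule.span_induction with
    | mem q hq =>
      obtain ⟨i, rfl⟩ := hq
      have e := (FTors.res_smul M (j ≫ g) (show X.sheaf.obj.obj (op U') from xRes hU' (f i ^ m i)) z).symm.trans
        ((congrArg (FTors.res M (j ≫ g)) (hz i)).trans (FTors.res_zero M _))
      refine Eq.trans ?_ e
      refine congrArg (fun q : X.sheaf.obj.obj (op V) => q • w) ?_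
      show xRes hVU (f i ^ m i) = xRes (j ≫ g).le (xRes hU' (f i ^ m i))
      exact ConcreteCategory.congr_hom (show X.presheaf.map (homOfLE hVU).op =
        X.presheaf.map (homOfLE hU').op ≫ X.presheaf.map (homOfLE (j ≫ g).le).op by
          rw [← Functor.map_comp]; rfl) _
    | zero => exact zero_smul _ w
    | add p q _ _ hp hq =>
      exact (add_smul (show X.sheaf.obj.obj (op V) from p) (show X.sheaf.obj.obj (op V) from q) w).trans
        ((congrArg₂ (· + ·) hp hq).trans (add_zero _))
    | smul e p _ hp =>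
      exact (mul_smul (show X.sheaf.obj.obj (op V) from e) (show X.sheaf.obj.obj (op V) from p) w).trans
        ((congrArg _ hp).trans (smul_zero _))
  exact key _ (Ideal.map_mono hn ha')

variable [PreservesFiniteLimits (complMor h).pull]

set_option maxHeartbeats 1000000 in
/-- The torsion functor inverts the completion of the inclusion of the torsion part. -/
theorem isIso_gammaT_pull_ι (M : ModSite.Mod X.sheaf) :
    IsIso ((FTors.gammaT (FSch.completionAlong X 𝓘) h).map
      ((complMor h).pull.map ((FTors.gammaZpι X 𝓘).app M))) := by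
  classical
  let C := FSch.completionAlong X 𝓘
  let T := (FTors.gammaZp X 𝓘).obj M
  let j : (complMor h).pull.obj T ⟶ (complMor h).pull.obj M := (complMor h).pull.map ((FTors.gammaZpι X 𝓘).app M)
  let Γj := (FTors.gammaT C h).map j
  have hN := Tors7.hN (X := X) (𝓘 := 𝓘)
  have hT : FTors.IsTorsF C h ((complMor h).pull.obj T) := Tors7.isTorsF_pull (isTors_gamma _ M)
  haveI := isIso_gammaι_of_isTorsF hT
  have hcomm : Γj ≫ (FTors.gammaTι C h).app ((complMor h).pull.obj M) =
      (FTors.gammaTι C h).app ((complMor h).pull.obj T) ≫ j := (FTors.gammaTι C h).naturality j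
  haveI : Mono j := inferInstanceAs (Mono ((complMor h).pull.map _))
  haveI : Mono Γj := by
    haveI : Mono (Γj ≫ (FTors.gammaTι C h).app ((complMor h).pull.obj M)) := by
      rw [hcomm]
      exact mono_comp _ _
    exact mono_of_mono Γj ((FTors.gammaTι C h).app ((complMor h).pull.obj M))
  haveI : Epi Γj := by
    refine Preadditive.epi_of_cancel_zero _ fun {Z} q hq => hom_ext_basis fun U _ z => ?_
    refine Eq.trans (sect_ext Z _ (0 : ModSite.sect Z U) fun p hp => ?_) rfl
    obtain ⟨U', hU', -, hpU', hU'U⟩ := exists_affine_below (𝓘 := 𝓘) hp (W := ⊤) trivial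
    obtain ⟨r, f, hf, hs⟩ := exists_gens_compl (h := h) (𝓘 := 𝓘) hU'
    let x := sHom ((FTors.gammaTι C h).app ((complMor h).pull.obj M)) (onCompl U') (sres _ hU'U z)
    have hx : FTors.IsTorsSect (FTors.openIdealFam C h) _ x := isTorsSect_gammaι _
    have hW := Tors7.isAffineOpen_onCompl (𝓘 := 𝓘) hU'
    choose m hm using fun i : ULift.{u} (Fin r) =>
      (LocNil.of_isTorsSect (t := complFun h U' (f i.down)) hN hx hW (hs.le (Ideal.subset_span ⟨i.down, rfl⟩))).exists_pow
        hW.isCompact
    obtain ⟨U'', -, hU'', h', hp'', l, a, w, hw, ex⟩ := exists_killed_lift M x le_rfl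
      (fun i : ULift.{u} (Fin r) => f i.down ^ m i)
      (fun i => Eq.trans (congrArg (fun q : Sec C h (onCompl U') => q • x)
        (Eq.trans (ConcreteCategory.congr_hom ((C.Osh h).obj.map_id (op (onCompl U'))) _)
          (map_pow (complFun h U') (f i.down) (m i)))) (hm i)) hpU'
    let t : Fin l → ModSite.sect T U'' := fun k =>
      ⟨w k, isTorsSect_of_gens M hU' hU'' f hf (fun i => m ⟨i⟩) (w k) fun i => hw k ⟨i⟩⟩
    obtain ⟨v, hv⟩ := exists_gamma_sect (hT _ (∑ k, a k • kap (h := h) T (t k)))
    refine ⟨onCompl U'', h'.trans hU'U, hp'', ?_⟩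
    have e : sHom Γj (onCompl U'') v = sres _ (h'.trans hU'U) z := by
      refine sHom_gammaι_injective _ _ ?_
      refine (sHom_comp _ _ _ _).symm.trans ((congrArg (fun φ : (FTors.gammaT C h).obj ((complMor h).pull.obj T) ⟶
        (complMor h).pull.obj M => sHom φ (onCompl U'') v) hcomm).trans ((sHom_comp _ _ _ _).trans ?_))
      rw [hv, map_sum, ← sres_sres hU'U h' z, sHom_res]
      refine Eq.trans ?_ ex.symm
      refine Finset.sum_congr rfl fun k _ => ?_
      rw [map_smul]
      exact congrArg (a k • ·) (PullLoc25.map_pullSec (complMor h) ((FTors.gammaZpι X 𝓘).app M) (t k))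
    show sres Z _ (sHom q U z) = sres Z _ 0
    rw [← sHom_res, ← e, sres_zero]
    exact sHom_eq_zero hq _ v
  exact isIso_of_mono_of_epi Γj

end GrothLib.Gam7
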