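import Groth.Agent.Lib.Gam7.Sum
import Groth.Agent.Lib.FMod7.ComplFlat
import Groth.Agent.Lib.PullLoc25.Flat

/-!
# Sections of a completed module killed by functions of the scheme
-/

set_option autoImplicit false
set_option linter.style.haveILetI false
set_option linter.unusedSectionVars false
universe u

open CategoryTheory CategoryTheory.Limits AlgebraicGeometry TopologicalSpace Opposite

noncomputable section

namespace GrothLib.Gam7

open GrothLib.FMod7 GrothLib.FCat7

/-- Relations with values in a free module become trivial after a flat extension. -/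
theorem exists_trivial_relations_finsupp {A B : Type u} [CommRing A] [CommRing B] [Algebra A B] [Module.Flat A B]
    {α β κ : Type u} [Fintype α] [Fintype β] (d : α → B) (r : β → α → κ →₀ A)
    (h : ∀ b, ∑ i, d i • (r b i).mapRange (algebraMap A B) (map_zero _) = 0) :
    ∃ (l : ℕ) (u : Fin l → B) (a : α → Fin l → A),
      (∀ i, d i = ∑ j, algebraMap A B (a i j) * u j) ∧ ∀ b j, ∑ i, a i j • r b i = 0 := by
  classical
  let S : Finset κ := Finset.univ.biUnion fun b : β => Finset.univ.biUnion fun i : α => (r b i).support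
  obtain ⟨l, u, a, hu, ha⟩ := exists_trivial_relations d (fun (bc : β × S) i => r bc.1 i bc.2) fun bc => by
    have e := congrArg (fun z : κ →₀ B => z bc.2) (h bc.1)
    simpa [Finsupp.finsetSum_apply] using e
  refine ⟨l, u, a, hu, fun b j => Finsupp.ext fun c => ?_⟩
  rw [Finsupp.finsetSum_apply, Finsupp.zero_apply]
  by_cases hc : c ∈ S
  · simpa using ha (b, ⟨c, hc⟩) j
  · refine Finset.sum_eq_zero fun i _ => ?_
    have : r b i c = 0 := Finsupp.notMem_support_iff.1 fun hm =>
      hc (Finset.mem_biUnion.2 ⟨b, Finset.mem_univ b, Finset.mem_biUnion.2 ⟨i, Finset.mem_univ i, hm⟩⟩)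
    simp [this]

variable {X : Scheme.{u}} [IsLocallyNoetherian X] {𝓘 : X.IdealSheafData}
  {h : (FSch.completionAlong X 𝓘).IsFormal}

/-- Restriction of functions of the scheme. -/
abbrev xRes {U U' : X.Opens} (hU : U' ≤ U) : Γ(X, U) →+* Γ(X, U') := (X.presheaf.map (homOfLE hU).op).hom

/-- The image of a section of a module in the completion. -/
abbrev kap (M : ModSite.Mod X.sheaf) {U : X.Opens} (m : ModSite.sect M U) :
    ModSite.sect ((complMor h).pull.obj M) (onCompl (𝓘 := 𝓘) U) :=
  PullLoc25.pullSec (complMor h) M m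

theorem onCompl_mono {U U' : X.Opens} (hU : U' ≤ U) : onCompl (𝓘 := 𝓘) U' ≤ onCompl U := fun _ hz => hU hz

theorem complFun_xRes {U U' : X.Opens} (hU : U' ≤ U) (a : Γ(X, U)) :
    complFun h U' (xRes hU a) = rRes (onCompl_mono hU) (complFun h U a) :=
  ConcreteCategory.congr_hom ((complMor h).sharp.hom.naturality (homOfLE hU).op) a

theorem kap_res (M : ModSite.Mod X.sheaf) {U U' : X.Opens} (hU : U' ≤ U) (m : ModSite.sect M U) :
    kap (h := h) M (FTors.res M (homOfLE hU) m) = sres _ (onCompl_mono hU) (kap M m) :=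
  PullLoc25.pullSec_natural (complMor h) M (homOfLE hU) m

theorem kap_smul (M : ModSite.Mod X.sheaf) {U : X.Opens} (a : Γ(X, U)) (m : ModSite.sect M U) :
    kap (h := h) M (a • m) = complFun h U a • kap M m :=
  PullLoc25.pullSec_smul (complMor h) M a m

theorem kap_sum (M : ModSite.Mod X.sheaf) {U : X.Opens} {β : Type*} (T : Finset β) (m : β → ModSite.sect M U) :
    kap (h := h) M (∑ b ∈ T, m b) = ∑ b ∈ T, kap M (m b) :=
  PullLoc25.pullSec_sum (complMor h) M T m

theorem coef_eq {V : ((FSch.completionAlong X 𝓘).X 0).Opens} {W : X.Opens}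
    (q : V ⟶ (complMor h).fn.obj W) (a : Γ(X, W)) :
    PullLoc25.coef (complMor h) q a = rRes (show V ≤ onCompl W from q.le) (complFun h W a) := rfl

set_option maxHeartbeats 1000000 in
/-- A section of the completed module killed by functions of the scheme is locally a combination of sections
of the module killed by these functions. -/
theorem exists_killed_lift (M : ModSite.Mod X.sheaf) {V : ((FSch.completionAlong X 𝓘).X 0).Opens}
    (x : ModSite.sect ((complMor h).pull.obj M) V) {U : X.Opens} (hVU : V ≤ onCompl U) {k : Type u} [Fintype k]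
    (g : k → Γ(X, U)) (hx : ∀ i, rRes hVU (complFun h U (g i)) • x = 0)
    {p : (FSch.completionAlong X 𝓘).X 0} (hp : p ∈ V) :
    ∃ (U' : X.Opens) (_ : IsAffineOpen U') (hU' : U' ≤ U) (h' : onCompl U' ≤ V), p ∈ onCompl U' ∧
      ∃ (l : ℕ) (u : Fin l → Sec (FSch.completionAlong X 𝓘) h (onCompl U'))
        (z : Fin l → ModSite.sect M U'),
        (∀ j i, xRes hU' (g i) • z j = 0) ∧ sres _ h' x = ∑ j, u j • kap M (z j) := by
  classical
  let F := complMor h
  let C := FSch.completionAlong X 𝓘
  obtain ⟨S, hS, hlam⟩ := PullLoc25.exists_lam F M x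
  obtain ⟨V₁, g₁, hSg, hp₁⟩ := hS p hp
  obtain ⟨y, hy⟩ := hlam g₁ hSg
  have hrel : ∀ i, ∃ (V' : (C.X 0).Opens) (g' : V' ⟶ V₁), p ∈ V' ∧ ∃ d,
      (PullLoc25.relMap F M).app (op V') d = (PullLoc25.freeGens F M).map g'.op
        ((show (C.Osh h).obj.obj (op V₁) from rRes (g₁.le.trans hVU) (complFun h U (g i))) • y) := fun i => by
    obtain ⟨T, hT, hrel⟩ := PullLoc25.exists_rel F M
      ((show (C.Osh h).obj.obj (op V₁) from rRes (g₁.le.trans hVU) (complFun h U (g i))) • y) (by
        refine (((PullLoc25.lam F M).app (op V₁)).hom.map_smul _ y).trans ?_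
        refine (congrArg (fun q : ModSite.sect (F.pull.obj M) V₁ =>
          (show (C.Osh h).obj.obj (op V₁) from rRes (g₁.le.trans hVU) (complFun h U (g i))) • q) hy).trans ?_
        have := congrArg (sres (F.pull.obj M) g₁.le) (hx i)
        rw [sres_smul, rRes_rRes, sres_zero] at this
        exact this)
    obtain ⟨V', g', hTg, hpV'⟩ := hT p hp₁
    exact ⟨V', g', hpV', hrel g' hTg⟩
  choose V₂ g₂ hp₂ d hd using hrel
  let y' : (Σ i : PullLoc25.Idx M, V₁ ⟶ F.fn.obj i.1) →₀ Sec C h V₁ := y
  let d' : ∀ i, (Σ R : PullLoc25.Rel M, V₂ i ⟶ F.fn.obj R.W) →₀ Sec C h (V₂ i) := fun i => d i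
  let P := (V₁ ⊓ Finset.univ.inf V₂ : (C.X 0).Opens)
  have hpP : p ∈ P := by
    refine ⟨hp₁, ?_⟩
    show p ∈ ((Finset.univ.inf V₂ : (C.X 0).Opens) : Set (C.X 0))
    rw [Opens.coe_finset_inf]
    simp only [Finset.inf_set_eq_iInter, Set.mem_iInter]
    exact fun i _ => hp₂ i
  let Q := U ⊓ (y'.support.inf fun e => e.1.1) ⊓ (Finset.univ.inf fun i => (d' i).support.inf fun R => R.1.W)
  have hpQ : FSch.completionToX X 𝓘 0 p ∈ Q := by
    refine ⟨⟨hVU hp, ?_⟩, ?_⟩
    · show FSch.completionToX X 𝓘 0 p ∈ ((y'.support.inf fun e => e.1.1 : X.Opens) : Set X)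
      rw [Opens.coe_finset_inf]
      simp only [Finset.inf_set_eq_iInter, Set.mem_iInter]
      exact fun e _ => e.2.le hp₁
    · show FSch.completionToX X 𝓘 0 p ∈
        ((Finset.univ.inf fun i => (d' i).support.inf fun R => R.1.W : X.Opens) : Set X)
      rw [Opens.coe_finset_inf]
      simp only [Finset.inf_set_eq_iInter, Set.mem_iInter]
      intro i _
      show FSch.completionToX X 𝓘 0 p ∈ (((d' i).support.inf fun R => R.1.W : X.Opens) : Set X)
      rw [Opens.coe_finset_inf]
      simp only [Finset.inf_set_eq_iInter, Set.mem_iInter]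
      exact fun R _ => R.2.le (hp₂ i)
  obtain ⟨U', hU'a, hU'Q, hpU', hU'P⟩ := exists_affine_below (𝓘 := 𝓘) hpP hpQ
  have hU' : U' ≤ U := hU'Q.trans (inf_le_left.trans inf_le_left)
  have h₁ : onCompl U' ≤ V₁ := hU'P.trans inf_le_left
  have h₂ : ∀ i, onCompl U' ≤ V₂ i := fun i => hU'P.trans (inf_le_right.trans (Finset.inf_le (Finset.mem_univ i)))
  have he : ∀ e ∈ y'.support, U' ≤ e.1.1 := fun e he =>
    hU'Q.trans ((inf_le_left.trans inf_le_right).trans (Finset.inf_le he))
  have hR : ∀ i, ∀ R ∈ (d' i).support, U' ≤ R.1.W := fun i R hR =>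
    hU'Q.trans ((inf_le_right.trans (Finset.inf_le (Finset.mem_univ i))).trans (Finset.inf_le hR))
  letI : Algebra Γ(X, U') (Sec C h (onCompl U')) := (complFun h U').toAlgebra
  haveI : Module.Flat Γ(X, U') (Sec C h (onCompl U')) := flat_complFun h hU'a
  let α := y'.support ⊕ (Σ i : k, (d' i).support)
  let D : α → Sec C h (onCompl U') := Sum.elim (fun e => rRes h₁ (y' e.1))
    fun iR => rRes (h₂ iR.1) (d' iR.1 iR.2.1)
  let relF : ∀ i, (d' i).support → (PullLoc25.Idx M →₀ Γ(X, U')) := fun i R =>
    R.1.1.r.sum fun a c => Finsupp.single a.1 (xRes (hR i R.1 R.2) c)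
  let r : k → α → (PullLoc25.Idx M →₀ Γ(X, U')) := fun i => Sum.elim
    (fun e => Finsupp.single e.1.1 (xRes hU' (g i)))
    fun iR => if iR.1 = i then -relF iR.1 iR.2 else 0
  have hkey : ∀ i, ∑ a, D a • (r i a).mapRange (algebraMap Γ(X, U') (Sec C h (onCompl U'))) (map_zero _) = 0 := by
    intro i
    let Φ : ((Σ j : PullLoc25.Idx M, V₂ i ⟶ F.fn.obj j.1) →₀ Sec C h (V₂ i)) →+
        (PullLoc25.Idx M →₀ Sec C h (onCompl U')) :=
      (Finsupp.mapDomain.addMonoidHom Sigma.fst).comp (Finsupp.mapRange.addMonoidHom (rRes (h₂ i)).toAddMonoidHom)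
    have hΦ : ∀ (q : Σ j : PullLoc25.Idx M, V₂ i ⟶ F.fn.obj j.1) (c : Sec C h (V₂ i)),
        Φ (Finsupp.single q c) = Finsupp.single q.1 (rRes (h₂ i) c) := fun q c => by
      simp [Φ, Finsupp.mapDomain_single]
    let ci : (C.Osh h).obj.obj (op V₁) := rRes (g₁.le.trans hVU) (complFun h U (g i))
    have e1 : Φ ((PullLoc25.freeGens F M).map (g₂ i).op (ci • y)) =
        ∑ e : y'.support, D (Sum.inl e) • (r i (Sum.inl e)).mapRange
          (algebraMap Γ(X, U') (Sec C h (onCompl U'))) (map_zero _) := by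
      have hy' : y = ∑ e : y'.support, (y' e.1 : (C.Osh h).obj.obj (op V₁)) • PullLoc25.gen' F M e.1 := by
        rw [Finset.sum_coe_sort y'.support fun e => (y' e : (C.Osh h).obj.obj (op V₁)) • PullLoc25.gen' F M e]
        refine Eq.trans (Finsupp.sum_single y').symm ?_
        exact Finset.sum_congr rfl fun e _ => (Finsupp.smul_single_one e (y' e)).symm
      conv_lhs => rw [hy', Finset.smul_sum, map_sum]
      refine (map_sum Φ _ _).trans (Finset.sum_congr rfl fun e _ => ?_)
      rw [smul_smul]
      refine (congrArg Φ (((PullLoc25.freeGens F M).map_smul (g₂ i).op _ _).trans (congrArg (_ • ·)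
        (PullLoc25.gen'_map F M (g₂ i) e.1)))).trans ?_
      refine (congrArg Φ (Finsupp.smul_single_one _ _)).trans ((hΦ _ _).trans ?_)
      simp only [D, r, Sum.elim_inl, Finsupp.mapRange_single, Finsupp.smul_single]
      refine congrArg (Finsupp.single e.1.1) ?_
      show rRes (h₂ i) (rRes (g₂ i).le (rRes (g₁.le.trans hVU) (complFun h U (g i)) * y' e.1)) =
        rRes h₁ (y' e.1) * complFun h U' (xRes hU' (g i))
      rw [complFun_xRes, map_mul, map_mul, rRes_rRes, rRes_rRes, rRes_rRes, mul_comm]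
    have e2 : Φ ((PullLoc25.relMap F M).app (op (V₂ i)) (d i)) =
        ∑ R : (d' i).support, rRes (h₂ i) (d' i R.1) •
          (relF i R).mapRange (algebraMap Γ(X, U') (Sec C h (onCompl U'))) (map_zero _) := by
      have hd' : (PullLoc25.relMap F M).app (op (V₂ i)) (d i) =
          (d' i).sum fun R c => (c : (C.Osh h).obj.obj (op (V₂ i))) • PullLoc25.relVec F M (V := V₂ i) R :=
        PullLoc25.relMap_apply F (d i)
      rw [hd', Finsupp.sum]
      refine (map_sum Φ _ _).trans ?_
      rw [← Finset.sum_coe_sort]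
      refine Finset.sum_congr rfl fun R _ => ?_
      simp only [PullLoc25.relVec, relF, Finsupp.sum, Finset.smul_sum, map_sum, Finsupp.mapRange_finsetSum]
      refine (map_sum Φ _ _).trans (Finset.sum_congr rfl fun a _ => ?_)
      rw [smul_smul]
      refine (congrArg Φ (Finsupp.smul_single_one _ _)).trans ((hΦ _ _).trans ?_)
      rw [Finsupp.mapRange_single, Finsupp.smul_single]
      refine congrArg (Finsupp.single a.1) ?_
      show rRes (h₂ i) ((d' i R.1) * PullLoc25.coef F R.1.2 (R.1.1.r a)) =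
        rRes (h₂ i) (d' i R.1) * complFun h U' (xRes (hR i R.1 R.2) (R.1.1.r a))
      rw [coef_eq, map_mul, complFun_xRes, rRes_rRes]
    have e3 : ∑ iR : (Σ j : k, (d' j).support), D (Sum.inr iR) • (r i (Sum.inr iR)).mapRange
          (algebraMap Γ(X, U') (Sec C h (onCompl U'))) (map_zero _) =
        -∑ R : (d' i).support, rRes (h₂ i) (d' i R.1) •
          (relF i R).mapRange (algebraMap Γ(X, U') (Sec C h (onCompl U'))) (map_zero _) := by
      rw [Fintype.sum_sigma, Finset.sum_eq_single i, ← Finset.sum_neg_distrib]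
      · refine Finset.sum_congr rfl fun R _ => ?_
        simp only [D, r, Sum.elim_inr, if_true]
        rw [← smul_neg]
        refine congrArg (_ • ·) (Finsupp.ext fun c => ?_)
        simp
      · intro j _ hji
        refine Finset.sum_eq_zero fun R _ => ?_
        simp [r, hji]
      · exact fun hh => absurd (Finset.mem_univ i) hh
    rw [Fintype.sum_sum_type, e3, ← e1, ← e2, hd i]
    exact add_neg_cancel _
  obtain ⟨l, u, a, hu, ha⟩ := exists_trivial_relations_finsupp D r hkey
  let val : PullLoc25.Idx M → ModSite.sect M U' := fun c =>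
    if hc : U' ≤ c.1 then FTors.res M (homOfLE hc) c.2 else 0
  let E := Finsupp.linearCombination Γ(X, U') val
  let z : Fin l → ModSite.sect M U' := fun j => ∑ e : y'.support, a (Sum.inl e) j • val e.1.1
  refine ⟨U', hU'a, hU', h₁.trans g₁.le, hpU', l, u, z, fun j i => ?_, ?_⟩
  · have h0 := congrArg E (ha i j)
    rw [map_sum, Fintype.sum_sum_type, map_zero] at h0
    have hz : ∑ iR : (Σ j : k, (d' j).support), E (a (Sum.inr iR) j • r i (Sum.inr iR)) = 0 := by
      refine Finset.sum_eq_zero fun iR _ => ?_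
      rw [map_smul]
      obtain ⟨i', R⟩ := iR
      have h1 : E (relF i' R) = 0 := by
        simp only [E, relF, Finsupp.sum, map_sum, Finsupp.linearCombination_single]
        have hrel := congrArg (FTors.res M (homOfLE (hR i' R.1 R.2))) R.1.1.rel
        refine Eq.trans (Finset.sum_congr rfl fun b _ => ?_)
          (Eq.trans (map_sum (M.val.map (homOfLE (hR i' R.1 R.2)).op).hom _ _).symm
            (hrel.trans (FTors.res_zero M _)))
        simp only [val]
        rw [dif_pos ((hR i' R.1 R.2).trans b.2.le)]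
        show _ = M.val.map (homOfLE (hR i' R.1 R.2)).op ((R.1.1.r b : X.sheaf.obj.obj (op R.1.1.W)) • FTors.res M b.2 b.1.2)
        refine Eq.trans ?_ (M.val.map_smul _ _ _).symm
        refine congrArg (xRes (hR i' R.1 R.2) (R.1.1.r b) • ·) ?_
        exact FTors.res_comp M b.2 (homOfLE (hR i' R.1 R.2)) b.1.2
      simp only [r, Sum.elim_inr]
      split
      · rw [map_neg, h1, neg_zero, smul_zero]
      · rw [map_zero, smul_zero]
    rw [hz, add_zero] at h0
    refine Eq.trans ?_ h0
    simp only [z, Finset.smul_sum]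
    refine Finset.sum_congr rfl fun e _ => ?_
    rw [map_smul]
    simp only [r, Sum.elim_inl, E, Finsupp.linearCombination_single]
    rw [smul_comm]
  · rw [← sres_sres g₁.le h₁]
    have hy1 : sres _ g₁.le x = y'.sum fun e c =>
        (c : Sec C h V₁) • sres (F.pull.obj M) e.2.le (kap M e.1.2) := hy.symm.trans (PullLoc25.lam_apply F y)
    rw [hy1, Finsupp.sum, sres_finsum, ← Finset.sum_coe_sort]
    have hk : ∀ j, u j • kap (h := h) M (z j) =
        ∑ e : y'.support, u j • kap (h := h) M (a (Sum.inl e) j • val e.1.1) := fun j => by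
      rw [show z j = ∑ e : y'.support, a (Sum.inl e) j • val e.1.1 from rfl, kap_sum, Finset.smul_sum]
    rw [Finset.sum_congr rfl fun j _ => hk j]
    refine Eq.trans ?_ Finset.sum_comm
    refine Finset.sum_congr rfl fun e _ => ?_
    rw [sres_smul, sres_sres, show rRes h₁ (y' e.1) = D (Sum.inl e) from rfl, hu, Finset.sum_smul]
    refine Finset.sum_congr rfl fun j _ => ?_
    simp only [val]
    rw [dif_pos (he e.1 e.2)]
    refine Eq.trans ?_ (congrArg (fun q : ModSite.sect ((complMor h).pull.obj M) (onCompl U') => u j • q)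
      ((kap_smul (h := h) M (a (Sum.inl e) j) _).trans
        (congrArg (fun q : ModSite.sect ((complMor h).pull.obj M) (onCompl U') => complFun h U' (a (Sum.inl e) j) • q)
          (kap_res M (he e.1 e.2) e.1.1.2)))).symm
    refine (mul_smul _ (u j) _).trans ?_
    exact smul_comm _ _ _

end GrothLib.Gam7
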