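import Groth.Agent.Lib.Gam7.KappaLift
import Groth.Agent.Lib.Tors7.Levels
import Mathlib.AlgebraicGeometry.Morphisms.Flat

/-!
# The completion of an injective module splits
-/

set_option autoImplicit false
set_option linter.style.haveILetI false
set_option linter.unusedSectionVars false
universe u

open CategoryTheory CategoryTheory.Limits AlgebraicGeometry TopologicalSpace Opposite

noncomputable section

namespace GrothLib.Gam7

open GrothLib.FMod7 GrothLib.FCat7

variable {X : Scheme.{u}} [IsLocallyNoetherian X]

theorem flat_xRes {U V : X.Opens} (hU : IsAffineOpen U) (hV : IsAffineOpen V) (hVU : V ≤ U) :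
    (xRes (X := X) hVU).Flat := by
  have := Scheme.Hom.flat_appLE (𝟙 X) hU hV hVU
  have e : (𝟙 X : X ⟶ X).appLE U V hVU = X.presheaf.map (homOfLE hVU).op := by
    simp [Scheme.Hom.appLE]
    exact Category.id_comp _
  rw [e] at this
  exact this

/-- In an injective module on a scheme, a section killed by some functions splits off a multiple of a power. -/
theorem exists_split_scheme (M : ModSite.Mod X.sheaf) [Injective M] {U : X.Opens} (hU : IsAffineOpen U)
    {ι : Type u} [Fintype ι] (g : ι → Γ(X, U)) (z : ModSite.sect M U) (hz : ∀ i, g i • z = 0) (t : Γ(X, U))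
    (n : ℕ) : ∃ (N : ℕ) (y : ModSite.sect M U), (∀ i, g i • y = 0) ∧ t ^ N • (z - t ^ n • y) = 0 := by
  classical
  haveI := IsLocallyNoetherian.component_noetherian (X := X) ⟨U, hU⟩
  let b : Ideal Γ(X, U) := Ideal.span (Set.range g)
  let C : ℕ →o Ideal Γ(X, U) :=
    ⟨fun N => Submodule.comap (LinearMap.mulLeft Γ(X, U) (t ^ N)) b, fun N N' hNN' a ha => by
      obtain ⟨l, rfl⟩ := Nat.exists_eq_add_of_le hNN'
      show t ^ (N + l) * a ∈ b
      rw [pow_add, mul_comm (t ^ N), mul_assoc]
      exact b.mul_mem_left _ ha⟩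
  obtain ⟨N, hNC⟩ := monotone_stabilizes_iff_noetherian.2 inferInstance C
  have hb : ∀ a ∈ b, a • z = 0 := fun a ha => by
    induction ha using Submodule.span_induction with
    | mem q hq => obtain ⟨i, rfl⟩ := hq; exact hz i
    | zero => exact zero_smul _ _
    | add p q _ _ h1 h2 => rw [add_smul, h1, h2, add_zero]
    | smul e p _ h1 => rw [smul_eq_mul, mul_smul, h1, smul_zero]
  let c : Option ι → Γ(X, U) := fun i => i.elim (t ^ (N + n)) g
  let v : Option ι → ModSite.sect M U := fun i => i.elim (t ^ N • z) fun _ => 0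
  obtain ⟨y, hy⟩ := exists_of_injective M U c v fun V hV a ha => by
    refine sect_ext (T := X.toTopCat) M _ _ fun p hp => ?_
    obtain ⟨V', hV', hpV', hV'V'⟩ := exists_isAffineOpen_mem_and_subset (x := p) (U := V) hp
    have hle : V' ≤ V := hV'V'
    refine ⟨V', hle, hpV', ?_⟩
    let hVU : V' ≤ U := hle.trans hV
    letI : Algebra Γ(X, U) Γ(X, V') := (xRes hVU).toAlgebra
    haveI : Module.Flat Γ(X, U) Γ(X, V') := flat_xRes hU hV' hVU
    obtain ⟨l, w, e, hw, he⟩ := exists_trivial_relations (A := Γ(X, U)) (B := Γ(X, V'))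
      (fun i => ores X.sheaf hle (a i)) (fun (_ : PUnit.{u + 1}) i => c i) fun _ => by
        refine Eq.trans ?_ ((congrArg (X.sheaf.obj.map (homOfLE hle).op).hom ha).trans (map_zero _))
        refine Eq.trans ?_ (map_sum _ _ _).symm
        refine Finset.sum_congr rfl fun i _ => ?_
        refine Eq.trans ?_ (map_mul _ _ _).symm
        exact congrArg (ores X.sheaf hle (a i) * ·) (ores_ores (O := X.sheaf) hV hle (c i)).symm
    have hkill : ∀ j : Fin l, ∑ i, e i j • v i = 0 := fun j => by
      have e0 := he PUnit.unit j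
      rw [Fintype.sum_option] at e0 ⊢
      simp only [c, v, Option.elim_none, Option.elim_some, smul_zero, Finset.sum_const_zero, add_zero] at e0 ⊢
      have h1 : e none j ∈ C (N + n) := by
        show t ^ (N + n) * e none j ∈ b
        rw [mul_comm, eq_neg_of_add_eq_zero_left e0]
        exact b.neg_mem (b.sum_mem fun i _ => b.mul_mem_left _ (Ideal.subset_span ⟨i, rfl⟩))
      rw [← hNC (N + n) (Nat.le_add_right N n)] at h1
      rw [smul_smul, mul_comm]
      exact hb _ h1
    refine Eq.trans ?_ (map_zero (M.val.map (homOfLE hle).op).hom).symm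
    refine (sres_sum (M := M) hle a fun i => sres M hV (v i)).trans ?_
    calc ∑ i, ores X.sheaf hle (a i) • sres M hle (sres M hV (v i))
        = ∑ i, ∑ j, w j • sres M hVU (e i j • v i) := by
          refine Finset.sum_congr rfl fun i _ => ?_
          rw [sres_sres, hw i]
          refine (Finset.sum_smul (R := Γ(X, V')) (M := ModSite.sect M V')).trans ?_
          refine Finset.sum_congr rfl fun j _ => ?_
          refine Eq.trans ?_ (congrArg (fun q : ModSite.sect M V' => w j • q)
            (M.val.map_smul (homOfLE hVU).op (e i j) (v i))).symm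
          rw [mul_comm]
          exact mul_smul _ _ _
      _ = ∑ j, w j • sres M hVU (∑ i, e i j • v i) := by
          rw [Finset.sum_comm]
          refine Finset.sum_congr rfl fun j _ => ?_
          rw [← Finset.smul_sum]
          exact congrArg (fun q : ModSite.sect M V' => w j • q)
            (map_sum (M.val.map (homOfLE hVU).op).hom _ _).symm
      _ = 0 := by
          refine Finset.sum_eq_zero fun j _ => ?_
          rw [hkill j]
          exact (congrArg (fun q : ModSite.sect M V' => w j • q) (map_zero _)).trans (smul_zero _)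
  refine ⟨N, y, fun i => hy (some i), ?_⟩
  have h0 : t ^ (N + n) • y = t ^ N • z := hy none
  rw [smul_sub, smul_smul, ← pow_add, h0, sub_self]

variable {𝓘 : X.IdealSheafData} {h : (FSch.completionAlong X 𝓘).IsFormal}

set_option maxHeartbeats 800000 in
/-- The completion of an injective module splits locally with respect to functions of the scheme. -/
theorem splits_kappa (M : ModSite.Mod X.sheaf) [Injective M] {U : X.Opens} {r : ℕ} (f : Fin r → Γ(X, U)) :
    Splits ((complMor h).pull.obj M) (V := onCompl (𝓘 := 𝓘) U) (fun i => complFun h U (f i)) := by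
  classical
  intro k W hWV hW x hx l n p hp
  choose m hm using fun i : ULift.{u} {i : Fin r // i.1 < k} => (hx i.down.1 i.down.2).exists_pow hW.isCompact
  obtain ⟨U', hU'a, hU', h', hp', L, u, z, hz, ex⟩ := exists_killed_lift M x hWV
    (fun i : ULift.{u} {i : Fin r // i.1 < k} => f i.down.1 ^ m i) (fun i => by rw [map_pow, map_pow]; exact hm i) hp
  choose N y hy hy' using fun j => exists_split_scheme M hU'a (fun i => xRes hU' (f i.down.1 ^ m i)) (z j)
    (fun i => hz j i) (xRes hU' (f l)) n
  have hres : ∀ i, rRes (h'.trans hWV) (complFun h U (f i)) = complFun h U' (xRes hU' (f i)) :=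
    fun i => (complFun_xRes hU' (f i)).symm
  refine ⟨onCompl U', h', ∑ j, u j • kap M (y j), hU'a.preimage (FSch.completionToX X 𝓘 0), hp',
    Nil.sum _ _ fun j _ => fun i hi => LocNil.of_eq_zero (N := m ⟨⟨i, hi⟩⟩) ?_, ?_⟩
  · rw [smul_comm, hres, ← map_pow, ← map_pow, ← kap_smul]
    rw [show xRes hU' (f i ^ m ⟨⟨i, hi⟩⟩) • y j = 0 from hy j ⟨⟨i, hi⟩⟩]
    exact (congrArg (fun q : ModSite.sect ((complMor h).pull.obj M) (onCompl U') => u j • q)
      (map_zero (((complMor h).adj.unit.app M).val.app (op U')).hom)).trans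
        (smul_zero (A := ModSite.sect ((complMor h).pull.obj M) (onCompl U')) (u j))
  · have e : sres _ h' x - rRes (h'.trans hWV) (complFun h U (f l)) ^ n • ∑ j, u j • kap (h := h) M (y j) =
        ∑ j, u j • kap (h := h) M (z j - xRes hU' (f l) ^ n • y j) := by
      rw [ex, hres, Finset.smul_sum, ← Finset.sum_sub_distrib]
      refine Finset.sum_congr rfl fun j _ => ?_
      rw [smul_comm, ← smul_sub, ← map_pow, ← kap_smul]
      refine congrArg (fun q : ModSite.sect ((complMor h).pull.obj M) (onCompl U') => u j • q) ?_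
      exact (map_sub (((complMor h).adj.unit.app M).val.app (op U')).hom _ _).symm
    rw [e]
    refine LocNil.sum _ _ fun j _ => LocNil.smul (LocNil.of_eq_zero (N := N j) ?_) _
    rw [hres, ← map_pow, ← kap_smul, hy' j]
    exact map_zero (((complMor h).adj.unit.app M).val.app (op U')).hom

theorem exists_gens_compl {U : X.Opens} (hU : IsAffineOpen U) :
    ∃ (r : ℕ) (f : Fin r → Γ(X, U)), Ideal.span (Set.range f) = 𝓘.ideal ⟨U, hU⟩ ∧
      Ideal.span (Set.range fun i => complFun h U (f i)) =
        secIdeal (FSch.completionAlong X 𝓘) h (onCompl U) := by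
  haveI := IsLocallyNoetherian.component_noetherian (X := X) ⟨U, hU⟩
  obtain ⟨r, f, hf⟩ := Submodule.fg_iff_exists_fin_generating_family.1 (IsNoetherian.noetherian (𝓘.ideal ⟨U, hU⟩))
  refine ⟨r, f, hf, ?_⟩
  rw [secIdeal, Tors7.ker_proj_compl h hU 0, zero_add, pow_one,
    ← (show Ideal.span (Set.range f) = 𝓘.ideal ⟨U, hU⟩ from hf), Ideal.map_span, ← Set.range_comp]
  rfl

end GrothLib.Gam7
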