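import Groth.Agent.Lib.Gam7.GenSec
import Groth.Agent.Lib.Gam7.UC

/-!
# The telescope of a topologically nilpotent endomorphism and the derived torsion functor
-/

set_option autoImplicit false
set_option linter.style.haveILetI false
set_option linter.unusedSectionVars false
universe u

open CategoryTheory CategoryTheory.Limits AlgebraicGeometry TopologicalSpace Opposite Pretriangulated

attribute [local instance] HasDerivedCategory.standard
attribute [local instance] Classical.decEq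

noncomputable section

namespace GrothLib.Gam7

open GrothLib.FMod7 GrothLib.FCat7 ZeroObject

variable {𝔛 : FSch.Sys.{u}} {h : 𝔛.IsFormal}

local notation "Hm" => DerivedCategory.homologyFunctor (FSch.ModF 𝔛 h)

/-- The shift of summands of a countable sum, followed by an endomorphism. -/
def shiftEnd.{w, v₁, u₁} {C : Type u₁} [Category.{v₁} C] {M : C} (τ : M ⟶ M) [HasCoproduct fun _ : ULift.{w} ℕ => M] :
    (∐ fun _ : ULift.{w} ℕ => M) ⟶ ∐ fun _ : ULift.{w} ℕ => M :=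
  Sigma.desc fun n => τ ≫ Sigma.ι (fun _ : ULift.{w} ℕ => M) ⟨n.down + 1⟩

/-- The map `1 - shift` on the sum of copies of a module is injective. -/
theorem mono_one_sub_shiftEnd {M : FSch.ModF 𝔛 h} (τ : M ⟶ M) : Mono (𝟙 _ - shiftEnd.{u} τ) := by
  refine ⟨fun {Z} a b hab => hom_ext_basis fun U _ x => ?_⟩
  let K := fun _ : ULift.{u} ℕ => M
  suffices H : ∀ z : ModSite.sect (∐ K) U, sHom (𝟙 _ - shiftEnd.{u} τ) U z = 0 → z = 0 by
    refine sub_eq_zero.1 (H (sHom a U x - sHom b U x) ?_)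
    rw [map_sub, sub_eq_zero]
    exact ((sHom_comp a _ U x).symm.trans (congrArg (fun φ => sHom φ U x) hab)).trans (sHom_comp b _ U x)
  intro z hz
  refine FMod7.sect_ext _ _ _ fun p hp => ?_
  obtain ⟨W, hW, t, c, -, hpW, e⟩ := exists_local_sigma K z hp
  refine ⟨W, hW, hpW, ?_⟩
  show sres _ hW z = sres _ hW (0 : ModSite.sect (∐ K) U)
  have hz' : sHom (𝟙 _ - shiftEnd.{u} τ) W (sres _ hW z) = 0 := by rw [sHom_res, hz, sres_zero]
  let π : ℕ → ModSite.sect M W := fun m => sHom (Sigma.π K ⟨m⟩) W (sres _ hW z)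
  have hπ : ∀ m, π m = 0 := fun m => by
    induction m with
    | zero =>
      have h0 : (𝟙 _ - shiftEnd.{u} τ) ≫ Sigma.π K ⟨0⟩ = Sigma.π K ⟨0⟩ := by
        rw [Preadditive.sub_comp, Category.id_comp, sub_eq_self]
        refine Sigma.hom_ext _ _ fun n => ?_
        rw [shiftEnd, Sigma.ι_desc_assoc, Category.assoc, Sigma.ι_π_of_ne, comp_zero, comp_zero]
        exact fun hh => Nat.succ_ne_zero n.down (congrArg ULift.down hh)
      refine ((congrArg (fun φ => sHom φ W (sres _ hW z)) h0).symm.trans (sHom_comp _ _ W _)).trans ?_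
      rw [hz', map_zero]
    | succ m ih =>
      have h1 : (𝟙 _ - shiftEnd.{u} τ) ≫ Sigma.π K ⟨m + 1⟩ = Sigma.π K ⟨m + 1⟩ - Sigma.π K ⟨m⟩ ≫ τ := by
        rw [Preadditive.sub_comp, Category.id_comp, sub_right_inj]
        refine Sigma.hom_ext _ _ fun n => ?_
        rw [shiftEnd, Sigma.ι_desc_assoc, Category.assoc]
        by_cases hn : n = ⟨m⟩
        · subst hn
          rw [Sigma.ι_π_eq_id, Category.comp_id, Sigma.ι_π_eq_id_assoc]
        · rw [Sigma.ι_π_of_ne, comp_zero, Sigma.ι_π_of_ne_assoc _ hn, zero_comp]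
          exact fun hh => hn (ULift.ext _ _ (Nat.succ_injective (congrArg ULift.down hh)))
      have h2 : π (m + 1) - sHom τ W (π m) = 0 := by
        refine Eq.trans ?_ (((congrArg (fun φ => sHom φ W (sres _ hW z)) h1).symm.trans (sHom_comp _ _ W _)).trans
          (by rw [hz', map_zero]))
        show _ = sHom (Sigma.π K ⟨m + 1⟩) W _ - sHom (Sigma.π K ⟨m⟩ ≫ τ) W _
        rw [sHom_comp]
      rwa [ih, map_zero, sub_zero] at h2
  rw [sres_zero, e]
  refine Finset.sum_eq_zero fun a ha => ?_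
  have hca : π a.down = c a := by
    show sHom (Sigma.π K a) W (sres _ hW z) = c a
    rw [e, map_sum, Finset.sum_eq_single a]
    · exact (sHom_comp _ _ W _).symm.trans (congrArg (fun φ : M ⟶ M => sHom φ W (c a)) (Sigma.ι_π_eq_id K a))
    · exact fun b _ hb => sHom_eq_zero (Sigma.ι_π_of_ne K hb) W _
    · exact fun hn => absurd ha hn
  rw [← hca, hπ, map_zero]

variable [FTors.HasRgammaT 𝔛 h]

local notation "R" => FTors.RgammaT 𝔛 h
local notation "ε" => FTors.RgammaTε 𝔛 h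

/-- No maps from torsion objects to an object on whose cohomology a function of the ideal acts bijectively. -/
theorem eq_zero_of_bijective (hN : 𝔛.IsLocNoethFormal) {W : (𝔛.X 0).Opens} (t : Sec 𝔛 h W)
    (ht : ∀ (U : (𝔛.X 0).Opens) (hUW : U ≤ W), IsAffineOpen U → rRes hUW t ∈ secIdeal 𝔛 h U)
    {Y : DerivedCategory (FSch.ModF 𝔛 h)} (hout : ∀ n p, p ∉ W → GermZero ((Hm n).obj Y) p)
    (hin : ∀ n (U : (𝔛.X 0).Opens) (hUW : U ≤ W),
      Function.Bijective fun x : ModSite.sect ((Hm n).obj Y) U => rRes hUW t • x)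
    {T : DerivedCategory (FSch.ModF 𝔛 h)} (hT : FTors.IsDTorsF 𝔛 h T) (φ : T ⟶ Y) : φ = 0 := by
  obtain ⟨I, hI, hX, ⟨e⟩⟩ := exists_kinj Y
  haveI := hI
  let w : ∀ n, (Hm n).obj Y ≅ I.homology n := fun n => (Hm n).mapIso e ≪≫ (homIso n).app I
  have hl : ∀ n U (x : ModSite.sect (I.homology n) U), sHom (w n).hom U (sHom (w n).inv U x) = x := fun n U x =>
    (sHom_comp _ _ U x).symm.trans (congrArg (fun φ => sHom φ U x) (w n).inv_hom_id)
  refine (cancel_mono e.hom).1 ((eq_zero_of_isDTorsF hN t I hX (fun n p hp U hpU x => ?_)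
    (fun n U hUW => ⟨fun x y hxy => ?_, fun y => ?_⟩) ht hT (φ ≫ e.hom)).trans zero_comp.symm)
  · obtain ⟨U', h', hp', hx⟩ := hout n p hp U hpU (sHom (w n).inv U x)
    exact ⟨U', h', hp', by rw [← hl n U x, ← sHom_res, hx, map_zero]⟩
  · refine sHom_injective (w n).inv U ((hin n U hUW).1 ?_)
    show rRes hUW t • sHom (w n).inv U x = rRes hUW t • sHom (w n).inv U y
    rw [← map_smul, ← map_smul]
    exact congrArg _ hxy
  · obtain ⟨x, hx⟩ := (hin n U hUW).2 (sHom (w n).inv U y)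
    refine ⟨sHom (w n).hom U x, ?_⟩
    show rRes hUW t • sHom (w n).hom U x = y
    rw [← map_smul]
    exact (congrArg _ hx).trans (hl n U y)

/-- The telescope of a topologically nilpotent endomorphism is invisible to torsion objects. -/
theorem comp_one_sub_shiftEnd_bijective (hN : 𝔛.IsLocNoethFormal) {W : (𝔛.X 0).Opens} (t : Sec 𝔛 h W)
    (ht : ∀ (U : (𝔛.X 0).Opens) (hUW : U ≤ W), IsAffineOpen U → rRes hUW t ∈ secIdeal 𝔛 h U)
    {E : DerivedCategory (FSch.ModF 𝔛 h)} (τ : E ⟶ E) (hout : ∀ n p, p ∉ W → GermZero ((Hm n).obj E) p)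
    (hin : ∀ n (V : (𝔛.X 0).Opens) (hV : V ≤ W) (z : ModSite.sect ((Hm n).obj E) V),
      sHom ((Hm n).map τ) V z = rRes hV t • z)
    {T : DerivedCategory (FSch.ModF 𝔛 h)} (hT : FTors.IsDTorsF 𝔛 h T) :
    Function.Bijective fun φ : T ⟶ ∐ (fun _ : ULift.{u} ℕ => E) => φ ≫ (𝟙 _ - shiftEnd.{u} τ) := by
  haveI : IsGrothendieckAbelian.{u} (FSch.ModF 𝔛 h) := KInj.isGrothendieckAbelian_sheafOfModules _
  let K := fun _ : ULift.{u} ℕ => E
  let m : ∐ K ⟶ ∐ K := 𝟙 _ - shiftEnd.{u} τ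
  obtain ⟨Y, g, d, hTr⟩ := distinguished_cocone_triangle m
  let a : ∀ n, (∐ fun _ : ULift.{u} ℕ => (Hm n).obj E) ⟶ (Hm n).obj (∐ K) := fun n =>
    Sigma.desc fun k => (Hm n).map (Sigma.ι K k)
  haveI ha : ∀ n, IsIso (a n) := fun n => RpushD7.isIso_homologySigma K n
  have hm : ∀ n, (𝟙 _ - shiftEnd.{u} ((Hm n).map τ)) ≫ a n = a n ≫ (Hm n).map m := fun n => Sigma.hom_ext _ _ fun k => by
    simp only [a, m, shiftEnd, Functor.map_sub, Preadditive.sub_comp, Preadditive.comp_sub, Category.id_comp,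
      Sigma.ι_desc, Sigma.ι_desc_assoc, Category.assoc, ← Functor.map_comp]
    exact congr_arg₂ (· - ·) (congrArg _ (Category.comp_id (Sigma.ι K k)).symm) rfl
  have hmono : ∀ n, Mono ((Hm n).map m) := fun n => by
    haveI := mono_one_sub_shiftEnd ((Hm n).map τ)
    rw [show (Hm n).map m = inv (a n) ≫ (𝟙 _ - shiftEnd.{u} ((Hm n).map τ)) ≫ a n by rw [hm, IsIso.inv_hom_id_assoc]]
    infer_instance
  haveI hepi : ∀ n, Epi ((Hm n).map g) := fun n => by
    refine (DerivedCategory.HomologySequence.epi_homologyMap_mor₂_iff _ hTr n (n + 1) rfl).2 ?_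
    exact (@cancel_mono _ _ _ _ _ ((Hm (n + 1)).map m) (hmono (n + 1)) _ _).1
      ((DerivedCategory.HomologySequence.δ_comp _ hTr n (n + 1) rfl).trans zero_comp.symm)
  let π : ∀ n, (∐ fun _ : ULift.{u} ℕ => (Hm n).obj E) ⟶ (Hm n).obj Y := fun n => a n ≫ (Hm n).map g
  haveI : ∀ n, Epi (π n) := fun n => epi_comp _ _
  have hπ : ∀ n, (𝟙 _ - shiftEnd.{u} ((Hm n).map τ)) ≫ π n = 0 := fun n => by
    rw [reassoc_of% hm n, ← Functor.map_comp]
    exact (congrArg (a n ≫ ·) ((congrArg (Hm n).map (comp_distTriang_mor_zero₁₂ _ hTr)).trans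
      ((Hm n).map_zero _ _))).trans comp_zero
  have houtY : ∀ n p, p ∉ W → GermZero ((Hm n).obj Y) p := fun n p hp U hpU y => by
    obtain ⟨U₁, h₁, hp₁, z, hz⟩ := exists_local_preimage (π n) y hpU
    obtain ⟨U₂, h₂, s, c, -, hp₂, e⟩ := exists_local_sigma _ z hp₁
    obtain ⟨U₃, h₃, -, hp₃, hc⟩ := exists_common s hp₂ (fun k U₃ h₃ => sres ((Hm n).obj E) h₃ (c k) = 0)
      (fun k V V' h' h'' hk => by rw [← sres_sres h' h'', hk, sres_zero]) (fun k _ => hout n p hp U₂ hp₂ (c k))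
    refine ⟨U₃, (h₃.trans h₂).trans h₁, hp₃, ?_⟩
    rw [← sres_sres h₁ (h₃.trans h₂), ← hz, ← sHom_res, ← sres_sres h₂ h₃, e, sres_finsum]
    exact (congrArg _ (Finset.sum_eq_zero fun k hk => by rw [← sHom_res, hc k hk, map_zero])).trans (map_zero _)
  have hinY : ∀ n (U : (𝔛.X 0).Opens) (hUW : U ≤ W),
      Function.Bijective fun x : ModSite.sect ((Hm n).obj Y) U => rRes hUW t • x := by
    intro n U hUW
    let σ : (∐ fun _ : ULift.{u} ℕ => (Hm n).obj E) ⟶ ∐ fun _ : ULift.{u} ℕ => (Hm n).obj E := shiftEnd.{u} (𝟙 _)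
    let k : (Hm n).obj (∐ K) ⟶ (Hm n).obj Y := inv (a n) ≫ σ ≫ π n
    have hσ : σ ≫ shiftEnd.{u} ((Hm n).map τ) = shiftEnd.{u} ((Hm n).map τ) ≫ σ := Sigma.hom_ext _ _ fun j => by
      simp [σ, shiftEnd]
    have hk : (Hm n).map m ≫ k = 0 := by
      rw [show (Hm n).map m ≫ k = inv (a n) ≫ (a n ≫ (Hm n).map m) ≫ inv (a n) ≫ σ ≫ π n by simp [k], ← hm,
        Category.assoc, IsIso.hom_inv_id_assoc,
        show (𝟙 _ - shiftEnd.{u} ((Hm n).map τ)) ≫ σ ≫ π n = σ ≫ (𝟙 _ - shiftEnd.{u} ((Hm n).map τ)) ≫ π n by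
          simp only [Preadditive.sub_comp, Preadditive.comp_sub, Category.id_comp, reassoc_of% hσ],
        hπ, comp_zero, comp_zero]
    let S : ShortComplex (FSch.ModF 𝔛 h) := ShortComplex.mk ((Hm n).map m) ((Hm n).map g)
      (((Hm n).map_comp m g).symm.trans
        ((congrArg (Hm n).map (comp_distTriang_mor_zero₁₂ _ hTr)).trans ((Hm n).map_zero _ _)))
    have hS : S.Exact := DerivedCategory.HomologySequence.exact₂ _ hTr n
    haveI : Epi S.g := hepi n
    let σY := hS.desc k hk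
    have hσY : π n ≫ σY = σ ≫ π n := by
      rw [Category.assoc]
      refine (congrArg (a n ≫ ·) (hS.g_desc k hk)).trans ?_
      exact IsIso.hom_inv_id_assoc _ _
    have key : ∀ y : ModSite.sect ((Hm n).obj Y) U, rRes hUW t • sHom σY U y = y := fun y => by
      refine FMod7.sect_ext _ _ _ fun p hp => ?_
      obtain ⟨U₁, h₁, hp₁, z, hz⟩ := exists_local_preimage (π n) y hp
      obtain ⟨U₂, h₂, s, c, -, hp₂, e⟩ := exists_local_sigma _ z hp₁
      refine ⟨U₂, h₂.trans h₁, hp₂, ?_⟩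
      show sres _ (h₂.trans h₁) (rRes hUW t • sHom σY U y) = sres _ (h₂.trans h₁) y
      have hy : sres _ (h₂.trans h₁) y = sHom (π n) U₂ (sres _ h₂ z) := by rw [sHom_res, hz, sres_sres]
      rw [sres_smul, rRes_rRes, ← sHom_res, hy, ← sHom_comp, hσY, sHom_comp, ← map_smul, e]
      have h0 : ∀ w : ModSite.sect (∐ fun _ : ULift.{u} ℕ => (Hm n).obj E) U₂,
          sHom (π n) U₂ (sHom (shiftEnd.{u} ((Hm n).map τ)) U₂ w) = sHom (π n) U₂ w := fun w => by
        rw [← sHom_comp]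
        refine congrArg (fun φ => sHom φ U₂ w) ?_
        exact (sub_eq_zero.1 ((Preadditive.sub_comp _ _ _).symm.trans (hπ n))).symm.trans (Category.id_comp _)
      refine Eq.trans (congrArg _ ?_) (h0 _)
      rw [map_sum, map_sum, Finset.smul_sum]
      refine Finset.sum_congr rfl fun j _ => ?_
      rw [← sHom_comp, ← sHom_comp]
      simp only [σ, shiftEnd, Sigma.ι_desc, Category.id_comp, sHom_comp]
      rw [hin n U₂ ((h₂.trans h₁).trans hUW) (c j), map_smul]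
    refine ⟨fun x y hxy => ?_, fun y => ⟨sHom σY U y, key y⟩⟩
    rw [← key x, ← key y, ← map_smul, ← map_smul]
    exact congrArg _ hxy
  have hT0 : ∀ {T : DerivedCategory (FSch.ModF 𝔛 h)}, FTors.IsDTorsF 𝔛 h T → ∀ φ : T ⟶ Y, φ = 0 := fun hT φ =>
    eq_zero_of_bijective hN t ht houtY hinY hT φ
  have hTbij : ∀ {T : DerivedCategory (FSch.ModF 𝔛 h)}, FTors.IsDTorsF 𝔛 h T →
      Function.Bijective fun φ : T ⟶ ∐ K => φ ≫ m := fun {T} hT => by
    refine ⟨fun x y hxy => sub_eq_zero.1 ?_, fun y => ?_⟩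
    · have h0 : (x - y)⟦(1 : ℤ)⟧' ≫ (-m⟦(1 : ℤ)⟧') = 0 := by
        rw [Preadditive.comp_neg, ← Functor.map_comp, Preadditive.sub_comp, sub_eq_zero.2 hxy]
        simp
      obtain ⟨b, hb⟩ := Triangle.coyoneda_exact₃ _ (rot_of_distTriang _ hTr) ((x - y)⟦(1 : ℤ)⟧') h0
      have hT1 : FTors.IsDTorsF 𝔛 h (T⟦(1 : ℤ)⟧) := fun n =>
        isTorsF_of_mono (((DerivedCategory.homologyFunctor (FSch.ModF 𝔛 h) 0).shiftIso 1 n (1 + n) rfl).app T).hom
          (hT (1 + n))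
      exact (shiftFunctor _ (1 : ℤ)).map_injective ((hb.trans ((congrArg (· ≫ _) (hT0 hT1 b)).trans zero_comp)).trans
        (Functor.map_zero _ _ _).symm)
    · obtain ⟨x, hx⟩ := Triangle.coyoneda_exact₂ _ hTr y (hT0 hT _)
      exact ⟨x, hx.symm⟩
  exact hTbij hT

/-- Maps out of `RΓ' E` see a topologically nilpotent endomorphism of `E` as invertible in the telescope. -/
theorem uc_R (hN : 𝔛.IsLocNoethFormal) {W : (𝔛.X 0).Opens} (t : Sec 𝔛 h W)
    (ht : ∀ (U : (𝔛.X 0).Opens) (hUW : U ≤ W), IsAffineOpen U → rRes hUW t ∈ secIdeal 𝔛 h U)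
    {E : DerivedCategory (FSch.ModF 𝔛 h)} (τ : E ⟶ E) (hout : ∀ n p, p ∉ W → GermZero ((Hm n).obj E) p)
    (hin : ∀ n (V : (𝔛.X 0).Opens) (hV : V ≤ W) (z : ModSite.sect ((Hm n).obj E) V),
      sHom ((Hm n).map τ) V z = rRes hV t • z)
    (G : DerivedCategory (FSch.ModF 𝔛 h)) : UC (Preadditive.leftComp G ((R).map τ)) := by
  haveI : IsGrothendieckAbelian.{u} (FSch.ModF 𝔛 h) := KInj.isGrothendieckAbelian_sheafOfModules _
  let K := fun _ : ULift.{u} ℕ => E
  let m : ∐ K ⟶ ∐ K := 𝟙 _ - shiftEnd.{u} τ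
  have hTbij : ∀ {T : DerivedCategory (FSch.ModF 𝔛 h)}, FTors.IsDTorsF 𝔛 h T →
      Function.Bijective fun φ : T ⟶ ∐ K => φ ≫ m := fun hT =>
    comp_one_sub_shiftEnd_bijective hN t ht τ hout hin hT
  let RK := fun _ : ULift.{u} ℕ => (R).obj E
  let φc : ∐ RK ⟶ (R).obj (∐ K) := Sigma.desc fun k => (R).map (Sigma.ι K k)
  haveI : IsIso φc := isIso_R_coprod hN K
  have hRK : FTors.IsDTorsF 𝔛 h (∐ RK) := IsDTorsF_of_iso (asIso φc).symm (isDTorsF_R _)
  let u' : ∐ RK ⟶ ∐ K := φc ≫ (ε).app (∐ K)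
  let m' : ∐ RK ⟶ ∐ RK := 𝟙 _ - shiftEnd.{u} ((R).map τ)
  have e1 : ∀ k, Sigma.ι RK k ≫ m' = Sigma.ι RK k - (R).map τ ≫ Sigma.ι RK ⟨k.down + 1⟩ := fun k =>
    (Preadditive.comp_sub _ _ _).trans (congr_arg₂ (· - ·) (Category.comp_id (Sigma.ι RK k)) (Sigma.ι_desc _ _))
  have hu : m' ≫ u' = u' ≫ m := Sigma.hom_ext _ _ fun k => by
    have n1 : ∀ j, Sigma.ι RK j ≫ u' = (ε).app E ≫ Sigma.ι K j := fun j => by
      rw [Sigma.ι_desc_assoc]
      exact (ε).naturality (Sigma.ι K j)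
    have nτ : (R).map τ ≫ (ε).app E = (ε).app E ≫ τ := (ε).naturality τ
    have e2 : Sigma.ι K k ≫ m = Sigma.ι K k - τ ≫ Sigma.ι K ⟨k.down + 1⟩ :=
      (Preadditive.comp_sub _ _ _).trans (congr_arg₂ (· - ·) (Category.comp_id (Sigma.ι K k)) (Sigma.ι_desc _ _))
    rw [← Category.assoc, e1 k, Preadditive.sub_comp, Category.assoc, n1, n1, ← Category.assoc (Sigma.ι RK k), n1,
      Category.assoc, e2, Preadditive.comp_sub, ← Category.assoc ((R).map τ), nτ, Category.assoc]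
  have hu' : ∀ {T}, FTors.IsDTorsF 𝔛 h T → Function.Bijective fun φ : T ⟶ ∐ RK => φ ≫ u' := fun hT => by
    refine ⟨fun x y hxy => ?_, fun ψ => ?_⟩
    · refine (cancel_mono φc).1 ((comp_ε_bijective hN hT).1 ?_)
      simpa [u', Category.assoc] using hxy
    · obtain ⟨b, hb⟩ := (comp_ε_bijective hN hT).2 ψ
      exact ⟨b ≫ inv φc, by simpa [u', Category.assoc] using hb⟩
  have hm' : Function.Bijective fun φ : ∐ RK ⟶ ∐ RK => φ ≫ m' := by
    refine Function.Bijective.of_comp_iff' (hu' hRK) (fun φ : ∐ RK ⟶ ∐ RK => φ ≫ m') |>.1 ?_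
    rw [show ((fun φ => φ ≫ u') ∘ fun φ : ∐ RK ⟶ ∐ RK => φ ≫ m') = (fun φ => φ ≫ m) ∘ fun φ => φ ≫ u' from
      funext fun φ => by simp [hu]]
    exact (hTbij hRK).comp (hu' hRK)
  obtain ⟨s, hs⟩ := hm'.2 (𝟙 _)
  have hs' : m' ≫ s = 𝟙 _ := hm'.1 (by simp only [Category.assoc, hs, Category.comp_id, Category.id_comp])
  have hd : ∀ x : ℕ → ((R).obj E ⟶ G), m' ≫ Sigma.desc (fun k : ULift.{u} ℕ => x k.down) =
      Sigma.desc fun k : ULift.{u} ℕ => x k.down - (R).map τ ≫ x (k.down + 1) := fun x => Sigma.hom_ext _ _ fun k => by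
    rw [← Category.assoc, e1 k, Preadditive.sub_comp, Category.assoc, Sigma.ι_desc, Sigma.ι_desc, Sigma.ι_desc]
  refine ⟨fun x y hxy => funext fun n => ?_, fun y => ⟨fun n => Sigma.ι RK ⟨n⟩ ≫ s ≫
    Sigma.desc fun k : ULift.{u} ℕ => y k.down, funext fun n => ?_⟩⟩
  · have := congrArg (Sigma.ι RK ⟨n⟩ ≫ s ≫ ·) ((hd x).trans ((congrArg (fun z : ℕ → ((R).obj E ⟶ G) =>
      Sigma.desc fun k : ULift.{u} ℕ => z k.down) hxy).trans (hd y).symm))
    simpa [reassoc_of% hs] using this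
  · have e : (Sigma.desc fun k : ULift.{u} ℕ => Sigma.ι RK ⟨k.down⟩ ≫ s ≫
        Sigma.desc fun j : ULift.{u} ℕ => y j.down) = s ≫ Sigma.desc fun j : ULift.{u} ℕ => y j.down :=
      Sigma.hom_ext _ _ fun k => by simp
    have := congrArg (Sigma.ι RK ⟨n⟩ ≫ ·) (hd fun n => Sigma.ι RK ⟨n⟩ ≫ s ≫
      Sigma.desc fun k : ULift.{u} ℕ => y k.down)
    simp only [e, reassoc_of% hs', Sigma.ι_desc] at this
    exact this.symm

end GrothLib.Gam7
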