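import Groth.Agent.Lib.Gam7.Cone
import Groth.Agent.Lib.Gam7.Tel
import Groth.Agent.Lib.FMod7.Ideals
import Mathlib.RingTheory.Nilpotent.Basic

/-!
# Descending induction along cones of telescopic endomorphisms
-/

set_option autoImplicit false
set_option linter.style.haveILetI false
set_option linter.unusedSectionVars false
universe u

open CategoryTheory CategoryTheory.Limits AlgebraicGeometry TopologicalSpace Opposite Pretriangulated

attribute [local instance] HasDerivedCategory.standard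

noncomputable section

namespace GrothLib.Gam7

open GrothLib.FMod7 GrothLib.FCat7
open CochainComplex (mappingCone)

variable {𝔛 : FSch.Sys.{u}} {h : 𝔛.IsFormal} {W : (𝔛.X 0).Opens}

local notation "Hm" => DerivedCategory.homologyFunctor (FSch.ModF 𝔛 h)
local notation "D" => DerivedCategory (FSch.ModF 𝔛 h)
local notation "Q" => DerivedCategory.Q (C := FSch.ModF 𝔛 h)

/-- The difference between an endomorphism of a module and multiplication by a function, on sections. -/
def err {M : FSch.ModF 𝔛 h} (T : M ⟶ M) (t : Sec 𝔛 h W) {V : (𝔛.X 0).Opens} (hV : V ≤ W) :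
    Module.End (Sec 𝔛 h V) (ModSite.sect M V) :=
  sHom T V - rRes hV t • (1 : Module.End (Sec 𝔛 h V) (ModSite.sect M V))

theorem err_hom {M M' : FSch.ModF 𝔛 h} {T : M ⟶ M} {T' : M' ⟶ M'} (φ : M ⟶ M') (e : T ≫ φ = φ ≫ T')
    (t : Sec 𝔛 h W) {V : (𝔛.X 0).Opens} (hV : V ≤ W) (c : ℕ) (x : ModSite.sect M V) :
    sHom φ V ((err T t hV ^ c) x) = (err T' t hV ^ c) (sHom φ V x) := by
  induction c generalizing x with
  | zero => rfl
  | succ c ih =>
    rw [pow_succ, pow_succ, Module.End.mul_apply, Module.End.mul_apply, ih]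
    refine congrArg _ ?_
    show sHom φ V (sHom T V x - rRes hV t • x) = sHom T' V (sHom φ V x) - rRes hV t • sHom φ V x
    rw [map_sub, map_smul, ← sHom_comp, e, sHom_comp]

theorem err_res {M : FSch.ModF 𝔛 h} (T : M ⟶ M) (t : Sec 𝔛 h W) {V V' : (𝔛.X 0).Opens} (hV : V ≤ W)
    (hV' : V' ≤ V) (c : ℕ) (x : ModSite.sect M V) :
    (err T t (hV'.trans hV) ^ c) (sres M hV' x) = sres M hV' ((err T t hV ^ c) x) := by
  induction c generalizing x with
  | zero => rfl
  | succ c ih =>
    rw [pow_succ, pow_succ, Module.End.mul_apply, Module.End.mul_apply, ← ih]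
    refine congrArg _ ?_
    show sHom T V' (sres M hV' x) - rRes (hV'.trans hV) t • sres M hV' x = sres M hV' (sHom T V x - rRes hV t • x)
    rw [sres_sub, sres_smul, rRes_rRes, sHom_res]

theorem sHom_pow {M : FSch.ModF 𝔛 h} (T : CategoryTheory.End M) (V : (𝔛.X 0).Opens) (n : ℕ) :
    (sHom (T : M ⟶ M) V : Module.End (Sec 𝔛 h V) (ModSite.sect M V)) ^ n = sHom ((T ^ n : CategoryTheory.End M) : M ⟶ M) V := by
  induction n with
  | zero => rfl
  | succ n ih =>
    refine LinearMap.ext fun x => ?_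
    rw [pow_succ, Module.End.mul_apply, ih, pow_succ, CategoryTheory.End.mul_def]
    exact (sHom_comp (T : M ⟶ M) _ V x).symm

theorem mor₂_pow {C E : D} (g : E ⟶ C) (a : E ⟶ E) (c : C ⟶ C) (e : g ≫ c = a ≫ g) (n : ℕ) :
    g ≫ (CategoryTheory.End.of c ^ n : CategoryTheory.End C) = (CategoryTheory.End.of a ^ n : CategoryTheory.End E) ≫ g := by
  induction n with
  | zero => exact (Category.comp_id g).trans (Category.id_comp g).symm
  | succ n ih =>
    rw [pow_succ, pow_succ, CategoryTheory.End.mul_def, CategoryTheory.End.mul_def, ← Category.assoc, e,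
      Category.assoc, ih, ← Category.assoc]

theorem δ_naturality (T : Triangle (D)) (a : T.obj₁ ⟶ T.obj₁) (c : T.obj₃ ⟶ T.obj₃)
    (e : T.mor₃ ≫ a⟦(1 : ℤ)⟧' = c ≫ T.mor₃) (n₀ n₁ : ℤ) (hn : n₀ + 1 = n₁) :
    DerivedCategory.HomologySequence.δ T n₀ n₁ hn ≫ (Hm n₁).map a =
      (Hm n₀).map c ≫ DerivedCategory.HomologySequence.δ T n₀ n₁ hn :=
  ((Hm 0).shiftMap_comp T.mor₃ a n₀ n₁ (by omega)).symm.trans
    ((congrArg (fun φ => (Hm 0).shiftMap φ n₀ n₁ (by omega)) e).trans
      ((Hm 0).shiftMap_comp' c T.mor₃ n₀ n₁ (by omega)))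

variable [FTors.HasRgammaT 𝔛 h] {r : ℕ}

local notation "R" => FTors.RgammaT 𝔛 h
local notation "ε" => FTors.RgammaTε 𝔛 h

/-- Commuting endomorphisms acting as given functions up to nilpotents, the first `k` of them nilpotent. -/
structure Stage (s : Fin r → Sec 𝔛 h W) (k N c : ℕ) (K : CochainComplex (FSch.ModF 𝔛 h) ℤ)
    (τ : Fin r → (K ⟶ K)) : Prop where
  comm : ∀ i i', τ i ≫ τ i' = τ i' ≫ τ i
  uc : ∀ i, UCD ((Q).map (τ i))
  ucR : ∀ i, UCD ((R).map ((Q).map (τ i)))
  out : ∀ n p, p ∉ W → GermZero ((Hm n).obj ((Q).obj K)) p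
  acts : ∀ i n (V : (𝔛.X 0).Opens) (hV : V ≤ W), err ((Hm n).map ((Q).map (τ i))) (s i) hV ^ c = 0
  nil : ∀ i : Fin r, i.1 < k → CategoryTheory.End.of ((Q).map (τ i)) ^ N = 0

variable (hN : 𝔛.IsLocNoethFormal) {s : Fin r → Sec 𝔛 h W} {N c : ℕ} {K : CochainComplex (FSch.ModF 𝔛 h) ℤ}
  {τ : Fin r → (K ⟶ K)}
include hN

theorem Stage.isDTorsF (hW : IsAffineOpen W) (hs : Ideal.span (Set.range s) = secIdeal 𝔛 h W)
    (st : Stage s r N c K τ) : FTors.IsDTorsF 𝔛 h ((Q).obj K) := by
  intro n U z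
  refine isTorsSect_iff_local.2 fun p hp => ?_
  by_cases hpW : p ∈ W
  · obtain ⟨V, hV, hpV, hV'⟩ := exists_isAffineOpen_mem_and_subset (x := p) (U := U ⊓ W) ⟨hp, hpW⟩
    have hVW : V ≤ W := fun q hq => (hV' hq).2
    have hVU : V ≤ U := fun q hq => (hV' hq).1
    have hsV : secIdeal 𝔛 h V = Ideal.span (Set.range fun i => rRes hVW (s i)) := by
      rw [← FMod7.map_secIdeal hN hW hV hVW, ← hs, Ideal.map_span, ← Set.range_comp]
      rfl
    have hx : Nil (fun i => rRes hVW (s i)) r (sres _ hVU z) := fun i _ => by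
      let M := (Hm n).obj ((Q).obj K)
      let T : Module.End (Sec 𝔛 h V) (ModSite.sect M V) := sHom ((Hm n).map ((Q).map (τ i))) V
      have hT : IsNilpotent T := ⟨N, by
        have e : CategoryTheory.End.of ((Hm n).map ((Q).map (τ i))) ^ N = 0 := by
          refine ((map_pow (Functor.mapEnd ((Q).obj K) (Hm n)) (CategoryTheory.End.of ((Q).map (τ i))) N).symm).trans ?_
          rw [st.nil i i.2]
          exact (Hm n).map_zero _ _
        exact (sHom_pow (CategoryTheory.End.of ((Hm n).map ((Q).map (τ i)))) V N).trans ((congrArg (fun φ => sHom φ V) e).trans rfl)⟩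
      have hA : IsNilpotent (err ((Hm n).map ((Q).map (τ i))) (s i) hVW) := ⟨c, st.acts i n V hVW⟩
      have hcomm : Commute T (err ((Hm n).map ((Q).map (τ i))) (s i) hVW) :=
        (Commute.refl T).sub_right ((Commute.one_right T).smul_right _)
      obtain ⟨m, hm⟩ := Commute.isNilpotent_sub hcomm hT hA
      refine LocNil.of_eq_zero (N := m) ?_
      have e2 := LinearMap.congr_fun hm (sres _ hVU z)
      rw [err, sub_sub_cancel, smul_pow, one_pow] at e2
      exact e2
    obtain ⟨V', hV'', m, hp', hm⟩ := isTorsSect_iff_local.1 (Nil.isTorsSect hN hx hV hsV) p hpV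
    exact ⟨V', hV''.trans hVU, m, hp', by rw [← sres_sres hVU hV'']; exact hm⟩
  · obtain ⟨U', hU', hp', hz⟩ := st.out n p hpW U hp z
    obtain ⟨V, hV, hpV, hV'⟩ := exists_isAffineOpen_mem_and_subset (x := p) (U := U') hp'
    have hVU' : V ≤ U' := hV'
    refine ⟨V, hVU'.trans hU', 0, hpV, killed_of_forall_mem hN hV fun a _ => ?_⟩
    rw [← sres_sres hU' hVU', hz, sres_zero, smul_zero]

/-- Precomposition with the counit is bijective at every stage. -/
theorem Stage.bijective (hW : IsAffineOpen W) (hs : Ideal.span (Set.range s) = secIdeal 𝔛 h W) :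
    ∀ (m k N c : ℕ) (K : CochainComplex (FSch.ModF 𝔛 h) ℤ) (τ : Fin r → (K ⟶ K)), k + m = r → 1 ≤ N →
      Stage s k N c K τ → ∀ G : D, CohD G →
        Function.Bijective fun φ : (Q).obj K ⟶ G => (ε).app ((Q).obj K) ≫ φ := by
  intro m
  induction m with
  | zero =>
    intro k N c K τ hk _ st G _
    obtain rfl : k = r := by omega
    haveI := (isIso_ε_iff hN ((Q).obj K)).2 (st.isDTorsF hN hW hs)
    exact ⟨fun x y e => (cancel_epi _).1 e, fun y => ⟨inv ((ε).app ((Q).obj K)) ≫ y, IsIso.hom_inv_id_assoc _ _⟩⟩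
  | succ m ih =>
    intro k N c K τ hk hN1 st
    let j : Fin r := ⟨k, by omega⟩
    let C := mappingCone (τ j)
    let τ' : Fin r → (C ⟶ C) := fun i => CochainComplex.mappingCone.map (τ j) (τ j) (τ i) (τ i) (st.comm j i)
    let T : Triangle (D) := (Q).mapTriangle.obj (CochainComplex.mappingCone.triangle (τ j))
    have hT : T ∈ distTriang _ := DerivedCategory.mappingCone_triangle_distinguished (τ j)
    let Φ : ∀ i, T ⟶ T := fun i => (Q).mapTriangle.map
      (CochainComplex.mappingCone.triangleMap (τ j) (τ j) (τ i) (τ i) (st.comm j i))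
    let g : (Q).obj K ⟶ (Q).obj C := T.mor₂
    let d : (Q).obj C ⟶ ((Q).obj K)⟦(1 : ℤ)⟧ := T.mor₃
    have hT0 : Triangle.mk ((Q).map (τ j)) g d ∈ distTriang _ := hT
    have hg : ∀ i, g ≫ (Q).map (τ' i) = (Q).map (τ i) ≫ g := fun i => (Φ i).comm₂
    have hd : ∀ i, d ≫ ((Q).map (τ i))⟦(1 : ℤ)⟧' = (Q).map (τ' i) ≫ d := fun i => (Φ i).comm₃
    obtain ⟨d', hT', -, hd'⟩ := exists_R_triangle hN ((Q).map (τ j)) g d hT0
    have hji : ∀ i, (Q).map (τ j) ≫ (Q).map (τ i) = (Q).map (τ i) ≫ (Q).map (τ j) := fun i => by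
      rw [← Functor.map_comp, ← Functor.map_comp, st.comm j i]
    refine bijective_of_cone hN ((Q).map (τ j)) g d hT0 (st.uc j) (st.ucR j)
      (ih (k + 1) (N + N) (c + c) C τ' (by omega) (by omega) ⟨fun i i' => ?_, fun i => ?_, fun i => ?_, fun n p hp => ?_,
        fun i n V hV => ?_, fun i hi => ?_⟩)
    · have hcongr : ∀ (a b : K ⟶ K) (ha : τ j ≫ a = a ≫ τ j) (hb : τ j ≫ b = b ≫ τ j), a = b →
          CochainComplex.mappingCone.map (τ j) (τ j) a a ha = CochainComplex.mappingCone.map (τ j) (τ j) b b hb := by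
        rintro a b ha hb rfl
        rfl
      exact (CochainComplex.mappingCone.map_comp (τ j) (τ j) (τ j) (τ i) (τ i) (st.comm j i) (τ i') (τ i') (st.comm j i')).symm.trans
        ((hcongr _ _ _ (by rw [← Category.assoc, st.comm j i', Category.assoc, st.comm j i, Category.assoc]) (st.comm i i')).trans
          (CochainComplex.mappingCone.map_comp (τ j) (τ j) (τ j) (τ i') (τ i') (st.comm j i') (τ i) (τ i) (st.comm j i)))
    · exact UCD.of_triangle _ hT0 ((Q).map (τ i)) ((Q).map (τ i)) ((Q).map (τ' i)) (hji i) (hg i) (hd i) (st.uc i) (st.uc i)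
    · refine UCD.of_triangle _ hT' ((R).map ((Q).map (τ i))) ((R).map ((Q).map (τ i))) ((R).map ((Q).map (τ' i))) ?_ ?_
        (hd' _ _ (hd i)) (st.ucR i) (st.ucR i)
      · exact ((R).map_comp _ _).symm.trans ((congrArg (R).map (hji i)).trans ((R).map_comp _ _))
      · exact ((R).map_comp _ _).symm.trans ((congrArg (R).map (hg i)).trans ((R).map_comp _ _))
    · intro U hpU y
      let δ := DerivedCategory.HomologySequence.δ T n (n + 1) rfl
      obtain ⟨U₁, h₁, hp₁, e₁⟩ := st.out (n + 1) p hp U hpU (sHom δ U y)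
      obtain ⟨U₂, h₂, hp₂, x, hx⟩ := exists_local_preimage_of_exact _
        (DerivedCategory.HomologySequence.exact₃ T hT n (n + 1) rfl) (sres _ h₁ y)
        ((sHom_res δ h₁ y).trans e₁) hp₁
      obtain ⟨U₃, h₃, hp₃, e₃⟩ := st.out n p hp U₂ hp₂ x
      refine ⟨U₃, (h₃.trans h₂).trans h₁, hp₃, ?_⟩
      rw [← sres_sres h₁ (h₃.trans h₂), ← sres_sres h₂ h₃]
      exact (congrArg (sres _ h₃) hx).symm.trans ((sHom_res _ h₃ x).symm.trans
        ((congrArg _ e₃).trans (map_zero _)))
    · refine LinearMap.ext fun z => ?_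
      rw [LinearMap.zero_apply]
      refine FMod7.sect_ext _ _ _ fun p hp => ?_
      let δ := DerivedCategory.HomologySequence.δ T n (n + 1) rfl
      have nδ : (Hm n).map ((Q).map (τ' i)) ≫ δ = δ ≫ (Hm (n + 1)).map ((Q).map (τ i)) :=
        (δ_naturality T ((Q).map (τ i)) ((Q).map (τ' i)) (hd i) n (n + 1) rfl).symm
      have ng : (Hm n).map ((Q).map (τ i)) ≫ (Hm n).map g = (Hm n).map g ≫ (Hm n).map ((Q).map (τ' i)) := by
        rw [← Functor.map_comp, ← Functor.map_comp, hg i]
      have h0 : sHom δ V ((err ((Hm n).map ((Q).map (τ' i))) (s i) hV ^ c) z) = 0 := by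
        refine (err_hom δ nδ (s i) hV c z).trans ?_
        exact LinearMap.congr_fun (st.acts i (n + 1) V hV) (sHom δ V z)
      obtain ⟨V', hV', hp', x, hx⟩ := exists_local_preimage_of_exact _
        (DerivedCategory.HomologySequence.exact₃ T hT n (n + 1) rfl) _ h0 hp
      refine ⟨V', hV', hp', ?_⟩
      show sres _ hV' _ = sres _ hV' 0
      rw [sres_zero, pow_add, Module.End.mul_apply, ← err_res _ _ hV hV']
      change sHom ((Hm n).map g) V' x = _ at hx
      refine (congrArg _ hx.symm).trans ((err_hom ((Hm n).map g) ng (s i) (hV'.trans hV) c x).symm.trans ?_)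
      rw [st.acts i n V' (hV'.trans hV)]
      exact map_zero _
    · let a : CategoryTheory.End ((Q).obj K) := CategoryTheory.End.of ((Q).map (τ i))
      let b : CategoryTheory.End ((Q).obj C) := CategoryTheory.End.of ((Q).map (τ' i))
      have h1 : g ≫ (b ^ N : CategoryTheory.End _) = 0 := by
        rw [show g ≫ (b ^ N : CategoryTheory.End _) = (a ^ N : CategoryTheory.End _) ≫ g from mor₂_pow g _ _ (hg i) N]
        rcases Nat.lt_succ_iff_lt_or_eq.1 hi with hi | hi
        · rw [show a ^ N = 0 from st.nil i hi]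
          exact zero_comp
        · obtain ⟨N', rfl⟩ := Nat.exists_eq_add_of_le' hN1
          rw [pow_succ', CategoryTheory.End.mul_def, Category.assoc]
          have hij : i = j := Fin.ext hi
          subst hij
          exact (congrArg (_ ≫ ·) (comp_distTriang_mor_zero₁₂ _ hT0)).trans comp_zero
      have h2 : (b ^ N : CategoryTheory.End _) ≫ d = 0 := by
        have key : ∀ m, (b ^ m : CategoryTheory.End _) ≫ d = d ≫ ((a ^ m : CategoryTheory.End _) : (Q).obj K ⟶ (Q).obj K)⟦(1 : ℤ)⟧' := by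
          intro m
          induction m with
          | zero =>
            refine (Category.id_comp d).trans ((Category.comp_id d).symm.trans (congrArg (d ≫ ·) ?_))
            exact ((shiftFunctor _ (1 : ℤ)).map_id _).symm
          | succ m ihm =>
            rw [pow_succ', pow_succ', CategoryTheory.End.mul_def, CategoryTheory.End.mul_def, Category.assoc,
              ← hd i, ← Category.assoc, ihm, Category.assoc, ← Functor.map_comp]
        rw [key]
        rcases Nat.lt_succ_iff_lt_or_eq.1 hi with hi | hi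
        · rw [show a ^ N = 0 from st.nil i hi]
          exact (congrArg (d ≫ ·) ((shiftFunctor _ (1 : ℤ)).map_zero _ _)).trans comp_zero
        · obtain ⟨N', rfl⟩ := Nat.exists_eq_add_of_le' hN1
          rw [pow_succ, CategoryTheory.End.mul_def, Functor.map_comp, ← Category.assoc]
          have hij : i = j := Fin.ext hi
          subst hij
          exact (congrArg (· ≫ _) (comp_distTriang_mor_zero₃₁ _ hT0)).trans zero_comp
      obtain ⟨e, he⟩ : ∃ e : ((Q).obj K)⟦(1 : ℤ)⟧ ⟶ (Q).obj C, (b ^ N : CategoryTheory.End _) = d ≫ e :=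
        Triangle.yoneda_exact₃ _ hT0 _ h1
      show b ^ (N + N) = 0
      rw [pow_add, CategoryTheory.End.mul_def]
      nth_rewrite 2 [he]
      rw [← Category.assoc, h2, zero_comp]

end GrothLib.Gam7
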