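import Groth.Agent.Lib.FCat7.TorsClosed
import Groth.Agent.Lib.FCat7.Flat
import Groth.Agent.Lib.Gam7.Extend

/-!
# Sections locally killed by powers of functions, and their splitting in injective modules
-/

set_option autoImplicit false
set_option linter.style.haveILetI false
set_option linter.unusedSectionVars false
universe u

open CategoryTheory CategoryTheory.Limits AlgebraicGeometry TopologicalSpace Opposite

noncomputable section

namespace GrothLib.Gam7

open GrothLib.FMod7 GrothLib.FCat7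

variable {𝔛 : FSch.Sys.{u}} {h : 𝔛.IsFormal} {M : FSch.ModF 𝔛 h} {W : (𝔛.X 0).Opens}

theorem sres_smul {V W : (𝔛.X 0).Opens} (hVW : V ≤ W) (a : Sec 𝔛 h W) (x : ModSite.sect M W) :
    sres M hVW (a • x) = rRes hVW a • sres M hVW x :=
  M.val.map_smul (homOfLE hVW).op a x

theorem sres_sub {V W : (𝔛.X 0).Opens} (hVW : V ≤ W) (x y : ModSite.sect M W) :
    sres M hVW (x - y) = sres M hVW x - sres M hVW y :=
  map_sub (M.val.map (homOfLE hVW).op).hom x y

theorem sres_add {V W : (𝔛.X 0).Opens} (hVW : V ≤ W) (x y : ModSite.sect M W) :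
    sres M hVW (x + y) = sres M hVW x + sres M hVW y :=
  map_add (M.val.map (homOfLE hVW).op).hom x y

theorem rRes_rRes {U V W : (𝔛.X 0).Opens} (hVW : V ≤ W) (hUV : U ≤ V) (a : Sec 𝔛 h W) :
    rRes hUV (rRes hVW a) = rRes (hUV.trans hVW) a :=
  ores_ores hVW hUV a

/-- A section is locally killed by powers of a function. -/
def LocNil (t : Sec 𝔛 h W) (x : ModSite.sect M W) : Prop :=
  ∀ p ∈ W, ∃ (V : (𝔛.X 0).Opens) (hV : V ≤ W) (N : ℕ), p ∈ V ∧ rRes hV t ^ N • sres M hV x = 0

namespace LocNil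

variable {t : Sec 𝔛 h W} {x y : ModSite.sect M W}

theorem of_eq_zero {N : ℕ} (hx : t ^ N • x = 0) : LocNil t x := fun p hp =>
  ⟨W, le_rfl, N, hp, by rw [← map_pow, ← sres_smul, hx]; exact map_zero (M.val.map (homOfLE (le_refl W)).op).hom⟩

theorem res (hx : LocNil t x) {V : (𝔛.X 0).Opens} (hV : V ≤ W) : LocNil (rRes hV t) (sres M hV x) := fun p hp => by
  obtain ⟨V', hV', N, hpV', hN⟩ := hx p (hV hp)
  refine ⟨V ⊓ V', inf_le_left, N, ⟨hp, hpV'⟩, ?_⟩
  have e := congrArg (sres M (inf_le_right : V ⊓ V' ≤ V')) hN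
  rw [sres_smul, map_pow, rRes_rRes, sres_sres] at e
  rw [rRes_rRes, sres_sres]
  exact e.trans (map_zero (M.val.map (homOfLE (inf_le_right : V ⊓ V' ≤ V')).op).hom)

theorem smul (hx : LocNil t x) (a : Sec 𝔛 h W) : LocNil t (a • x) := fun p hp => by
  obtain ⟨V, hV, N, hpV, hN⟩ := hx p hp
  exact ⟨V, hV, N, hpV, by rw [sres_smul, smul_comm, hN, smul_zero]⟩

theorem add (hx : LocNil t x) (hy : LocNil t y) : LocNil t (x + y) := fun p hp => by
  obtain ⟨V, hV, N, hpV, hN⟩ := hx p hp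
  obtain ⟨V', hV', N', hpV', hN'⟩ := hy p hp
  refine ⟨V ⊓ V', inf_le_left.trans hV, N + N', ⟨hpV, hpV'⟩, ?_⟩
  have e := congrArg (sres M (inf_le_left : V ⊓ V' ≤ V)) hN
  have e' := congrArg (sres M (inf_le_right : V ⊓ V' ≤ V')) hN'
  rw [sres_smul, map_pow, rRes_rRes, sres_sres] at e e'
  rw [sres_add, smul_add, pow_add, mul_comm, mul_smul, e.trans (map_zero _), smul_zero, zero_add, mul_comm,
    mul_smul, e'.trans (map_zero _), smul_zero]

theorem sub (hx : LocNil t x) (hy : LocNil t y) : LocNil t (x - y) := by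
  rw [sub_eq_add_neg, ← neg_one_smul (Sec 𝔛 h W) y]
  exact hx.add (hy.smul _)

theorem of_pow_smul {n : ℕ} (hx : LocNil t (t ^ n • x)) : LocNil t x := fun p hp => by
  obtain ⟨V, hV, N, hpV, hN⟩ := hx p hp
  refine ⟨V, hV, N + n, hpV, ?_⟩
  rwa [sres_smul, map_pow, smul_smul, ← pow_add] at hN

theorem hom {M' : FSch.ModF 𝔛 h} (φ : M ⟶ M') (hx : LocNil t x) : LocNil t (sHom φ W x) := fun p hp => by
  obtain ⟨V, hV, N, hpV, hN⟩ := hx p hp
  exact ⟨V, hV, N, hpV, by rw [← sHom_res, ← map_smul, hN, map_zero]⟩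

theorem exists_pow (hW : IsCompact (W : Set (𝔛.X 0))) (hx : LocNil t x) : ∃ N, t ^ N • x = 0 := by
  classical
  choose V hV N hpV hN using fun p : W => hx p.1 p.2
  obtain ⟨s, hs⟩ := hW.elim_finite_subcover (fun p : W => (V p : Set (𝔛.X 0))) (fun p => (V p).2)
    fun p hp => Set.mem_iUnion.2 ⟨⟨p, hp⟩, hpV _⟩
  refine ⟨s.sup N, sect_ext M _ _ fun p hp => ?_⟩
  obtain ⟨q, hq, hpq⟩ := Set.mem_iUnion₂.1 (hs hp)
  refine ⟨V q, hV q, hpq, ?_⟩
  obtain ⟨l, hl⟩ := Nat.exists_eq_add_of_le (Finset.le_sup (f := N) hq)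
  rw [sres_smul, map_pow, hl, pow_add, mul_comm, mul_smul, hN q, smul_zero]
  exact (map_zero (M.val.map (homOfLE (hV q)).op).hom).symm

theorem of_isTorsSect (hN : 𝔛.IsLocNoethFormal) (hx : FTors.IsTorsSect (FTors.openIdealFam 𝔛 h) M x)
    (hW : IsAffineOpen W) (ht : t ∈ secIdeal 𝔛 h W) : LocNil t x := by
  obtain ⟨n, hn⟩ := exists_killed hN hx hW.isCompact
  exact of_eq_zero (hn.smul_mem_self hN hW (Ideal.pow_mem_pow ht (n + 1)))

end LocNil

/-- A section is locally killed by powers of each of the first `k` of a list of functions. -/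
def Nil {r : ℕ} (s : Fin r → Sec 𝔛 h W) (k : ℕ) (x : ModSite.sect M W) : Prop :=
  ∀ i : Fin r, i.1 < k → LocNil (s i) x

namespace Nil

variable {r : ℕ} {s : Fin r → Sec 𝔛 h W} {k : ℕ} {x y : ModSite.sect M W}

theorem res (hx : Nil s k x) {V : (𝔛.X 0).Opens} (hV : V ≤ W) :
    Nil (fun i => rRes hV (s i)) k (sres M hV x) := fun i hi => (hx i hi).res hV

theorem smul (hx : Nil s k x) (a : Sec 𝔛 h W) : Nil s k (a • x) := fun i hi => (hx i hi).smul a

theorem sub (hx : Nil s k x) (hy : Nil s k y) : Nil s k (x - y) := fun i hi => (hx i hi).sub (hy i hi)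

theorem hom {M' : FSch.ModF 𝔛 h} (φ : M ⟶ M') (hx : Nil s k x) : Nil s k (sHom φ W x) :=
  fun i hi => (hx i hi).hom φ

theorem zero_idx : Nil s 0 x := fun i hi => absurd hi (Nat.not_lt_zero _)

theorem mono {l : ℕ} (hl : l ≤ k) (hx : Nil s k x) : Nil s l x := fun i hi => hx i (hi.trans_le hl)

theorem succ {j : Fin r} (hx : Nil s j.1 x) (hj : LocNil (s j) x) : Nil s (j.1 + 1) x := fun i hi => by
  rcases Nat.lt_succ_iff_lt_or_eq.1 hi with h' | h'
  · exact hx i h'
  · exact Fin.ext h' ▸ hj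

theorem of_isTorsSect (hN : 𝔛.IsLocNoethFormal) (hx : FTors.IsTorsSect (FTors.openIdealFam 𝔛 h) M x)
    (hW : IsAffineOpen W) (hs : ∀ i, s i ∈ secIdeal 𝔛 h W) : Nil s k x :=
  fun i _ => LocNil.of_isTorsSect hN hx hW (hs i)

theorem isTorsSect (hN : 𝔛.IsLocNoethFormal) (hx : Nil s r x) (hW : IsAffineOpen W)
    (hs : secIdeal 𝔛 h W = Ideal.span (Set.range s)) : FTors.IsTorsSect (FTors.openIdealFam 𝔛 h) M x := by
  classical
  choose m hm using fun i => (hx i i.2).exists_pow hW.isCompact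
  haveI := isNoetherianRing_Sec (h := h) hN hW
  let b : Ideal (Sec 𝔛 h W) := Ideal.span (Set.range fun i => s i ^ m i)
  have hb : secIdeal 𝔛 h W ≤ b.radical := hs ▸ Ideal.span_le.2 (by
    rintro _ ⟨i, rfl⟩
    exact ⟨m i, Ideal.subset_span ⟨i, rfl⟩⟩)
  obtain ⟨n, hn⟩ := Ideal.exists_pow_le_of_le_radical_of_fg hb (IsNoetherian.noetherian _)
  refine FTors.IsTorsSect.of_killedBy (n := n) (killed_of_forall_mem hN hW fun a ha => ?_)
  have hab : a ∈ b := hn (Ideal.pow_le_pow_right (Nat.le_succ n) ha)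
  refine Submodule.span_induction ?_ (zero_smul _ _) ?_ ?_ hab
  · rintro _ ⟨i, rfl⟩
    exact hm i
  · intro p q _ _ h1 h2
    rw [add_smul, h1, h2, add_zero]
  · intro c p _ h1
    rw [smul_eq_mul, mul_smul, h1, smul_zero]

/-- In an injective module a section splits as a multiple of `t ^ n` plus a section killed by a power of `t`. -/
theorem exists_split (hN : 𝔛.IsLocNoethFormal) {J : FSch.ModF 𝔛 h} [Injective J] (hW : IsAffineOpen W)
    {x : ModSite.sect J W} (hx : Nil s k x) (t : Sec 𝔛 h W) (n : ℕ) :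
    ∃ y : ModSite.sect J W, Nil s k y ∧ LocNil t (x - t ^ n • y) := by
  classical
  haveI := isNoetherianRing_Sec (h := h) hN hW
  choose m hm using fun i : {i : Fin r // i.1 < k} => (hx i.1 i.2).exists_pow hW.isCompact
  let g : {i : Fin r // i.1 < k} → Sec 𝔛 h W := fun i => s i.1 ^ m i
  let b : Ideal (Sec 𝔛 h W) := Ideal.span (Set.range g)
  let C : ℕ →o Ideal (Sec 𝔛 h W) :=
    ⟨fun N => Submodule.comap (LinearMap.mulLeft (Sec 𝔛 h W) (t ^ N)) b, fun N N' hNN' a ha => by
      obtain ⟨l, rfl⟩ := Nat.exists_eq_add_of_le hNN'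
      show t ^ (N + l) * a ∈ b
      rw [pow_add, mul_comm (t ^ N), mul_assoc]
      exact b.mul_mem_left _ ha⟩
  obtain ⟨N, hNC⟩ := monotone_stabilizes_iff_noetherian.2 inferInstance C
  let ι := Option (ULift.{u} {i : Fin r // i.1 < k})
  let c : ι → Sec 𝔛 h W := fun i => i.elim (t ^ (N + n)) fun j => g j.down
  let v : ι → ModSite.sect J W := fun i => i.elim (t ^ N • x) fun _ => 0
  have hb : ∀ a ∈ b, a • x = 0 := fun a ha => by
    refine Submodule.span_induction ?_ (zero_smul _ _) ?_ ?_ ha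
    · rintro _ ⟨i, rfl⟩
      exact hm i
    · intro p q _ _ h1 h2
      rw [add_smul, h1, h2, add_zero]
    · intro e p _ h1
      rw [smul_eq_mul, mul_smul, h1, smul_zero]
  obtain ⟨y, hy⟩ := exists_of_injective J W c v fun V hV a ha => by
    refine sect_ext J _ _ fun p hp => ?_
    obtain ⟨V', hV', hpV', hV'V'⟩ := exists_isAffineOpen_mem_and_subset (x := p) (U := V) hp
    have hV'V : V' ≤ V := hV'V'
    refine ⟨V', hV'V, hpV', ?_⟩
    have key := relations_vec hN hW hV' (hV'V.trans hV) (α := ι) (β := PUnit.{u + 1}) (fun _ i => c i)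
      (fun i => rRes hV'V (a i)) fun _ => by
        refine Eq.trans ?_ ((congrArg (rRes hV'V) ha).trans (map_zero _))
        refine Eq.trans ?_ (map_sum _ _ _).symm
        refine Finset.sum_congr rfl fun i _ => ?_
        refine Eq.trans ?_ (map_mul _ _ _).symm
        exact congrArg (rRes hV'V (a i) * ·) (rRes_rRes hV hV'V (c i)).symm
    refine Eq.trans ?_ (map_zero (J.val.map (homOfLE hV'V).op).hom).symm
    refine (sres_sum hV'V a fun i => sres J hV (v i)).trans ?_
    show ∑ i, (rRes hV'V (a i)) • sres J hV'V (sres J hV (v i)) = 0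
    simp only [sres_sres]
    let Λ := Fintype.linearCombination (Sec 𝔛 h V') fun i => sres J (hV'V.trans hV) (v i)
    suffices H : (fun i => rRes hV'V (a i)) ∈ LinearMap.ker Λ by
      simpa [Λ, Fintype.linearCombination_apply] using H
    refine Submodule.span_le.2 ?_ key
    rintro _ ⟨e, he, rfl⟩
    have he' : e none • (t ^ N • x) = 0 := by
      have e0 := he PUnit.unit
      rw [Fintype.sum_option] at e0
      have h1 : e none ∈ C (N + n) := by
        show t ^ (N + n) * e none ∈ b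
        simp only [c, Option.elim_none, Option.elim_some] at e0
        rw [mul_comm, eq_neg_of_add_eq_zero_left e0]
        exact b.neg_mem (b.sum_mem fun j _ => b.mul_mem_left _ (Ideal.subset_span ⟨j.down, rfl⟩))
      rw [← hNC (N + n) (Nat.le_add_right N n)] at h1
      rw [smul_smul, mul_comm]
      exact hb _ h1
    show Λ (fun i => rRes (hV'V.trans hV) (e i)) = 0
    rw [Fintype.linearCombination_apply]
    refine (sres_sum (hV'V.trans hV) e v).symm.trans ?_
    rw [Fintype.sum_option]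
    simp only [v, Option.elim_none, Option.elim_some, smul_zero, Finset.sum_const_zero, add_zero, he']
    exact map_zero (J.val.map (homOfLE (hV'V.trans hV)).op).hom
  refine ⟨y, fun i hi => LocNil.of_eq_zero (hy (some ⟨⟨i, hi⟩⟩)), LocNil.of_eq_zero (N := N) ?_⟩
  have h0 : t ^ (N + n) • y = t ^ N • x := hy none
  rw [smul_sub, smul_smul, ← pow_add, h0, sub_self]

end Nil

end GrothLib.Gam7
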