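import Groth.Agent.Lib.Gam7.GenSec
import Groth.Agent.Lib.Gam7.UC
import Groth.Agent.Lib.PAlg7.Gen
import Groth.Agent.Lib.AdicLim.Finite

/-!
# Maps out of generators at affine opens into complexes with coherent cohomology
-/

set_option autoImplicit false
set_option linter.style.haveILetI false
set_option linter.unusedSectionVars false
universe u

open CategoryTheory CategoryTheory.Limits AlgebraicGeometry TopologicalSpace Opposite Pretriangulated DerivedCategory

attribute [local instance] HasDerivedCategory.standard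

noncomputable section

namespace GrothLib.Gam7

open GrothLib.FMod7 GrothLib.FCat7
open GrothLib.SiteDer (theta)
open GrothLib.PAlg7 (gen)

variable {𝔛 : FSch.Sys.{u}} {h : 𝔛.IsFormal} {W : (𝔛.X 0).Opens} {j : ℤ}

local notation "Hm" => DerivedCategory.homologyFunctor (FSch.ModF 𝔛 h)

/-- A module which is zero or coherent. -/
abbrev ZCoh (M : FSch.ModF 𝔛 h) : Prop := IsZero M ∨ FSch.IsCohF 𝔛 h M

theorem ZCoh.of_iso {M M' : FSch.ModF 𝔛 h} (e : M ≅ M') (hM : ZCoh M) : ZCoh M' :=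
  hM.imp (fun hz => hz.of_iso e.symm) fun hc =>
    ObjectProperty.prop_of_iso (fun N : FSch.ModF 𝔛 h => FSch.IsCohF 𝔛 h N) e hc

variable (hN : 𝔛.IsLocNoethFormal)
include hN

theorem gen_hom_zero (hW : IsAffineOpen W) {M : FSch.ModF 𝔛 h} (hM : ZCoh M) {k q : ℤ} (hqk : q < k)
    (ψ : gen (h := h) W k ⟶ (singleFunctor (FSch.ModF 𝔛 h) q).obj M) : ψ = 0 := by
  rcases hM with hM | hM
  · exact ((singleFunctor _ q).map_isZero hM).eq_of_tgt _ _
  obtain ⟨n, hn⟩ : ∃ n : ℕ, k - q = ((n + 1 : ℕ) : ℤ) := ⟨(k - q - 1).toNat, by omega⟩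
  exact SiteDer.eq_zero_of_subsingleton_HU _ _ k q (n + 1) hn (RpushD7.acyc_coh hN M hM W hW n) ψ

theorem gen_eq_zero_of_isGE (hW : IsAffineOpen W) (k a : ℤ) (Z : DerivedCategory (FSch.ModF 𝔛 h)) [Z.IsGE a]
    (hq : ∀ q, ZCoh ((Hm q).obj Z)) (hz : IsZero ((Hm k).obj Z)) (φ : gen (h := h) W k ⟶ Z) : φ = 0 :=
  SiteDer.eq_zero_of_isGE' _ k a Z (fun q _ hqk ψ => by
    rcases lt_or_eq_of_le hqk with hlt | rfl
    · exact gen_hom_zero hN hW (hq q) hlt ψ
    · exact ((singleFunctor _ q).map_isZero hz).eq_of_tgt _ _) φ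

omit hN in
/-- Maps out of a generator are sections of cohomology. -/
def ThetaBij (W : (𝔛.X 0).Opens) (j : ℤ) (E : DerivedCategory (FSch.ModF 𝔛 h)) : Prop :=
  Function.Bijective (fun φ : gen (h := h) W j ⟶ E => theta φ)

omit hN in
theorem thetaBij_of_comp {E E' : DerivedCategory (FSch.ModF 𝔛 h)} (a : E ⟶ E') (hH : IsIso ((Hm j).map a))
    (hb : Function.Bijective (fun φ : gen (h := h) W j ⟶ E => φ ≫ a)) (hE' : ThetaBij W j E') :
    ThetaBij W j E := by
  have hp : Function.Bijective (fun g : Pgen h W ⟶ (Hm j).obj E => g ≫ (Hm j).map a) :=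
    ⟨fun g g' e => (cancel_mono ((Hm j).map a)).1 e, fun g => ⟨g ≫ inv ((Hm j).map a), by simp⟩⟩
  refine (Function.Bijective.of_comp_iff' hp _).1 ?_
  rw [show ((fun g : Pgen h W ⟶ (Hm j).obj E => g ≫ (Hm j).map a) ∘ fun φ : gen (h := h) W j ⟶ E => theta φ) =
    (fun φ : gen (h := h) W j ⟶ E' => theta φ) ∘ fun φ => φ ≫ a from funext fun φ => (SiteDer.theta_comp φ a).symm]
  exact hE'.comp hb

omit hN in
theorem thetaBij_of_isGE_self (W : (𝔛.X 0).Opens) (j : ℤ) (E : DerivedCategory (FSch.ModF 𝔛 h)) [E.IsGE j] :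
    ThetaBij W j E := by
  let A := (TStructure.t.truncLT (j + 1)).obj E
  let B := (TStructure.t.truncGE (j + 1)).obj E
  let ι : A ⟶ E := (TStructure.t.truncLTι (j + 1)).app E
  have hB : B.IsGE (j + 1) := inferInstanceAs (TStructure.t.IsGE ((TStructure.t.truncGE (j + 1)).obj E) (j + 1))
  have hAle : A.IsLE j := inferInstanceAs (TStructure.t.IsLE ((TStructure.t.truncLT (j + 1)).obj E) j)
  have hAge : A.IsGE j := inferInstanceAs (TStructure.t.IsGE ((TStructure.t.truncLT (j + 1)).obj E) j)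
  have hHι : IsIso ((Hm j).map ι) := DerTrunc.isIso_homology_truncLTι E (j + 1) j (by omega)
  let S := gen (h := h) W j
  let A₀ := FSch.ModF 𝔛 h
  have hb : Function.Bijective (fun φ : S ⟶ A => φ ≫ ι) := by
    refine SiteDer.bijective_comp_of_cone (TStructure.t.triangleLTGE_distinguished (j + 1) E) S
      (fun φ => (TStructure.t (C := A₀)).zero_of_isLE_of_isGE φ j (j + 1) (by omega) inferInstance hB)
      (fun φ => ?_)
    refine (cancel_epi (SiteDer.singleShiftOne _ j).inv).1 (Eq.trans ?_ comp_zero.symm)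
    exact (TStructure.t (C := A₀)).zero_of_isLE_of_isGE _ (j - 1) (j + 1) (by omega) inferInstance hB
  obtain ⟨e⟩ := DerTrunc.nonempty_iso_single A j
  have hA : ThetaBij W j A := by
    refine thetaBij_of_comp e.hom inferInstance
      ⟨fun φ φ' h => (cancel_mono e.hom).1 h, fun φ => ⟨φ ≫ e.inv, by simp⟩⟩ ?_
    let i := (singleFunctorCompHomologyFunctorIso A₀ j)
    have hn : ∀ g : Pgen h W ⟶ (Hm j).obj A, theta ((singleFunctor A₀ j).map g) =
        g ≫ i.inv.app ((Hm j).obj A) := fun g => (i.inv.naturality g).symm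
    refine ⟨fun φ φ' h' => ?_, fun g => ⟨(singleFunctor A₀ j).map (g ≫ i.hom.app _), ?_⟩⟩
    · obtain ⟨g, rfl⟩ := (singleFunctor A₀ j).map_surjective φ
      obtain ⟨g', rfl⟩ := (singleFunctor A₀ j).map_surjective φ'
      exact congrArg _ ((cancel_mono (i.inv.app ((Hm j).obj A))).1 (((hn g).symm.trans h').trans (hn g')))
    · refine (hn (g ≫ i.hom.app _)).trans ?_
      exact (Category.assoc _ _ _).trans ((congrArg (g ≫ ·) (i.hom_inv_id_app _)).trans (Category.comp_id _))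
  refine ⟨fun φ φ' h' => ?_, fun g => ?_⟩
  · obtain ⟨ψ, rfl⟩ := hb.2 φ
    obtain ⟨ψ', rfl⟩ := hb.2 φ'
    refine congrArg (· ≫ ι) (hA.1 ?_)
    simpa [SiteDer.theta_comp, cancel_mono] using h'
  · obtain ⟨ψ, hψ⟩ := hA.2 (g ≫ inv ((Hm j).map ι))
    exact ⟨ψ ≫ ι, by simp only [SiteDer.theta_comp]; simp only at hψ; rw [hψ]; simp⟩

theorem thetaBij_of_isGE (hW : IsAffineOpen W) (j a : ℤ) (E : DerivedCategory (FSch.ModF 𝔛 h)) [E.IsGE a]
    (hE : ∀ q, ZCoh ((Hm q).obj E)) : ThetaBij W j E := by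
  let A₀ := FSch.ModF 𝔛 h
  by_cases hja : j ≤ a
  · have : E.IsGE j := (TStructure.t (C := A₀)).isGE_of_ge E j a hja
    exact thetaBij_of_isGE_self W j E
  let A := (TStructure.t.truncLT j).obj E
  let B := (TStructure.t.truncGE j).obj E
  have hBj : B.IsGE j := inferInstanceAs (TStructure.t.IsGE ((TStructure.t.truncGE j).obj E) j)
  have hAle : A.IsLE (j - 1) := inferInstanceAs (TStructure.t.IsLE ((TStructure.t.truncLT j).obj E) (j - 1))
  have hAge : A.IsGE a := inferInstanceAs (TStructure.t.IsGE ((TStructure.t.truncLT j).obj E) a)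
  have hA1 : (A⟦(1 : ℤ)⟧).IsGE (a - 1) := (TStructure.t (C := A₀)).isGE_shift A a 1 (a - 1) (by omega)
  have hz : ∀ q, j ≤ q → IsZero ((Hm q).obj A) := fun q hq =>
    DerivedCategory.isZero_of_isLE A (j - 1) q (by omega)
  have hqA : ∀ q, ZCoh ((Hm q).obj A) := fun q => by
    rcases lt_or_ge q j with h' | h'
    · have := DerTrunc.isIso_homology_truncLTι E j q h'
      exact (hE q).of_iso (asIso ((Hm q).map ((TStructure.t.truncLTι j).app E))).symm
    · exact Or.inl (hz q h')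
  let s : ∀ q, (Hm q).obj (A⟦(1 : ℤ)⟧) ≅ (Hm (q + 1)).obj A := fun q =>
    ((DerivedCategory.homologyFunctor A₀ 0).shiftIso 1 q (q + 1) (by omega)).app A
  have hq1 : ∀ q, ZCoh ((Hm q).obj (A⟦(1 : ℤ)⟧)) := fun q => (hqA _).of_iso (s q).symm
  refine thetaBij_of_comp ((TStructure.t.truncGEπ j).app E) (DerTrunc.isIso_homology_truncGEπ E j j le_rfl)
    ?_ (thetaBij_of_isGE_self W j B)
  refine SiteDer.bijective_comp_of_cone (rot_of_distTriang _ (TStructure.t.triangleLTGE_distinguished j E))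
    _ (fun φ => ?_) (fun φ => ?_)
  · exact gen_eq_zero_of_isGE hN hW j (a - 1) (A⟦(1 : ℤ)⟧) hq1 ((hz (j + 1) (by omega)).of_iso (s j)) φ
  · exact (cancel_epi (SiteDer.singleShiftOne _ j).inv).1 ((gen_eq_zero_of_isGE hN hW (j - 1) (a - 1) (A⟦(1 : ℤ)⟧)
      hq1 ((hz (j - 1 + 1) (by omega)).of_iso (s (j - 1))) _).trans comp_zero.symm)

theorem bijective_trunc' (hW : IsAffineOpen W) (G : DerivedCategory (FSch.ModF 𝔛 h))
    (hG : ∀ q, ZCoh ((Hm q).obj G)) (j : ℤ) (n : ℕ) (hn : (-j).toNat + 2 ≤ n) :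
    Function.Bijective (fun φ : gen (h := h) W j ⟶ G => φ ≫ (TStructure.t.truncGEπ (-(n : ℤ))).app G) := by
  haveI : IsGrothendieckAbelian.{u} (FSch.ModF 𝔛 h) := KInj.isGrothendieckAbelian_sheafOfModules _
  have := HoCat.derivedCategory_hasLimitsOfShape (A := FSch.ModF 𝔛 h) ℕ
  have hbas : ∀ (U : Opens (𝔛.X 0)) (y : 𝔛.X 0), y ∈ U → ∃ V ∈ {W : Opens (𝔛.X 0) | IsAffineOpen W}, y ∈ V ∧ V ≤ U :=
    fun U y hy => by
      obtain ⟨W, hW, hyW, hWU⟩ := exists_isAffineOpen_mem_and_subset (x := y) (U := U) hy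
      exact ⟨W, hW, hyW, hWU⟩
  have good : ∀ (V : Opens (𝔛.X 0)), IsAffineOpen V → ∀ j : ℤ,
      SiteDer.GoodAt (K := fun n : ℕ => (TStructure.t.truncGE (-(n : ℤ))).obj G)
        (fun n => (TStructure.t.natTransTruncGEOfLE (-((n + 1 : ℕ) : ℤ)) (-(n : ℤ))
          (by omega)).app G) (SiteDer.freeMod (𝔛.Osh h)) j ((-j).toNat + 2) V := by
    intro V hV j'
    refine SiteDer.goodAt_of_homology j' _ _ fun m hm => ?_
    obtain ⟨Z, a, c, hZT, hZ, hz, ⟨e⟩⟩ := SiteDer.exists_cone_truncMap G m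
    refine ⟨Z, a, c, _, hZT, hZ, fun k q hk hqk ψ => ?_⟩
    by_cases hq : q = -(m : ℤ) - 2
    · subst hq
      have hk' : j' - 1 ≤ k := by rcases hk with rfl | rfl <;> omega
      exact gen_hom_zero hN hV ((hG _).of_iso e.symm) (by omega) ψ
    · exact ((singleFunctor _ q).map_isZero (hz q hq)).eq_of_tgt _ _
  have hE := SiteDer.isRlimVia_trunc (SiteDer.isLocGen_freeMod (ModSite.ringSh (𝔛.Osh h))) G
    {W : Opens (𝔛.X 0) | IsAffineOpen W}
    (fun U => by
      obtain ⟨κ, Y, g, -, hcov, hY⟩ := RpushD7.exists_refine hbas U ⊤ (GrothendieckTopology.top_mem _ U)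
      exact ⟨κ, Y, g, hcov, hY⟩)
    fun V _ j' => ⟨_, fun T hT => by
      obtain ⟨κ, Y, g, hT', hcov, hY⟩ := RpushD7.exists_refine hbas V T hT
      exact ⟨κ, Y, g, hT', hcov, fun l => good (Y l) (hY l) j'⟩⟩
  exact (good W hW j).bijective hE n hn

/-- Maps out of a generator at an affine open are sections of cohomology. -/
theorem theta_bijective (hW : IsAffineOpen W) {G : DerivedCategory (FSch.ModF 𝔛 h)}
    (hG : ∀ q, ZCoh ((Hm q).obj G)) (j : ℤ) : ThetaBij W j G := by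
  let n := (-j).toNat + 2
  let a : ℤ := -(n : ℤ)
  let Z := (TStructure.t.truncGE a).obj G
  haveI hZ : Z.IsGE a := inferInstanceAs (TStructure.t.IsGE ((TStructure.t.truncGE a).obj G) a)
  refine thetaBij_of_comp ((TStructure.t.truncGEπ a).app G) (DerTrunc.isIso_homology_truncGEπ G a j (by omega))
    (bijective_trunc' hN hW G hG j n le_rfl) (thetaBij_of_isGE hN hW j a Z fun q => ?_)
  rcases lt_or_ge q a with hq | hq
  · exact Or.inl (DerivedCategory.isZero_of_isGE _ a q hq)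
  · exact (hG q).of_iso (@asIso _ _ _ _ _ (DerTrunc.isIso_homology_truncGEπ G a q hq))

/-- Sections of a coherent module over an affine open are complete. -/
theorem isAdicComplete_sect (hW : IsAffineOpen W) (M : FSch.ModF 𝔛 h) (hM : FSch.IsCohF 𝔛 h M) :
    IsAdicComplete (secIdeal 𝔛 h W) (ModSite.sect M W) := by
  haveI := hM
  haveI := isAdicComplete_Sec (h := h) hN hW
  haveI := moduleFinite_sect (F := M) hN hW
  haveI := FMod7.isNoetherianRing_Sec (h := h) hN hW
  exact AdicLim.isAdicComplete_of_finite (A := Sec 𝔛 h W) _ _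

/-- The telescope of a function of the ideal on maps out of a generator into coherent complexes. -/
theorem uc_gen (hW : IsAffineOpen W) {t : Sec 𝔛 h W} (ht : t ∈ secIdeal 𝔛 h W) {G : DerivedCategory (FSch.ModF 𝔛 h)}
    (hG : ∀ q, FSch.IsCohF 𝔛 h ((Hm q).obj G)) (j : ℤ) :
    UC (Preadditive.leftComp G ((singleFunctor (FSch.ModF 𝔛 h) j).map ((pRep h W).mulEnd t))) := by
  haveI := isAdicComplete_sect hN hW _ (hG j)
  let e : (gen (h := h) W j ⟶ G) ≃+ ModSite.sect ((Hm j).obj G) W :=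
    { toEquiv := (Equiv.ofBijective _ (theta_bijective hN hW (fun q => Or.inr (hG q)) j)).trans
        ((pRep h W).eqv ((Hm j).obj G))
      map_add' := fun φ ψ => by
        show (pRep h W).eqv _ (theta (φ + ψ)) = (pRep h W).eqv _ (theta φ) + (pRep h W).eqv _ (theta ψ)
        rw [← DerComp.SecRep.eqv_add]
        simp [theta] }
  refine (UC.of_isAdicComplete (secIdeal 𝔛 h W) (M := ModSite.sect ((Hm j).obj G) W) ht).of_equiv e.symm fun x => ?_
  apply e.injective
  rw [e.apply_symm_apply]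
  show t • x = (pRep h W).eqv _ (theta ((singleFunctor (FSch.ModF 𝔛 h) j).map ((pRep h W).mulEnd t) ≫ e.symm x))
  rw [SiteDer.theta_map_comp, (pRep h W).eqv_mulEnd_comp]
  exact congrArg (t • ·) (e.apply_symm_apply x).symm

end GrothLib.Gam7
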