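import Groth.Agent.Lib.Gam7.SumDerived
import Groth.Agent.Lib.SiteDer.RlimMap
import Groth.Agent.Lib.DerComp.Generate

/-!
# The right adjoint of the derived torsion functor
-/

set_option autoImplicit false
set_option linter.style.haveILetI false
set_option linter.unusedSectionVars false
universe u

open CategoryTheory CategoryTheory.Limits AlgebraicGeometry TopologicalSpace Opposite Pretriangulated

attribute [local instance] HasDerivedCategory.standard
attribute [local instance] Classical.decEq

noncomputable section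

namespace GrothLib.Gam7

variable {𝔛 : FSch.Sys.{u}} {h : 𝔛.IsFormal} [FTors.HasRgammaT 𝔛 h]

/-- `RΓ'` on all of the derived category is a left adjoint. -/
theorem isLeftAdjoint_R (hN : 𝔛.IsLocNoethFormal) : (FTors.RgammaT 𝔛 h).IsLeftAdjoint := by
  haveI : IsGrothendieckAbelian.{u} (FSch.ModF 𝔛 h) := KInj.isGrothendieckAbelian_sheafOfModules _
  haveI : ∀ X Y : DerivedCategory (FSch.ModF 𝔛 h), Small.{u} (X ⟶ Y) := DerComp.small_hom
  let iso := KInj.totalRightDerivedIso (FTors.gammaKh (FTors.openIdealFam 𝔛 h))
  let R' := KInj.res (FSch.ModF 𝔛 h) ⋙ FTors.gammaKh (FTors.openIdealFam 𝔛 h)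
  haveI : R'.IsTriangulated := SiteDer.isTriangulated_res_map (FTors.gammaT 𝔛 h)
  haveI : ∀ (κ : Type u), PreservesColimitsOfShape (Discrete κ) R' := fun κ =>
    ⟨fun {K} => by
      let E : κ → DerivedCategory (FSch.ModF 𝔛 h) := fun a => K.obj ⟨a⟩
      haveI := HoCat.derivedCategory_hasColimitsOfShape (C := FSch.ModF 𝔛 h) (J := κ)
      haveI : IsIso (sigmaComparison (FTors.RgammaT 𝔛 h) E) := isIso_R_coprod hN E
      haveI : PreservesColimit (Discrete.functor E) (FTors.RgammaT 𝔛 h) :=
        PreservesCoproduct.of_iso_comparison _ E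
      haveI : PreservesColimit K (FTors.RgammaT 𝔛 h) :=
        preservesColimit_of_iso_diagram _ (Discrete.natIso fun a => Iso.refl _ : Discrete.functor E ≅ K)
      exact preservesColimit_of_natIso K iso⟩
  haveI : R'.IsLeftAdjoint := RpushD7.isLeftAdjoint_derived_standard R'
  exact Functor.isLeftAdjoint_of_iso iso.symm

end GrothLib.Gam7
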