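import Groth.Agent.Lib.Gam7.Koszul
import Groth.Agent.Lib.Gam7.SecTheta
import Groth.Agent.Lib.Gam7.SumAdj

/-!
# Complexes with coherent cohomology do not see the difference between a complex and its derived torsion part
-/

set_option autoImplicit false
set_option linter.style.haveILetI false
set_option linter.unusedSectionVars false
universe u

open CategoryTheory CategoryTheory.Limits AlgebraicGeometry TopologicalSpace Opposite Pretriangulated

attribute [local instance] HasDerivedCategory.standard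

noncomputable section

namespace GrothLib.Gam7

open GrothLib.FMod7 GrothLib.FCat7
open GrothLib.PAlg7 (gen)

variable {𝔛 : FSch.Sys.{u}} {h : 𝔛.IsFormal}

local notation "Hm" => DerivedCategory.homologyFunctor (FSch.ModF 𝔛 h)

theorem sect_eq_zero_of_isZero {M : FSch.ModF 𝔛 h} (hM : IsZero M) {U : (𝔛.X 0).Opens} (z : ModSite.sect M U) :
    z = 0 :=
  congrArg (fun φ : M ⟶ M => sHom φ U z) (hM.eq_of_src (𝟙 M) 0)

theorem GermZero.of_iso {M M' : FSch.ModF 𝔛 h} (e : M ≅ M') {p : 𝔛.X 0} (hM : GermZero M p) : GermZero M' p :=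
  fun U hpU x => by
    obtain ⟨U', h', hp', hx⟩ := hM U hpU (sHom e.inv U x)
    refine ⟨U', h', hp', ?_⟩
    have hl : sHom e.hom U (sHom e.inv U x) = x :=
      (sHom_comp _ _ U x).symm.trans (congrArg (fun φ => sHom φ U x) e.inv_hom_id)
    rw [← hl, ← sHom_res, hx, map_zero]

theorem isZero_homology_single {M : FSch.ModF 𝔛 h} {j n : ℤ} (hn : n ≠ j) :
    IsZero ((Hm n).obj ((DerivedCategory.singleFunctor (FSch.ModF 𝔛 h) j).obj M)) :=
  (HomologicalComplex.isZero_single_obj_homology (ComplexShape.up ℤ) j M n hn).of_iso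
    ((DerivedCategory.homologyFunctorFactors (FSch.ModF 𝔛 h) n).app
      ((HomologicalComplex.single (FSch.ModF 𝔛 h) (ComplexShape.up ℤ) j).obj M))

variable [FTors.HasRgammaT 𝔛 h]

local notation "R" => FTors.RgammaT 𝔛 h
local notation "ε" => FTors.RgammaTε 𝔛 h

variable (hN : 𝔛.IsLocNoethFormal)
include hN

theorem bijective_gen {W : (𝔛.X 0).Opens} (hW : IsAffineOpen W) (j : ℤ) (G : DerivedCategory (FSch.ModF 𝔛 h))
    (hG : CohD G) : Function.Bijective fun φ : gen (h := h) W j ⟶ G => (ε).app (gen (h := h) W j) ≫ φ := by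
  obtain ⟨r, s, hs⟩ := exists_gens (h := h) hN hW
  have hmem : ∀ i, s i ∈ secIdeal 𝔛 h W := fun i => hs ▸ Ideal.subset_span ⟨i, rfl⟩
  let S := HomologicalComplex.single (FSch.ModF 𝔛 h) (ComplexShape.up ℤ) j
  let i₀ := DerivedCategory.singleFunctorCompHomologyFunctorIso (FSch.ModF 𝔛 h) j
  let a := fun i => (pRep h W).mulEnd (s i)
  have hout : ∀ n p, p ∉ W → GermZero ((Hm n).obj (gen (h := h) W j)) p := fun n p hp => by
    by_cases hn : n = j
    · subst hn
      exact (germZero_Pgen hp).of_iso (i₀.symm.app (Pgen h W))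
    · exact fun U hU x => ⟨U, le_rfl, hU, by rw [sect_eq_zero_of_isZero (isZero_homology_single hn) x, sres_zero]⟩
  have hin : ∀ i n (V : (𝔛.X 0).Opens) (hV : V ≤ W) (z : ModSite.sect ((Hm n).obj (gen (h := h) W j)) V),
      sHom ((Hm n).map ((DerivedCategory.singleFunctor (FSch.ModF 𝔛 h) j).map (a i))) V z = rRes hV (s i) • z := by
    intro i n V hV z
    by_cases hn : n = j
    · subst hn
      refine sHom_injective (i₀.hom.app (Pgen h W)) V ?_
      rw [← sHom_comp, map_smul]
      refine (congrArg (fun φ => sHom φ V z) (i₀.hom.naturality (a i))).trans ((sHom_comp _ _ V z).trans ?_)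
      exact sHom_mulEnd (s i) hV _
    · rw [sect_eq_zero_of_isZero (isZero_homology_single hn) z, map_zero, smul_zero]
  refine Stage.bijective hN hW hs r 0 1 1 (S.obj (Pgen h W)) (fun i => S.map (a i)) (zero_add r) le_rfl
    ⟨fun i i' => ?_, fun i G' hG' => uc_gen hN hW (hmem i) hG' j, fun i G' _ => ?_, hout, fun i n V hV => ?_,
      fun i hi => absurd hi (Nat.not_lt_zero _)⟩ G hG
  · rw [← S.map_comp, ← S.map_comp]
    refine congrArg _ ((pRep h W).hom_ext ?_)
    simp only [a]
    rw [(pRep h W).eqv_mulEnd_comp, (pRep h W).eqv_mulEnd_comp]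
    simp only [DerComp.SecRep.mulEnd, Equiv.apply_symm_apply]
    exact smul_comm (M := Sec 𝔛 h W) (N := Sec 𝔛 h W) (α := ModSite.sect (Pgen h W) W) _ _ _
  · exact uc_R hN (s i) (fun U hUW hU => FMod7.map_secIdeal hN hW hU hUW ▸ Ideal.mem_map_of_mem _ (hmem i))
      ((DerivedCategory.singleFunctor (FSch.ModF 𝔛 h) j).map (a i)) hout (hin i) G'
  · rw [pow_one]
    exact LinearMap.ext fun z => sub_eq_zero.2 (hin i n V hV z)

/-- Precomposition with the counit is bijective on maps into complexes with coherent cohomology. -/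
theorem comp_ε_precomp_bijective (E F : DerivedCategory (FSch.ModF 𝔛 h)) (hF : CohD F) :
    Function.Bijective fun φ : E ⟶ F => (ε).app E ≫ φ := by
  haveI := isLeftAdjoint_R (h := h) hN
  let adj := Adjunction.ofIsLeftAdjoint (R)
  let a : F ⟶ (R).rightAdjoint.obj F := adj.homEquiv F F ((ε).app F)
  have key : ∀ {E' : DerivedCategory (FSch.ModF 𝔛 h)} (φ : E' ⟶ F), adj.homEquiv E' F ((ε).app E' ≫ φ) = φ ≫ a :=
    fun {E'} φ => by
      rw [show (ε).app E' ≫ φ = (R).map φ ≫ (ε).app F from ((ε).naturality φ).symm, adj.homEquiv_naturality_left]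
  haveI : IsIso a := (DerivedCategory.isIso_iff (C := FSch.ModF 𝔛 h) a).2 fun n => by
    refine RpushD7.isIso_homology_of_gen (SiteDer.isLocGen_freeMod (ModSite.ringSh (𝔛.Osh h))) a n
      {W : Opens (𝔛.X 0) | IsAffineOpen W} (fun U => ?_) fun V hV => ?_
    · obtain ⟨κ, Y, g, -, hcov, hY⟩ := RpushD7.exists_refine (B := {W : Opens (𝔛.X 0) | IsAffineOpen W})
        (fun U y hy => by
          obtain ⟨W, hW, hyW, hWU⟩ := exists_isAffineOpen_mem_and_subset (x := y) (U := U) hy
          exact ⟨W, hW, hyW, hWU⟩) U ⊤ (GrothendieckTopology.top_mem _ U)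
      exact ⟨κ, Y, g, hcov, hY⟩
    · exact (congrArg Function.Bijective (funext fun φ : gen (h := h) V n ⟶ F => key φ)).mp
        ((adj.homEquiv _ F).bijective.comp (bijective_gen hN hV n F hF))
  refine ⟨fun x y e => (cancel_mono a).1 ?_, fun y => ⟨adj.homEquiv E F y ≫ inv a, (adj.homEquiv E F).injective ?_⟩⟩
  · rw [← key, ← key]
    exact congrArg _ e
  · rw [key, Category.assoc, IsIso.inv_hom_id, Category.comp_id]

end GrothLib.Gam7
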