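import Groth.Agent.Lib.Gam7.SumAdj

/-!
# Functors factoring through the derived torsion functor
-/

set_option autoImplicit false
set_option linter.style.haveILetI false
set_option linter.unusedSectionVars false
universe u v' u'

open CategoryTheory CategoryTheory.Limits AlgebraicGeometry TopologicalSpace Opposite

attribute [local instance] HasDerivedCategory.standard

noncomputable section

namespace GrothLib.Gam7

variable {𝔛 : FSch.Sys.{u}} {h : 𝔛.IsFormal} [FTors.HasRgammaT 𝔛 h]

local notation "R" => FTors.RgammaT 𝔛 h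
local notation "ε" => FTors.RgammaTε 𝔛 h

theorem isDQCT_of_iso {E E' : DerivedCategory (FSch.ModF 𝔛 h)} (e : E ≅ E') (hE : FTors.IsDQCT 𝔛 h E) :
    FTors.IsDQCT 𝔛 h E' := fun n =>
  ⟨FCat7.isTorsF_of_mono ((DerivedCategory.homologyFunctor _ n).mapIso e).inv (hE n).1,
    (SheafOfModules.isQuasicoherent.{u} (ModSite.ringSh (𝔛.Osh h))).prop_of_iso
      ((DerivedCategory.homologyFunctor _ n).mapIso e) (hE n).2⟩

/-- A left adjoint on complexes with quasi-coherent torsion cohomology gives one on `D̃_qc` after `RΓ'`. -/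
theorem isLeftAdjoint_tilde_comp (hN : 𝔛.IsLocNoethFormal) {D' : Type u'} [Category.{v'} D']
    (F : DerivedCategory (FSch.ModF 𝔛 h) ⥤ D') [((FTors.IsDQCT 𝔛 h).ι ⋙ F).IsLeftAdjoint] :
    (ObjectProperty.ι (FTors.IsDQCTilde 𝔛 h) ⋙ R ⋙ F).IsLeftAdjoint := by
  haveI := isLeftAdjoint_R (h := h) hN
  let adjR := Adjunction.ofIsLeftAdjoint R
  let Λ := (R).rightAdjoint
  let Φ : (FTors.IsDQCTilde 𝔛 h).FullSubcategory ⥤ (FTors.IsDQCT 𝔛 h).FullSubcategory :=
    (FTors.IsDQCT 𝔛 h).lift (ObjectProperty.ι (FTors.IsDQCTilde 𝔛 h) ⋙ R) fun X => X.property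
  have key : ∀ W : DerivedCategory (FSch.ModF 𝔛 h), FTors.IsDTorsF 𝔛 h W →
      IsIso ((R).map ((ε).app (Λ.obj W)) ≫ adjR.counit.app W) := fun W hW => by
    haveI := (isIso_ε_iff hN W).2 hW
    let T := (R).obj (Λ.obj W)
    have hT : FTors.IsDTorsF 𝔛 h T := isDTorsF_R _
    haveI := isIso_map_ε hN (Λ.obj W)
    suffices IsIso (adjR.counit.app W) by infer_instance
    haveI : ∀ Z : DerivedCategory (FSch.ModF 𝔛 h), FTors.IsDTorsF 𝔛 h Z → IsIso ((ε).app Z) :=
      fun Z hZ => (isIso_ε_iff hN Z).2 hZ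
    have hb : ∀ Z, FTors.IsDTorsF 𝔛 h Z → Function.Bijective (fun g : Z ⟶ T => g ≫ adjR.counit.app W) :=
      fun Z hZ => by
        haveI := (isIso_ε_iff hN Z).2 hZ
        have h1 := comp_ε_bijective hN (F := Λ.obj W) hZ
        have h2 : Function.Bijective (fun f : Z ⟶ Λ.obj W => inv ((ε).app Z) ≫ (adjR.homEquiv Z W).symm f) :=
          (Iso.homFromEquiv (asIso ((ε).app Z))).bijective.comp (adjR.homEquiv Z W).symm.bijective
        refine (congrArg Function.Bijective (funext fun g => ?_)).mp (h2.comp h1)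
        simp only [Function.comp_apply, Adjunction.homEquiv_counit]
        rw [Functor.map_comp, IsIso.inv_comp_eq]
        refine Eq.trans ?_ (Category.assoc _ _ _)
        refine congrArg (· ≫ adjR.counit.app W) ?_
        haveI := (isIso_ε_iff hN T).2 hT
        have hεε : (R).map ((ε).app (Λ.obj W)) = (ε).app T := by
          refine (comp_ε_bijective hN (F := Λ.obj W) (isDTorsF_R T)).1 ?_
          exact (ε).naturality ((ε).app (Λ.obj W))
        rw [hεε]
        exact (ε).naturality g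
    obtain ⟨g, hg⟩ := (hb W hW).2 (𝟙 W)
    exact ⟨g, (hb T hT).1 ((Category.assoc _ _ _).trans
      ((congrArg (adjR.counit.app W ≫ ·) hg).trans ((Category.comp_id _).trans (Category.id_comp _).symm))), hg⟩
  have hΛ : ∀ W : (FTors.IsDQCT 𝔛 h).FullSubcategory, FTors.IsDQCTilde 𝔛 h (Λ.obj W.obj) := fun W => by
    haveI := key W.obj fun n => (W.property n).1
    haveI := isIso_map_ε hN (Λ.obj W.obj)
    haveI : IsIso (adjR.counit.app W.obj) := IsIso.of_isIso_comp_left ((R).map ((ε).app (Λ.obj W.obj))) _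
    exact isDQCT_of_iso (asIso (adjR.counit.app W.obj)).symm W.property
  haveI : Φ.IsLeftAdjoint := by
    refine Functor.isLeftAdjoint_of_rightAdjointObjIsDefined_eq_top (funext fun W => ?_)
    simp only [Pi.top_apply, Prop.top_eq_true, eq_iff_iff, iff_true]
    rw [Functor.rightAdjointObjIsDefined_iff]
    let E : ∀ X : (FTors.IsDQCTilde 𝔛 h).FullSubcategory,
        (X ⟶ ⟨Λ.obj W.obj, hΛ W⟩) ≃ (Φ.obj X ⟶ W) := fun X =>
      (FTors.IsDQCTilde 𝔛 h).fullyFaithfulι.homEquiv.trans ((adjR.homEquiv X.obj W.obj).symm.trans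
        ((FTors.IsDQCT 𝔛 h).fullyFaithfulι.homEquiv (X := Φ.obj X) (Y := W)).symm)
    exact Functor.RepresentableBy.isRepresentable
      { homEquiv := fun {X} => E X
        homEquiv_comp := fun {X X'} f g => (FTors.IsDQCT 𝔛 h).ι.map_injective (by
          simp only [E, Equiv.trans_apply, Adjunction.homEquiv_counit]
          exact (congrArg (· ≫ adjR.counit.app W.obj) ((R).map_comp f.hom g.hom)).trans (Category.assoc _ _ _)) }
  exact Functor.isLeftAdjoint_of_iso
    (show Φ ⋙ ((FTors.IsDQCT 𝔛 h).ι ⋙ F) ≅ _ from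
      (Functor.associator _ _ _).symm ≪≫ Functor.isoWhiskerRight ((FTors.IsDQCT 𝔛 h).liftCompιIso _ _) _ ≪≫
        Functor.associator _ _ _)

end GrothLib.Gam7
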