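import Groth.Agent.Lib.Gam7.SumLocal

/-!
# Torsion subcomplexes and sums of complexes of injective modules
-/

set_option autoImplicit false
set_option linter.style.haveILetI false
set_option linter.unusedSectionVars false
universe u

open CategoryTheory CategoryTheory.Limits AlgebraicGeometry TopologicalSpace Opposite

noncomputable section

namespace GrothLib.Gam7

open GrothLib.FMod7 GrothLib.FCat7

variable {𝔛 : FSch.Sys.{u}} {h : 𝔛.IsFormal}

section Aux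

variable {M : FSch.ModF 𝔛 h} {W : (𝔛.X 0).Opens} {r : ℕ} {s : Fin r → Sec 𝔛 h W} {k : ℕ}

theorem LocNil.zero (t : Sec 𝔛 h W) : LocNil t (0 : ModSite.sect M W) :=
  LocNil.of_eq_zero (N := 0) (smul_zero _)

theorem Nil.zero : Nil s k (0 : ModSite.sect M W) := fun i _ => LocNil.zero (s i)

theorem Nil.add {x y : ModSite.sect M W} (hx : Nil s k x) (hy : Nil s k y) : Nil s k (x + y) :=
  fun i hi => (hx i hi).add (hy i hi)

theorem LocNil.sum {t : Sec 𝔛 h W} {β : Type*} (T : Finset β) (f : β → ModSite.sect M W)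
    (H : ∀ b ∈ T, LocNil t (f b)) : LocNil t (∑ b ∈ T, f b) :=
  Finset.sum_induction f (LocNil t) (fun _ _ => LocNil.add) (LocNil.zero t) H

theorem Nil.sum {β : Type*} (T : Finset β) (f : β → ModSite.sect M W) (H : ∀ b ∈ T, Nil s k (f b)) :
    Nil s k (∑ b ∈ T, f b) :=
  fun i hi => LocNil.sum T f fun b hb => H b hb i hi

/-- A uniform exponent for finitely many sections. -/
theorem exists_pow_forall {t : Sec 𝔛 h W} (hW : IsCompact (W : Set (𝔛.X 0))) {β : Type*} (T : Finset β)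
    {M : β → FSch.ModF 𝔛 h} (f : ∀ b, ModSite.sect (M b) W) (H : ∀ b ∈ T, LocNil t (f b)) (m : ℕ) :
    ∃ n, m ≤ n ∧ ∀ b ∈ T, t ^ n • f b = 0 := by
  classical
  induction T using Finset.induction with
  | empty => exact ⟨m, le_rfl, fun b hb => absurd hb (Finset.notMem_empty b)⟩
  | insert a T _ ih =>
    obtain ⟨n, hn, hT⟩ := ih fun b hb => H b (Finset.mem_insert_of_mem hb)
    obtain ⟨l, hl⟩ := (H a (Finset.mem_insert_self a T)).exists_pow hW
    refine ⟨l + n, hn.trans (Nat.le_add_left n l), fun b hb => ?_⟩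
    rcases Finset.mem_insert.1 hb with rfl | hb
    · rw [pow_add, mul_comm, mul_smul, hl, smul_zero]
    · rw [pow_add, mul_smul, hT b hb, smul_zero]

end Aux

/-- Sections killed by powers split locally off multiples of powers. -/
def Splits (M : FSch.ModF 𝔛 h) {V : (𝔛.X 0).Opens} {r : ℕ} (s : Fin r → Sec 𝔛 h V) : Prop :=
  ∀ (k : ℕ) (W : (𝔛.X 0).Opens) (hWV : W ≤ V), IsAffineOpen W → ∀ x : ModSite.sect M W, P s hWV k x →
    ∀ (l : Fin r) (n : ℕ) (p : 𝔛.X 0), p ∈ W → ∃ (W' : (𝔛.X 0).Opens) (h' : W' ≤ W) (y : ModSite.sect M W'),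
      IsAffineOpen W' ∧ p ∈ W' ∧ P s (h'.trans hWV) k y ∧
      LocNil (rRes (h'.trans hWV) (s l)) (sres M h' x - rRes (h'.trans hWV) (s l) ^ n • y)

theorem splits_of_injective (hN : 𝔛.IsLocNoethFormal) (M : FSch.ModF 𝔛 h) [Injective M] {V : (𝔛.X 0).Opens}
    {r : ℕ} (s : Fin r → Sec 𝔛 h V) : Splits M s := fun k W hWV hW x hx l n p hp => by
  obtain ⟨y, hy, hy'⟩ := hx.exists_split hN hW (rRes hWV (s l)) n
  exact ⟨W, le_rfl, y, hW, hp, hy, by rw [sres_id]; exact hy'⟩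

theorem exists_split_fin {β : Type*} (T : Finset β) {M : β → FSch.ModF 𝔛 h} {V : (𝔛.X 0).Opens} {r : ℕ}
    {s : Fin r → Sec 𝔛 h V} (hM : ∀ b, Splits (M b) s) {k : ℕ} {W : (𝔛.X 0).Opens} (hWV : W ≤ V)
    (hW : IsAffineOpen W) (x : ∀ b, ModSite.sect (M b) W) (hx : ∀ b ∈ T, P s hWV k (x b)) (l : Fin r) (n : ℕ)
    {p : 𝔛.X 0} (hp : p ∈ W) :
    ∃ (W' : (𝔛.X 0).Opens) (h' : W' ≤ W) (y : ∀ b, ModSite.sect (M b) W'), IsAffineOpen W' ∧ p ∈ W' ∧
      ∀ b ∈ T, P s (h'.trans hWV) k (y b) ∧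
        LocNil (rRes (h'.trans hWV) (s l)) (sres (M b) h' (x b) - rRes (h'.trans hWV) (s l) ^ n • y b) := by
  obtain ⟨W', h', hW', hp', H⟩ := exists_common T hp
    (fun b W' h' => ∃ y : ModSite.sect (M b) W', P s (h'.trans hWV) k y ∧
      LocNil (rRes (h'.trans hWV) (s l)) (sres (M b) h' (x b) - rRes (h'.trans hWV) (s l) ^ n • y))
    (fun b W' W'' h' h'' ⟨y, hy, hy'⟩ => ⟨sres _ h'' y, P.res s hy h'', by
      have := hy'.res h''
      rw [sres_sub, sres_smul, map_pow, rRes_rRes, sres_sres] at this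
      exact this⟩)
    fun b hb => by
      obtain ⟨W', h', y, -, hp', hy⟩ := hM b k W hWV hW (x b) (hx b hb) l n p hp
      exact ⟨W', h', hp', y, hy⟩
  choose! y hy using H
  exact ⟨W', h', y, hW', hp', hy⟩

variable {α : Type u} (hN : 𝔛.IsLocNoethFormal) (I : α → CochainComplex (FSch.ModF 𝔛 h) ℤ)
  (J : CochainComplex (FSch.ModF 𝔛 h) ℤ) (φ : ∀ a, I a ⟶ J)   (hiso : ∀ j, IsIso (Sigma.desc fun a => HomologicalComplex.homologyMap (φ a) j))
  {V : (𝔛.X 0).Opens} {r : ℕ} (s : Fin r → Sec 𝔛 h V)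
  (hI : ∀ a n, Splits ((I a).X n) s) (hJ : ∀ n, Splits (J.X n) s)

theorem φ_d (a : α) (i j : ℤ) {W : (𝔛.X 0).Opens} (x : ModSite.sect ((I a).X i) W) :
    sHom ((φ a).f j) W (sHom ((I a).d i j) W x) = sHom (J.d i j) W (sHom ((φ a).f i) W x) :=
  (sHom_comp _ _ W x).symm.trans ((congrArg (fun g : (I a).X i ⟶ J.X j => sHom g W x) ((φ a).comm i j).symm).trans
    (sHom_comp _ _ W x))

/-- Cycles killed by powers come from finitely many summands. -/
def Surj (k : ℕ) : Prop :=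
  ∀ (i j : ℤ), i + 1 = j → ∀ (W : (𝔛.X 0).Opens) (hWV : W ≤ V), IsAffineOpen W → ∀ x : ModSite.sect (J.X j) W,
    sHom (J.d j (j + 1)) W x = 0 → P s hWV k x → ∀ p ∈ W,
    ∃ (W' : (𝔛.X 0).Opens) (h' : W' ≤ W) (t : Finset α) (u : ∀ a, ModSite.sect ((I a).X j) W')
      (z : ModSite.sect (J.X i) W'), IsAffineOpen W' ∧ p ∈ W' ∧
      (∀ a ∈ t, P s (h'.trans hWV) k (u a) ∧ sHom ((I a).d j (j + 1)) W' (u a) = 0) ∧ P s (h'.trans hWV) k z ∧
      sres (J.X j) h' x = ∑ a ∈ t, sHom ((φ a).f j) W' (u a) + sHom (J.d i j) W' z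

/-- Boundaries killed by powers are boundaries in each summand. -/
def Inj (k : ℕ) : Prop :=
  ∀ (i j : ℤ), i + 1 = j → ∀ (W : (𝔛.X 0).Opens) (hWV : W ≤ V), IsAffineOpen W →
    ∀ (t : Finset α) (u : ∀ a, ModSite.sect ((I a).X j) W) (z : ModSite.sect (J.X i) W),
    (∀ a ∈ t, P s hWV k (u a) ∧ sHom ((I a).d j (j + 1)) W (u a) = 0) → P s hWV k z →
    ∑ a ∈ t, sHom ((φ a).f j) W (u a) = sHom (J.d i j) W z → ∀ p ∈ W,
    ∃ (W' : (𝔛.X 0).Opens) (h' : W' ≤ W) (w : ∀ a, ModSite.sect ((I a).X i) W'), IsAffineOpen W' ∧ p ∈ W' ∧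
      ∀ a ∈ t, P s (h'.trans hWV) k (w a) ∧ sHom ((I a).d i j) W' (w a) = sres ((I a).X j) h' (u a)

include hiso in
theorem surj_zero : Surj I J φ s 0 := by
  classical
  intro i j hij W hWV hW x hx _ p hp
  obtain ⟨c, hc⟩ := exists_cycle J j x hx
  let H : α → FSch.ModF 𝔛 h := fun a => (I a).homology j
  let D : ∐ H ⟶ J.homology j := Sigma.desc fun a => HomologicalComplex.homologyMap (φ a) j
  haveI : IsIso D := hiso j
  obtain ⟨W₁, h₁, t, cl, hW₁, hp₁, ecl⟩ := exists_local_sigma H (sHom (inv D) W (sHom (J.homologyπ j) W c)) hp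
  obtain ⟨W₂, h₂, hW₂, hp₂, hlift⟩ := exists_common t hp₁
    (fun a W' h' => ∃ ca : ModSite.sect ((I a).cycles j) W', sHom ((I a).homologyπ j) W' ca = sres (H a) h' (cl a))
    (fun b W' W'' h' h'' ⟨ca, hca⟩ => ⟨sres _ h'' ca, by rw [sHom_res, hca, sres_sres]⟩)
    fun a _ => by
      obtain ⟨W', h', hp', ca, hca⟩ := exists_local_preimage ((I a).homologyπ j) (cl a) hp₁
      exact ⟨W', h', hp', ca, hca⟩
  choose! ca hca using hlift
  let y : ModSite.sect (J.cycles j) W₂ :=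
    sres _ (h₂.trans h₁) c - ∑ a ∈ t, sHom (HomologicalComplex.cyclesMap (φ a) j) W₂ (ca a)
  have hy : sHom (J.homologyπ j) W₂ y = 0 := by
    have e0 : sHom D W (sHom (inv D) W (sHom (J.homologyπ j) W c)) = sHom (J.homologyπ j) W c :=
      (sHom_comp _ _ W _).symm.trans
        (congrArg (fun g : J.homology j ⟶ J.homology j => sHom g W (sHom (J.homologyπ j) W c)) (IsIso.inv_hom_id D))
    have e1 : ∀ a ∈ t, sHom (J.homologyπ j) W₂ (sHom (HomologicalComplex.cyclesMap (φ a) j) W₂ (ca a)) =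
        sHom D W₂ (sres (∐ H) h₂ (sHom (Sigma.ι H a) W₁ (cl a))) := fun a ha => by
      rw [← sHom_res, ← hca a ha]
      refine (sHom_comp _ _ W₂ (ca a)).symm.trans (Eq.trans ?_ (sHom_comp _ _ W₂ _))
      refine (congrArg (fun g : (I a).cycles j ⟶ J.homology j => sHom g W₂ (ca a))
        (HomologicalComplex.homologyπ_naturality (φ a) j).symm).trans ((sHom_comp _ _ W₂ (ca a)).trans ?_)
      exact congrArg (fun g : H a ⟶ J.homology j => sHom g W₂ (sHom ((I a).homologyπ j) W₂ (ca a)))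
        (Sigma.ι_desc (fun a => HomologicalComplex.homologyMap (φ a) j) a).symm
    rw [map_sub, map_sum, Finset.sum_congr rfl e1, ← map_sum, ← sres_finsum, ← ecl, sres_sres, sHom_res, sHom_res,
      e0, sub_self]
  obtain ⟨W₃, h₃, hp₃, z, hz⟩ := exists_local_preimage_of_exact
    (ShortComplex.mk (J.toCycles i j) (J.homologyπ j) (by simp))
    (ShortComplex.exact_of_g_is_cokernel _ (J.homologyIsCokernel i j (by simp; omega))) y hy hp₂
  obtain ⟨W₄, hW₄, hp₄, h₄'⟩ := exists_isAffineOpen_mem_and_subset (x := p) (U := W₃) hp₃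
  have h₄ : W₄ ≤ W₃ := h₄'
  refine ⟨W₄, h₄.trans (h₃.trans (h₂.trans h₁)), t,
    fun a => sHom ((I a).iCycles j) W₄ (sres _ (h₄.trans h₃) (ca a)), sres _ h₄ z, hW₄, hp₄,
    fun a _ => ⟨Nil.zero_idx, sHom_eq_zero ((I a).iCycles_d j (j + 1)) W₄ _⟩, Nil.zero_idx, ?_⟩
  have e2 : sHom (J.d i j) W₄ (sres _ h₄ z) = sHom (J.iCycles j) W₄ (sres _ (h₄.trans h₃) y) := by
    have e := congrArg (fun q => sHom (J.iCycles j) W₄ (sres _ h₄ q)) hz
    simp only [sres_sres] at e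
    rw [← e, ← sHom_res]
    exact (congrArg (fun g : J.X i ⟶ J.X j => sHom g W₄ (sres _ h₄ z)) (J.toCycles_i i j).symm).trans
      (sHom_comp _ _ W₄ _)
  have e3 : ∀ a ∈ t, sHom ((φ a).f j) W₄ (sHom ((I a).iCycles j) W₄ (sres _ (h₄.trans h₃) (ca a))) =
      sHom (J.iCycles j) W₄ (sres _ (h₄.trans h₃) (sHom (HomologicalComplex.cyclesMap (φ a) j) W₂ (ca a))) :=
    fun a _ => by
      rw [← sHom_res (HomologicalComplex.cyclesMap (φ a) j)]
      exact ((sHom_comp _ _ W₄ _).symm.trans (congrArg (fun g : (I a).cycles j ⟶ J.X j => sHom g W₄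
        (sres _ (h₄.trans h₃) (ca a))) (HomologicalComplex.cyclesMap_i (φ a) j).symm)).trans (sHom_comp _ _ W₄ _)
  rw [e2, Finset.sum_congr rfl e3, sres_sub, sres_finsum, map_sub, map_sum, add_sub_cancel, ← hc]
  simp only [sHom_res, sres_sres]

include hiso in
theorem inj_zero : Inj I J φ s 0 := by
  classical
  intro i j hij W hWV hW t u z hu _ he p hp
  have hcyc : ∀ a, ∃ c : ModSite.sect ((I a).cycles j) W, a ∈ t → sHom ((I a).iCycles j) W c = u a := fun a => by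
    by_cases ha : a ∈ t
    · obtain ⟨c, hc⟩ := exists_cycle (I a) j (u a) (hu a ha).2
      exact ⟨c, fun _ => hc⟩
    · exact ⟨0, fun h' => absurd h' ha⟩
  choose c hc using hcyc
  let H : α → FSch.ModF 𝔛 h := fun a => (I a).homology j
  let D : ∐ H ⟶ J.homology j := Sigma.desc fun a => HomologicalComplex.homologyMap (φ a) j
  haveI : IsIso D := hiso j
  have e1 : ∑ a ∈ t, sHom (HomologicalComplex.cyclesMap (φ a) j) W (c a) = sHom (J.toCycles i j) W z := by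
    refine sHom_injective (J.iCycles j) W ?_
    rw [map_sum]
    refine Eq.trans (Finset.sum_congr rfl fun a ha => ?_) (he.trans ?_)
    · rw [← hc a ha]
      exact ((sHom_comp _ _ W _).symm.trans (congrArg (fun g : (I a).cycles j ⟶ J.X j => sHom g W (c a))
        (HomologicalComplex.cyclesMap_i (φ a) j))).trans (sHom_comp _ _ W _)
    · exact ((congrArg (fun g : J.X i ⟶ J.X j => sHom g W z) (J.toCycles_i i j)).symm).trans (sHom_comp _ _ W z)
  have e2 : ∑ a ∈ t, sHom (Sigma.ι H a) W (sHom ((I a).homologyπ j) W (c a)) = 0 := by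
    refine sHom_injective D W ?_
    rw [map_sum, map_zero]
    refine Eq.trans (Finset.sum_congr rfl fun a _ => ?_)
      (((map_sum (sHom (J.homologyπ j) W) _ t).symm.trans (congrArg _ e1)).trans
        (sHom_eq_zero (J.toCycles_comp_homologyπ i j) W z))
    refine (sHom_comp _ _ W _).symm.trans ?_
    refine (congrArg (fun g : H a ⟶ J.homology j => sHom g W (sHom ((I a).homologyπ j) W (c a)))
      (Sigma.ι_desc (fun a => HomologicalComplex.homologyMap (φ a) j) a)).trans ((sHom_comp _ _ W (c a)).symm.trans ?_)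
    exact (congrArg (fun g : (I a).cycles j ⟶ J.homology j => sHom g W (c a))
      (HomologicalComplex.homologyπ_naturality (φ a) j)).trans (sHom_comp _ _ W _)
  have h0 : ∀ b ∈ t, sHom ((I b).homologyπ j) W (c b) = 0 := fun b hb => by
    have e := congrArg (sHom (Sigma.π H b) W) e2
    rw [map_sum, map_zero, Finset.sum_eq_single b] at e
    · refine Eq.trans ?_ e
      refine Eq.trans ?_ (sHom_comp (Sigma.ι H b) (Sigma.π H b) W _)
      exact congrArg (fun g : H b ⟶ H b => sHom g W (sHom ((I b).homologyπ j) W (c b))) (Sigma.ι_π_eq_id H b).symm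
    · intro a _ hab
      exact sHom_eq_zero (Sigma.ι_π_of_ne H hab) W _
    · exact fun h' => absurd hb h'
  obtain ⟨W₁, h₁, hW₁, hp₁, hw⟩ := exists_common t hp
    (fun a W' h' => ∃ w : ModSite.sect ((I a).X i) W', sHom ((I a).d i j) W' w = sres _ h' (u a))
    (fun b W' W'' h' h'' ⟨w, e⟩ => ⟨sres _ h'' w, by rw [sHom_res, e, sres_sres]⟩)
    fun a ha => by
      obtain ⟨W', h', hp', w, hw⟩ := exists_local_preimage_of_exact
        (ShortComplex.mk ((I a).toCycles i j) ((I a).homologyπ j) (by simp))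
        (ShortComplex.exact_of_g_is_cokernel _ ((I a).homologyIsCokernel i j (by simp; omega))) (c a) (h0 a ha) hp
      refine ⟨W', h', hp', w, ?_⟩
      rw [← hc a ha, ← sHom_res]
      refine Eq.trans ?_ (congrArg (sHom ((I a).iCycles j) W') hw)
      exact (congrArg (fun g : (I a).X i ⟶ (I a).X j => sHom g W' w) ((I a).toCycles_i i j).symm).trans
        (sHom_comp _ _ W' w)
  choose! w hw using hw
  exact ⟨W₁, h₁, w, hW₁, hp₁, fun a ha => ⟨Nil.zero_idx, hw a ha⟩⟩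

theorem sum_union_split [DecidableEq α] {M : FSch.ModF 𝔛 h} {W : (𝔛.X 0).Opens} (t t' : Finset α)
    (f g : α → ModSite.sect M W) :
    ∑ a ∈ t ∪ t', ((if a ∈ t then f a else 0) + (if a ∈ t' then g a else 0)) = ∑ a ∈ t, f a + ∑ a ∈ t', g a := by
  rw [Finset.sum_add_distrib]
  refine congr_arg₂ (· + ·) ?_ ?_
  · exact (Finset.sum_subset Finset.subset_union_left fun a _ ha => by simp [ha]).symm.trans
      (Finset.sum_congr rfl fun a ha => by simp [ha])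
  · exact (Finset.sum_subset Finset.subset_union_right fun a _ ha => by simp [ha]).symm.trans
      (Finset.sum_congr rfl fun a ha => by simp [ha])

include hI hJ in
theorem surj_succ {k : ℕ} (hk : k < r) (hS : Surj I J φ s k)
    (hIn : Inj I J φ s k) : Surj I J φ s (k + 1) := by
  classical
  intro i j hij W hWV hW x hx hxP p hp
  let l : Fin r := ⟨k, hk⟩
  obtain ⟨W₁, h₁, t, u, z, hW₁, hp₁, hu, hz, ex⟩ := hS i j hij W hWV hW x hx (hxP.mono k.le_succ) p hp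
  let h₁V : W₁ ≤ V := h₁.trans hWV
  let T₁ := rRes h₁V (s l)
  obtain ⟨n, hn⟩ := (((hxP.res s h₁) : P s h₁V (k + 1) (sres (J.X j) h₁ x)) l (Nat.lt_succ_self k)).exists_pow
    hW₁.isCompact
  change T₁ ^ n • sres (J.X j) h₁ x = 0 at hn
  have e1 : ∑ a ∈ t, sHom ((φ a).f j) W₁ (T₁ ^ n • u a) = sHom (J.d i j) W₁ (-(T₁ ^ n • z)) := by
    rw [map_neg, map_smul]
    simp only [map_smul]
    rw [← Finset.smul_sum]
    refine eq_neg_of_add_eq_zero_left ?_
    rw [← smul_add, ← ex, hn]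
  obtain ⟨Wa, ha₂, wa, hWa, hpa, hwa⟩ := hIn i j hij W₁ h₁V hW₁ t (fun a => T₁ ^ n • u a) (-(T₁ ^ n • z))
    (fun a ha => ⟨Nil.smul (hu a ha).1 _, by rw [map_smul, (hu a ha).2, smul_zero]⟩)
    (by rw [← neg_one_smul (Sec 𝔛 h W₁)]; exact Nil.smul (Nil.smul hz _) _) e1 p hp₁
  obtain ⟨Wb, hb₂, wb, hWb, hpb, hwb⟩ := exists_split_fin t (fun a => hI a i) (ha₂.trans h₁V) hWa wa
    (fun a ha => (hwa a ha).1) l n hpa
  obtain ⟨W₂, h₂, w, w1, hW₂, hp₂, hw, hw1⟩ : ∃ (W₂ : (𝔛.X 0).Opens) (h₂ : W₂ ≤ W₁)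
      (w w1 : ∀ a, ModSite.sect ((I a).X i) W₂), IsAffineOpen W₂ ∧ p ∈ W₂ ∧
      (∀ a ∈ t, P s (h₂.trans h₁V) k (w a) ∧
        sHom ((I a).d i j) W₂ (w a) = sres ((I a).X j) h₂ (T₁ ^ n • u a)) ∧
      ∀ a ∈ t, P s (h₂.trans h₁V) k (w1 a) ∧
        LocNil (rRes (h₂.trans h₁V) (s l)) (w a - rRes (h₂.trans h₁V) (s l) ^ n • w1 a) :=
    ⟨Wb, hb₂.trans ha₂, fun a => sres _ hb₂ (wa a), wb, hWb, hpb,
      fun a ha => ⟨P.res s (hwa a ha).1 hb₂, by rw [sHom_res, (hwa a ha).2, sres_sres]⟩, hwb⟩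
  let h₂V : W₂ ≤ V := h₂.trans h₁V
  let T₂ := rRes h₂V (s l)
  let u' : ∀ a, ModSite.sect ((I a).X j) W₂ := fun a => sres _ h₂ (u a) - sHom ((I a).d i j) W₂ (w1 a)
  have hu' : ∀ a ∈ t, P s h₂V (k + 1) (u' a) ∧ sHom ((I a).d j (j + 1)) W₂ (u' a) = 0 := fun a ha => by
    refine ⟨Nil.succ (j := l) (Nil.sub ((hu a ha).1.res s h₂) ((hw1 a ha).1.hom _))
      (LocNil.of_pow_smul (n := n) ?_), ?_⟩
    · have e : sHom ((I a).d i j) W₂ (w a - T₂ ^ n • w1 a) = T₂ ^ n • u' a := by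
        rw [map_sub, map_smul, (hw a ha).2, smul_sub, sres_smul, map_pow, rRes_rRes]
      exact e ▸ (hw1 a ha).2.hom _
    · rw [map_sub, sHom_res, (hu a ha).2, d_d, sres_zero, sub_zero]
  let z' : ModSite.sect (J.X i) W₂ := sres _ h₂ z + ∑ a ∈ t, sHom ((φ a).f i) W₂ (w1 a)
  have hz'P : P s h₂V k z' := Nil.add (hz.res s h₂) (Nil.sum t _ fun a ha => (hw1 a ha).1.hom _)
  have ex' : sres (J.X j) (h₂.trans h₁) x = ∑ a ∈ t, sHom ((φ a).f j) W₂ (u' a) + sHom (J.d i j) W₂ z' := by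
    rw [← sres_sres h₁ h₂, ex, sres_add, sres_finsum]
    simp only [u', z', map_sub, map_add, map_sum, φ_d, sHom_res, Finset.sum_sub_distrib]
    abel
  have hdz : P s h₂V (k + 1) (sHom (J.d i j) W₂ z') := by
    rw [show sHom (J.d i j) W₂ z' = sres (J.X j) (h₂.trans h₁) x - ∑ a ∈ t, sHom ((φ a).f j) W₂ (u' a) by
      rw [ex']; abel]
    exact Nil.sub (hxP.res s (h₂.trans h₁)) (Nil.sum t _ fun a ha => (hu' a ha).1.hom _)
  obtain ⟨m, hm⟩ := (hdz l (Nat.lt_succ_self k)).exists_pow hW₂.isCompact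
  change T₂ ^ m • sHom (J.d i j) W₂ z' = 0 at hm
  obtain ⟨Wc, hc₃, t', vc, gc, hWc, hpc, hvc, hgc, eyc⟩ := hS (i - 1) i (by omega) W₂ h₂V hW₂ (T₂ ^ m • z')
    (by rw [show i + 1 = j from hij, map_smul, hm]) (Nil.smul hz'P _) p hp₂
  obtain ⟨Wd, hd₃, vd, hWd, hpd, hvd⟩ := exists_split_fin t' (fun a => hI a i) (hc₃.trans h₂V) hWc vc
    (fun a ha => (hvc a ha).1) l m hpc
  obtain ⟨We, he₃, ge, hWe, hpe, hge, hge'⟩ := hJ (i - 1) k Wd (hd₃.trans (hc₃.trans h₂V)) hWd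
    (sres _ hd₃ gc) (P.res s hgc hd₃) l m p hpd
  obtain ⟨W₃, h₃, v, v1, g, g1, hW₃, hp₃, hv, hv1, hg1, hg1', ey⟩ : ∃ (W₃ : (𝔛.X 0).Opens) (h₃ : W₃ ≤ W₂)
      (v v1 : ∀ a, ModSite.sect ((I a).X i) W₃) (g g1 : ModSite.sect (J.X (i - 1)) W₃), IsAffineOpen W₃ ∧ p ∈ W₃ ∧
      (∀ a ∈ t', P s (h₃.trans h₂V) k (v a) ∧ sHom ((I a).d i (i + 1)) W₃ (v a) = 0) ∧
      (∀ a ∈ t', P s (h₃.trans h₂V) k (v1 a) ∧
        LocNil (rRes (h₃.trans h₂V) (s l)) (v a - rRes (h₃.trans h₂V) (s l) ^ m • v1 a)) ∧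
      P s (h₃.trans h₂V) k g1 ∧
      LocNil (rRes (h₃.trans h₂V) (s l)) (g - rRes (h₃.trans h₂V) (s l) ^ m • g1) ∧
      sres (J.X i) h₃ (T₂ ^ m • z') = ∑ a ∈ t', sHom ((φ a).f i) W₃ (v a) + sHom (J.d (i - 1) i) W₃ g := by
    refine ⟨We, he₃.trans (hd₃.trans hc₃), fun a => sres _ (he₃.trans hd₃) (vc a), fun a => sres _ he₃ (vd a),
      sres _ (he₃.trans hd₃) gc, ge, hWe, hpe,
      fun a ha => ⟨P.res s (hvc a ha).1 _, by rw [sHom_res, (hvc a ha).2]; exact sres_zero _⟩,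
      fun a ha => ⟨P.res s (hvd a ha).1 he₃, ?_⟩, hge, ?_, ?_⟩
    · have := (hvd a ha).2.res he₃
      rw [sres_sub, sres_smul, map_pow, rRes_rRes, sres_sres] at this
      exact this
    · rw [← sres_sres hd₃ he₃]
      exact hge'
    · rw [← sres_sres hc₃ (he₃.trans hd₃), eyc, sres_add, sres_finsum]
      simp only [sHom_res]
  let h₃V : W₃ ≤ V := h₃.trans h₂V
  let T₃ := rRes h₃V (s l)
  let z'' : ModSite.sect (J.X i) W₃ :=
    sres _ h₃ z' - ∑ a ∈ t', sHom ((φ a).f i) W₃ (v1 a) - sHom (J.d (i - 1) i) W₃ g1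
  have hz'' : P s h₃V (k + 1) z'' := by
    refine Nil.succ (j := l) (Nil.sub (Nil.sub (hz'P.res s h₃) (Nil.sum t' _ fun a ha => (hv1 a ha).1.hom _))
      (hg1.hom _)) (LocNil.of_pow_smul (n := m) ?_)
    have e : ∑ a ∈ t', sHom ((φ a).f i) W₃ (v a - T₃ ^ m • v1 a) +
        sHom (J.d (i - 1) i) W₃ (g - T₃ ^ m • g1) = T₃ ^ m • z'' := by
      have ey' : T₃ ^ m • sres (J.X i) h₃ z' =
          ∑ a ∈ t', sHom ((φ a).f i) W₃ (v a) + sHom (J.d (i - 1) i) W₃ g := by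
        rw [← ey, sres_smul, map_pow, rRes_rRes]
      simp only [z'', map_sub, map_smul, smul_sub, Finset.smul_sum, Finset.sum_sub_distrib, ey']
      abel
    exact e ▸ LocNil.add (LocNil.sum t' _ fun a ha => (hv1 a ha).2.hom _) (hg1'.hom _)
  refine ⟨W₃, h₃.trans (h₂.trans h₁), t ∪ t',
    fun a => (if a ∈ t then sres _ h₃ (u' a) else 0) + (if a ∈ t' then sHom ((I a).d i j) W₃ (v1 a) else 0),
    z'', hW₃, hp₃, fun a _ => ⟨Nil.add ?_ ?_, ?_⟩, hz'', ?_⟩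
  · split
    · exact (hu' a ‹_›).1.res s h₃
    · exact Nil.zero
  · split
    · rename_i ha
      refine Nil.succ (j := l) ((hv1 a ha).1.hom _) (LocNil.of_pow_smul (n := m) ?_)
      have e : sHom ((I a).d i j) W₃ (0 : ModSite.sect ((I a).X i) W₃) -
          sHom ((I a).d i j) W₃ (v a - T₃ ^ m • v1 a) = T₃ ^ m • sHom ((I a).d i j) W₃ (v1 a) := by
        have := (hv a ha).2
        rw [show i + 1 = j from hij] at this
        rw [map_sub, map_smul, this, map_zero]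
        abel
      exact e ▸ LocNil.sub ((LocNil.zero T₃).hom _) ((hv1 a ha).2.hom _)
    · exact Nil.zero
  · rw [map_add]
    refine (congr_arg₂ (· + ·) ?_ ?_).trans (add_zero 0)
    · split
      · rw [sHom_res, (hu' a ‹_›).2, sres_zero]
      · exact map_zero _
    · split
      · exact d_d (I a) _
      · exact map_zero _
  · have e : ∀ a, sHom ((φ a).f j) W₃ ((if a ∈ t then sres _ h₃ (u' a) else 0) +
        (if a ∈ t' then sHom ((I a).d i j) W₃ (v1 a) else 0)) =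
        (if a ∈ t then sres _ h₃ (sHom ((φ a).f j) W₂ (u' a)) else 0) +
        (if a ∈ t' then sHom ((φ a).f j) W₃ (sHom ((I a).d i j) W₃ (v1 a)) else 0) := fun a => by
      rw [map_add, apply_ite (sHom ((φ a).f j) W₃), apply_ite (sHom ((φ a).f j) W₃), map_zero, sHom_res]
    rw [Finset.sum_congr rfl fun a _ => e a, sum_union_split, ← sres_sres (h₂.trans h₁) h₃, ex', sres_add,
      sres_finsum]
    simp only [z'', map_sub, map_sum, φ_d, d_d, sHom_res, sub_zero]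
    abel

include hI in
theorem inj_succ {k : ℕ} (hk : k < r) (hS : Surj I J φ s k) (hIn : Inj I J φ s k) :
    Inj I J φ s (k + 1) := by
  classical
  intro i j hij W hWV hW t u z hu hz he p hp
  let l : Fin r := ⟨k, hk⟩
  obtain ⟨W₁, h₁, w, hW₁, hp₁, hw⟩ := hIn i j hij W hWV hW t u z
    (fun a ha => ⟨(hu a ha).1.mono k.le_succ, (hu a ha).2⟩) (hz.mono k.le_succ) he p hp
  let h₁V : W₁ ≤ V := h₁.trans hWV
  let y : ModSite.sect (J.X i) W₁ := ∑ a ∈ t, sHom ((φ a).f i) W₁ (w a) - sres _ h₁ z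
  have hy : sHom (J.d i (i + 1)) W₁ y = 0 := by
    rw [show i + 1 = j from hij, map_sub, map_sum, sHom_res, ← he, sres_finsum, sub_eq_zero]
    exact Finset.sum_congr rfl fun a ha => by rw [← φ_d, (hw a ha).2, sHom_res]
  obtain ⟨W₂, h₂, t', v, g, hW₂, hp₂, hv, hg, ey⟩ := hS (i - 1) i (by omega) W₁ h₁V hW₁ y hy
    (Nil.sub (Nil.sum t _ fun a ha => (hw a ha).1.hom _) (P.res s (hz.mono k.le_succ) h₁)) p hp₁
  let h₂V : W₂ ≤ V := h₂.trans h₁V
  let T₂ := rRes h₂V (s l)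
  let w' : ∀ a, ModSite.sect ((I a).X i) W₂ := fun a =>
    (if a ∈ t then sres _ h₂ (w a) else 0) + (if a ∈ t' then -v a else 0)
  let u₂ : ∀ a, ModSite.sect ((I a).X j) W₂ := fun a =>
    if a ∈ t then sres _ (h₂.trans h₁) (u a) else 0
  have hdw' : ∀ a, sHom ((I a).d i j) W₂ (w' a) = u₂ a := fun a => by
    simp only [w', u₂]
    rw [map_add, apply_ite (sHom ((I a).d i j) W₂), apply_ite (sHom ((I a).d i j) W₂), map_zero]
    have e2 : (if a ∈ t' then sHom ((I a).d i j) W₂ (-v a) else 0) = 0 := by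
      split
      · rw [map_neg, neg_eq_zero, ← hij]
        exact (hv a ‹_›).2
      · rfl
    rw [e2, add_zero]
    split
    · rw [sHom_res, (hw a ‹_›).2, sres_sres]
    · rfl
  have hw'P : ∀ a, P s h₂V k (w' a) := fun a => by
    refine Nil.add ?_ ?_
    · split
      · exact (hw a ‹_›).1.res s h₂
      · exact Nil.zero
    · split
      · rw [← neg_one_smul (Sec 𝔛 h W₂)]
        exact Nil.smul (hv a ‹_›).1 _
      · exact Nil.zero
  have hu₂ : ∀ a, P s h₂V (k + 1) (u₂ a) := fun a => by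
    simp only [u₂]
    split
    · exact (hu a ‹_›).1.res s (h₂.trans h₁)
    · exact Nil.zero
  have hφw' : ∑ a ∈ t ∪ t', sHom ((φ a).f i) W₂ (w' a) =
      sres (J.X i) (h₂.trans h₁) z + sHom (J.d (i - 1) i) W₂ g := by
    have e : ∀ a, sHom ((φ a).f i) W₂ (w' a) =
        (if a ∈ t then sres _ h₂ (sHom ((φ a).f i) W₁ (w a)) else 0) +
        (if a ∈ t' then -sHom ((φ a).f i) W₂ (v a) else 0) := fun a => by
      simp only [w']
      rw [map_add, apply_ite (sHom ((φ a).f i) W₂), apply_ite (sHom ((φ a).f i) W₂), map_zero, sHom_res, map_neg]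
    rw [Finset.sum_congr rfl fun a _ => e a, sum_union_split, Finset.sum_neg_distrib, ← sres_finsum]
    have e2 : sres (J.X i) h₂ y = ∑ a ∈ t', sHom ((φ a).f i) W₂ (v a) + sHom (J.d (i - 1) i) W₂ g := ey
    simp only [y, sres_sub, sres_sres] at e2
    rw [sub_eq_iff_eq_add] at e2
    rw [e2]
    abel
  obtain ⟨n₁, hn₁⟩ := (((hz.res s (h₂.trans h₁)) : P s h₂V (k + 1) (sres (J.X i) (h₂.trans h₁) z)) l
    (Nat.lt_succ_self k)).exists_pow hW₂.isCompact
  change T₂ ^ n₁ • sres (J.X i) (h₂.trans h₁) z = 0 at hn₁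
  obtain ⟨n, hn, hun⟩ := exists_pow_forall (t := T₂) hW₂.isCompact (t ∪ t') u₂
    (fun a _ => hu₂ a l (Nat.lt_succ_self k)) n₁
  obtain ⟨q, hq⟩ := Nat.exists_eq_add_of_le hn
  have hzn : T₂ ^ n • sres (J.X i) (h₂.trans h₁) z = 0 := by
    rw [hq, pow_add, mul_comm, mul_smul, hn₁, smul_zero]
  have e3 : ∑ a ∈ t ∪ t', sHom ((φ a).f i) W₂ (T₂ ^ n • w' a) = sHom (J.d (i - 1) i) W₂ (T₂ ^ n • g) := by
    simp only [map_smul]
    rw [← Finset.smul_sum, hφw', smul_add, hzn, zero_add]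
  obtain ⟨Wa, ha₃, Ga, hWa, hpa, hGa⟩ := hIn (i - 1) i (by omega) W₂ h₂V hW₂ (t ∪ t') (fun a => T₂ ^ n • w' a)
    (T₂ ^ n • g)
    (fun a ha => ⟨Nil.smul (hw'P a) _, by
      rw [show i + 1 = j from hij, map_smul, hdw', hun a ha]⟩)
    (Nil.smul hg _) e3 p hp₂
  obtain ⟨Wb, hb₃, Gb, hWb, hpb, hGb⟩ := exists_split_fin (t ∪ t') (fun a => hI a (i - 1)) (ha₃.trans h₂V) hWa Ga
    (fun a ha => (hGa a ha).1) l n hpa
  obtain ⟨W₃, h₃, G, G1, hW₃, hp₃, hG, hG1⟩ : ∃ (W₃ : (𝔛.X 0).Opens) (h₃ : W₃ ≤ W₂)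
      (G G1 : ∀ a, ModSite.sect ((I a).X (i - 1)) W₃), IsAffineOpen W₃ ∧ p ∈ W₃ ∧
      (∀ a ∈ t ∪ t', P s (h₃.trans h₂V) k (G a) ∧
        sHom ((I a).d (i - 1) i) W₃ (G a) = sres ((I a).X i) h₃ (T₂ ^ n • w' a)) ∧
      ∀ a ∈ t ∪ t', P s (h₃.trans h₂V) k (G1 a) ∧
        LocNil (rRes (h₃.trans h₂V) (s l)) (G a - rRes (h₃.trans h₂V) (s l) ^ n • G1 a) :=
    ⟨Wb, hb₃.trans ha₃, fun a => sres _ hb₃ (Ga a), Gb, hWb, hpb,
      fun a ha => ⟨P.res s (hGa a ha).1 hb₃, by rw [sHom_res, (hGa a ha).2, sres_sres]⟩, hGb⟩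
  let h₃V : W₃ ≤ V := h₃.trans h₂V
  let T₃ := rRes h₃V (s l)
  refine ⟨W₃, h₃.trans (h₂.trans h₁), fun a => sres _ h₃ (w' a) - sHom ((I a).d (i - 1) i) W₃ (G1 a), hW₃, hp₃,
    fun a ha => ⟨?_, ?_⟩⟩
  · have ha' : a ∈ t ∪ t' := Finset.mem_union_left _ ha
    refine Nil.succ (j := l) (Nil.sub ((hw'P a).res s h₃) ((hG1 a ha').1.hom _)) (LocNil.of_pow_smul (n := n) ?_)
    have e : sHom ((I a).d (i - 1) i) W₃ (G a - T₃ ^ n • G1 a) =
        T₃ ^ n • (sres ((I a).X i) h₃ (w' a) - sHom ((I a).d (i - 1) i) W₃ (G1 a)) := by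
      rw [map_sub, map_smul, (hG a ha').2, smul_sub, sres_smul, map_pow, rRes_rRes]
    exact e ▸ (hG1 a ha').2.hom _
  · rw [map_sub, d_d, sub_zero, sHom_res, hdw']
    simp only [u₂]
    rw [if_pos ha, sres_sres]

include hI hJ hiso in
theorem surj_inj : ∀ k, k ≤ r → Surj I J φ s k ∧ Inj I J φ s k := by
  intro k
  induction k with
  | zero => exact fun _ => ⟨surj_zero I J φ hiso s, inj_zero I J φ hiso s⟩
  | succ k ih =>
    intro hk
    obtain ⟨hS, hIn⟩ := ih (Nat.le_of_succ_le hk)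
    exact ⟨surj_succ I J φ s hI hJ hk hS hIn, inj_succ I J φ s hI hk hS hIn⟩

end GrothLib.Gam7
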