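import Groth.Agent.Lib.Gam7.Qis
import Groth.Agent.Lib.FCat7.GenSub

/-!
# Local sections of sums of modules
-/

set_option autoImplicit false
set_option linter.style.haveILetI false
set_option linter.unusedSectionVars false
universe u

open CategoryTheory CategoryTheory.Limits AlgebraicGeometry TopologicalSpace Opposite

noncomputable section

namespace GrothLib.Gam7

open GrothLib.FMod7 GrothLib.FCat7

variable {𝔛 : FSch.Sys.{u}} {h : 𝔛.IsFormal} {α : Type u}

theorem sres_zero {M : FSch.ModF 𝔛 h} {W W' : (𝔛.X 0).Opens} (h' : W' ≤ W) :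
    sres M h' (0 : ModSite.sect M W) = 0 :=
  map_zero (M.val.map (homOfLE h').op).hom

theorem sres_finsum {M : FSch.ModF 𝔛 h} {W W' : (𝔛.X 0).Opens} (h' : W' ≤ W) {β : Type*} (t : Finset β)
    (f : β → ModSite.sect M W) : sres M h' (∑ b ∈ t, f b) = ∑ b ∈ t, sres M h' (f b) :=
  map_sum (M.val.map (homOfLE h').op).hom f t

/-- Finitely many local conditions hold on a common affine neighbourhood. -/
theorem exists_common {β : Type*} (t : Finset β) {W : (𝔛.X 0).Opens} {p : 𝔛.X 0} (hp : p ∈ W)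
    (Q : β → ∀ W' : (𝔛.X 0).Opens, W' ≤ W → Prop)
    (hres : ∀ b W' W'' (h' : W' ≤ W) (h'' : W'' ≤ W'), Q b W' h' → Q b W'' (h''.trans h'))
    (H : ∀ b ∈ t, ∃ (W' : (𝔛.X 0).Opens) (h' : W' ≤ W), p ∈ W' ∧ Q b W' h') :
    ∃ (W' : (𝔛.X 0).Opens) (h' : W' ≤ W), IsAffineOpen W' ∧ p ∈ W' ∧ ∀ b ∈ t, Q b W' h' := by
  classical
  induction t using Finset.induction with
  | empty =>
    obtain ⟨W', hW', hp', h'⟩ := exists_isAffineOpen_mem_and_subset (x := p) (U := W) hp
    exact ⟨W', h', hW', hp', fun b hb => absurd hb (Finset.notMem_empty b)⟩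
  | insert a t _ ih =>
    obtain ⟨W₁, h₁, -, hp₁, hQ₁⟩ := ih fun b hb => H b (Finset.mem_insert_of_mem hb)
    obtain ⟨W₂, h₂, hp₂, hQ₂⟩ := H a (Finset.mem_insert_self a t)
    obtain ⟨W', hW', hp', h''⟩ := exists_isAffineOpen_mem_and_subset (x := p) (U := W₁ ⊓ W₂) ⟨hp₁, hp₂⟩
    have hle : W' ≤ W₁ ⊓ W₂ := h''
    refine ⟨W', (hle.trans inf_le_left).trans h₁, hW', hp', fun b hb => ?_⟩
    rcases Finset.mem_insert.1 hb with rfl | hb
    · exact hres b W₂ W' h₂ (hle.trans inf_le_right) hQ₂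
    · exact hres b W₁ W' h₁ (hle.trans inf_le_left) (hQ₁ b hb)

/-- Sections of a coproduct are locally finite sums of sections of the summands. -/
theorem exists_local_sigma (M : α → FSch.ModF 𝔛 h) [HasCoproduct M] {U : (𝔛.X 0).Opens}
    (z : ModSite.sect (∐ M) U) {p : 𝔛.X 0} (hp : p ∈ U) :
    ∃ (W : (𝔛.X 0).Opens) (hW : W ≤ U) (t : Finset α) (c : ∀ a, ModSite.sect (M a) W), IsAffineOpen W ∧ p ∈ W ∧
      sres (∐ M) hW z = ∑ a ∈ t, sHom (Sigma.ι M a) W (c a) := by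
  classical
  let V : (Σ a : α, Σ V : (𝔛.X 0).Opens, ModSite.sect (M a) V) → (𝔛.X 0).Opens := fun i => i.2.1
  let s : ∀ i, ModSite.sect (∐ M) (V i) := fun i => sHom (Sigma.ι M i.1) i.2.1 i.2.2
  haveI : Epi (genIncl (∐ M) V s) := Preadditive.epi_of_cancel_zero _ fun {Z} g hg => Sigma.hom_ext _ _ fun a => by
    rw [comp_zero]
    refine hom_ext_basis fun W _ x => ?_
    obtain ⟨x', hx'⟩ := exists_genMod_sect (∐ M) V s (mem_genSet (∐ M) V s ⟨a, W, x⟩)
    exact (congrArg (sHom g W) hx'.symm).trans (sHom_eq_zero hg W x')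
  haveI := isIso_of_mono_of_epi (genIncl (∐ M) V s)
  have hz : sHom (genIncl (∐ M) V s) U (sHom (inv (genIncl (∐ M) V s)) U z) = z :=
    (sHom_comp _ _ U z).symm.trans (congrArg (fun φ : ∐ M ⟶ ∐ M => sHom φ U z) (IsIso.inv_hom_id _))
  obtain ⟨W, hW, hpW, hm⟩ := sHom_genIncl_mem (∐ M) V s (sHom (inv (genIncl (∐ M) V s)) U z) p hp
  obtain ⟨W', hW', hp', h'⟩ := exists_isAffineOpen_mem_and_subset (x := p) (U := W) hpW
  have hle : W' ≤ W := h'
  have hm' := sres_mem_spanAt (∐ M) V s hle hm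
  rw [hz, sres_sres] at hm'
  suffices H : ∀ y ∈ spanAt (∐ M) V s W', ∃ (t : Finset α) (c : ∀ a, ModSite.sect (M a) W'),
      y = ∑ a ∈ t, sHom (Sigma.ι M a) W' (c a) by
    obtain ⟨t, c, e⟩ := H _ hm'
    exact ⟨W', hle.trans hW, t, c, hW', hp', e⟩
  intro y hy
  refine Submodule.span_induction ?_ ?_ ?_ ?_ hy
  · rintro _ ⟨⟨⟨a, W'', x⟩, hi⟩, rfl⟩
    refine ⟨{a}, Pi.single a (sres (M a) hi x), ?_⟩
    rw [Finset.sum_singleton, Pi.single_eq_same]
    exact (sHom_res _ _ _).symm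
  · exact ⟨∅, fun a => 0, by simp⟩
  · rintro y y' - - ⟨t, c, rfl⟩ ⟨t', c', rfl⟩
    refine ⟨t ∪ t', fun a => (if a ∈ t then c a else 0) + (if a ∈ t' then c' a else 0), ?_⟩
    simp only [map_add, Finset.sum_add_distrib]
    refine congr_arg₂ (· + ·) ?_ ?_
    · refine ((Finset.sum_subset Finset.subset_union_left fun a _ ha => by simp [ha]).symm.trans
        (Finset.sum_congr rfl fun a ha => by simp [ha])).symm
    · refine ((Finset.sum_subset Finset.subset_union_right fun a _ ha => by simp [ha]).symm.trans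
        (Finset.sum_congr rfl fun a ha => by simp [ha])).symm
  · rintro b y - ⟨t, c, rfl⟩
    refine ⟨t, fun a => b • c a, ?_⟩
    rw [Finset.smul_sum]
    exact Finset.sum_congr rfl fun a _ => ((sHom (Sigma.ι M a) W').map_smul b (c a)).symm

end GrothLib.Gam7
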