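import Groth.Agent.Lib.Gam7.Sum

/-!
# Cohomology of torsion subcomplexes commutes with sums
-/

set_option autoImplicit false
set_option linter.style.haveILetI false
set_option linter.unusedSectionVars false
universe u

open CategoryTheory CategoryTheory.Limits AlgebraicGeometry TopologicalSpace Opposite

noncomputable section

namespace GrothLib.Gam7

open GrothLib.FMod7 GrothLib.FCat7

variable {𝔛 : FSch.Sys.{u}} {h : 𝔛.IsFormal} {α : Type u}

/-- The map of torsion subcomplexes. -/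
abbrev tmap {K L : CochainComplex (FSch.ModF 𝔛 h) ℤ} (f : K ⟶ L) : TC K ⟶ TC L :=
  ((FTors.gammaT 𝔛 h).mapHomologicalComplex (ComplexShape.up ℤ)).map f

theorem tmap_incl {K L : CochainComplex (FSch.ModF 𝔛 h) ℤ} (f : K ⟶ L) (n : ℤ) :
    (tmap f).f n ≫ (incl L).f n = (incl K).f n ≫ f.f n := by
  rw [incl_f, incl_f]
  exact (FTors.gammaTι 𝔛 h).naturality (f.f n)

theorem incl_d {K : CochainComplex (FSch.ModF 𝔛 h) ℤ} (i j : ℤ) {W : (𝔛.X 0).Opens}
    (x : ModSite.sect ((TC K).X i) W) :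
    sHom ((incl K).f j) W (sHom ((TC K).d i j) W x) = sHom (K.d i j) W (sHom ((incl K).f i) W x) :=
  (sHom_comp _ _ W x).symm.trans ((congrArg (fun g : (TC K).X i ⟶ K.X j => sHom g W x) ((incl K).comm i j).symm).trans
    (sHom_comp _ _ W x))

theorem nil_incl (hN : 𝔛.IsLocNoethFormal) {V W : (𝔛.X 0).Opens} (hV : IsAffineOpen V) (hWV : W ≤ V)
    (hW : IsAffineOpen W) {r : ℕ} (s : Fin r → Sec 𝔛 h V) (hs : Ideal.span (Set.range s) = secIdeal 𝔛 h V)
    {K : CochainComplex (FSch.ModF 𝔛 h) ℤ} {n : ℤ} (x : ModSite.sect ((TC K).X n) W) :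
    P s hWV r (sHom ((incl K).f n) W x) := by
  refine Nil.of_isTorsSect hN ?_ hW fun i =>
    (map_secIdeal hN hV hW hWV).le (Ideal.mem_map_of_mem _ (hs.le (Ideal.subset_span ⟨i, rfl⟩)))
  rw [incl_f]
  exact isTorsSect_gammaι x

theorem exists_incl_of_nil (hN : 𝔛.IsLocNoethFormal) {V W : (𝔛.X 0).Opens} (hV : IsAffineOpen V) (hWV : W ≤ V)
    (hW : IsAffineOpen W) {r : ℕ} (s : Fin r → Sec 𝔛 h V) (hs : Ideal.span (Set.range s) = secIdeal 𝔛 h V)
    {K : CochainComplex (FSch.ModF 𝔛 h) ℤ} {n : ℤ} {x : ModSite.sect (K.X n) W} (hx : P s hWV r x) :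
    ∃ u : ModSite.sect ((TC K).X n) W, sHom ((incl K).f n) W u = x := by
  rw [incl_f]
  exact exists_gamma_of_nil hN hV hWV hW s hs hx

variable (hN : 𝔛.IsLocNoethFormal) (I : α → CochainComplex (FSch.ModF 𝔛 h) ℤ)
  (J : CochainComplex (FSch.ModF 𝔛 h) ℤ) (φ : ∀ a, I a ⟶ J) (hgens : ∀ (U : (𝔛.X 0).Opens) (p : 𝔛.X 0), p ∈ U → ∃ (V : (𝔛.X 0).Opens) (_ : V ≤ U) (r : ℕ)
    (s : Fin r → Sec 𝔛 h V), IsAffineOpen V ∧ p ∈ V ∧ Ideal.span (Set.range s) = secIdeal 𝔛 h V ∧
    (∀ a n, Splits ((I a).X n) s) ∧ ∀ n, Splits (J.X n) s)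
  (hiso : ∀ j, IsIso (Sigma.desc fun a => HomologicalComplex.homologyMap (φ a) j))

include hN hgens hiso in
/-- Torsion subcomplexes of K-injective resolutions commute with sums. -/
theorem isIso_sigma_tmap (j : ℤ) :
    IsIso (Sigma.desc fun a => HomologicalComplex.homologyMap (tmap (φ a)) j) := by
  classical
  let H : α → FSch.ModF 𝔛 h := fun a => (TC (I a)).homology j
  let D : ∐ H ⟶ (TC J).homology j := Sigma.desc fun a => HomologicalComplex.homologyMap (tmap (φ a)) j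
  have hιD : ∀ (a : α) {W : (𝔛.X 0).Opens} (c : ModSite.sect ((TC (I a)).cycles j) W),
      sHom D W (sHom (Sigma.ι H a) W (sHom ((TC (I a)).homologyπ j) W c)) =
        sHom ((TC J).homologyπ j) W (sHom (HomologicalComplex.cyclesMap (tmap (φ a)) j) W c) := fun a W c => by
    refine (sHom_comp _ _ W _).symm.trans ?_
    refine (congrArg (fun g : H a ⟶ (TC J).homology j => sHom g W (sHom ((TC (I a)).homologyπ j) W c))
      (Sigma.ι_desc (fun a => HomologicalComplex.homologyMap (tmap (φ a)) j) a)).trans ?_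
    refine (sHom_comp _ _ W c).symm.trans (Eq.trans ?_ (sHom_comp _ _ W c))
    exact congrArg (fun g : (TC (I a)).cycles j ⟶ (TC J).homology j => sHom g W c)
      (HomologicalComplex.homologyπ_naturality (tmap (φ a)) j)
  have hcyc : ∀ (a : α) {W : (𝔛.X 0).Opens} (c : ModSite.sect ((TC (I a)).cycles j) W),
      sHom ((incl J).f j) W (sHom ((TC J).iCycles j) W (sHom (HomologicalComplex.cyclesMap (tmap (φ a)) j) W c)) =
        sHom ((φ a).f j) W (sHom ((incl (I a)).f j) W (sHom ((TC (I a)).iCycles j) W c)) := fun a W c => by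
    rw [(sHom_comp _ _ W c).symm.trans ((congrArg (fun g : (TC (I a)).cycles j ⟶ (TC J).X j => sHom g W c)
      (HomologicalComplex.cyclesMap_i (tmap (φ a)) j)).trans (sHom_comp _ _ W c))]
    exact (sHom_comp _ _ W _).symm.trans ((congrArg (fun g : (TC (I a)).X j ⟶ J.X j =>
      sHom g W (sHom ((TC (I a)).iCycles j) W c)) (tmap_incl (φ a) j)).trans (sHom_comp _ _ W _))
  haveI : Mono D := by
    refine Preadditive.mono_of_cancel_zero _ fun {Z} g hg => hom_ext_basis fun U _ z₀ => ?_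
    suffices key : ∀ z : ModSite.sect (∐ H) U, sHom D U z = 0 → z = 0 from
      key (sHom g U z₀) ((sHom_comp g _ U z₀).symm.trans
        (congrArg (fun ψ : Z ⟶ (TC J).homology j => sHom ψ U z₀) hg))
    intro z hz
    refine sect_ext _ _ _ fun p hp => ?_
    obtain ⟨W₀, h₀, t, cl, hW₀, hp₀, ecl⟩ := exists_local_sigma H z hp
    obtain ⟨W₁, h₁, hW₁, hp₁, hlift⟩ := exists_common t hp₀
      (fun a W' h' => ∃ ca : ModSite.sect ((TC (I a)).cycles j) W',
        sHom ((TC (I a)).homologyπ j) W' ca = sres (H a) h' (cl a))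
      (fun b W' W'' h' h'' ⟨ca, hca⟩ => ⟨sres _ h'' ca, by rw [sHom_res, hca, sres_sres]⟩)
      fun a _ => by
        obtain ⟨W', h', hp', ca, hca⟩ := exists_local_preimage ((TC (I a)).homologyπ j) (cl a) hp₀
        exact ⟨W', h', hp', ca, hca⟩
    choose! c hc using hlift
    let y := ∑ a ∈ t, sHom (HomologicalComplex.cyclesMap (tmap (φ a)) j) W₁ (c a)
    have hy : sHom ((TC J).homologyπ j) W₁ y = 0 := by
      simp only [y]
      rw [map_sum, Finset.sum_congr rfl fun a _ => (hιD a (c a)).symm, ← map_sum,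
        Finset.sum_congr rfl fun a ha => (congrArg (sHom (Sigma.ι H a) W₁) (hc a ha)).trans (sHom_res _ h₁ (cl a)),
        ← sres_finsum, ← ecl, sres_sres, sHom_res, hz, sres_zero]
    obtain ⟨W₂', h₂', hp₂', zz, hzz⟩ := exists_local_preimage_of_exact
      (ShortComplex.mk ((TC J).toCycles (j - 1) j) ((TC J).homologyπ j) (by simp))
      (ShortComplex.exact_of_g_is_cokernel _ ((TC J).homologyIsCokernel (j - 1) j (by simp))) y hy hp₁
    obtain ⟨W₂, h₂w, r, s, hW₂, hp₂, hs, hI, hJ⟩ := hgens W₂' p hp₂'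
    let h₂ : W₂ ≤ W₁ := h₂w.trans h₂'
    have hz' : sHom ((TC J).d (j - 1) j) W₂ (sres _ h₂w zz) = sHom ((TC J).iCycles j) W₂ (sres _ h₂ y) := by
      refine (congrArg (fun g : (TC J).X (j - 1) ⟶ (TC J).X j => sHom g W₂ (sres _ h₂w zz))
        ((TC J).toCycles_i (j - 1) j)).symm.trans ((sHom_comp _ _ W₂ _).trans ?_)
      refine congrArg (sHom ((TC J).iCycles j) W₂) ?_
      rw [sHom_res]
      exact (congrArg (sres _ h₂w) hzz).trans (sres_sres _ _ _)
    let u : ∀ a, ModSite.sect ((I a).X j) W₂ := fun a =>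
      sHom ((incl (I a)).f j) W₂ (sHom ((TC (I a)).iCycles j) W₂ (sres _ h₂ (c a)))
    have he : ∑ a ∈ t, sHom ((φ a).f j) W₂ (u a) =
        sHom (J.d (j - 1) j) W₂ (sHom ((incl J).f (j - 1)) W₂ (sres _ h₂w zz)) := by
      rw [← incl_d, hz']
      simp only [y, u]
      rw [sres_finsum, map_sum, map_sum]
      refine Finset.sum_congr rfl fun a _ => ?_
      rw [← sHom_res (HomologicalComplex.cyclesMap (tmap (φ a)) j)]
      exact (hcyc a _).symm
    obtain ⟨W₃, h₃, w, hW₃, hp₃, hw⟩ := (surj_inj I J φ hiso s hI hJ r le_rfl).2 (j - 1) j (by omega) W₂ le_rfl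
      hW₂ t u _ (fun a _ => ⟨nil_incl hN hW₂ le_rfl hW₂ s hs _, by
        rw [← incl_d, sHom_eq_zero ((TC (I a)).iCycles_d j (j + 1)), map_zero]⟩)
      (nil_incl hN hW₂ le_rfl hW₂ s hs _) he p hp₂
    have h0 : ∀ a ∈ t, sres (H a) ((h₃.trans h₂).trans h₁) (cl a) = 0 := fun a ha => by
      obtain ⟨v, hv⟩ := exists_incl_of_nil hN hW₂ h₃ hW₃ s hs (hw a ha).1
      have hcv : sHom ((TC (I a)).toCycles (j - 1) j) W₃ v = sres _ (h₃.trans h₂) (c a) := by
        refine sHom_injective ((TC (I a)).iCycles j) W₃ (sHom_injective ((incl (I a)).f j) W₃ ?_)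
        refine (congrArg (sHom ((incl (I a)).f j) W₃) ((sHom_comp _ _ W₃ v).symm.trans
          (congrArg (fun g : (TC (I a)).X (j - 1) ⟶ (TC (I a)).X j => sHom g W₃ v)
            ((TC (I a)).toCycles_i (j - 1) j)))).trans ?_
        rw [incl_d, hv, (hw a ha).2]
        simp only [u, sHom_res, sres_sres]
      rw [← sres_sres h₁ (h₃.trans h₂), ← hc a ha, ← sHom_res, ← hcv]
      exact sHom_eq_zero ((TC (I a)).toCycles_comp_homologyπ (j - 1) j) W₃ v
    refine ⟨W₃, ((h₃.trans h₂).trans h₁).trans h₀, hp₃, ?_⟩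
    rw [← sres_sres h₀ ((h₃.trans h₂).trans h₁), ecl, sres_finsum, sres_zero]
    exact Finset.sum_eq_zero fun a ha => by rw [← sHom_res, h0 a ha, map_zero]
  haveI : Epi D := by
    refine Preadditive.epi_of_cancel_zero _ fun {Z} g hg => hom_ext_basis fun U _ z => ?_
    show sHom g U z = 0
    refine sect_ext _ _ _ fun p hp => ?_
    obtain ⟨W₀, h₀, hp₀, c, hc⟩ := exists_local_preimage ((TC J).homologyπ j) z hp
    obtain ⟨W₁, h₁, r, s, hW₁, hp₁, hs, hI, hJ⟩ := hgens W₀ p hp₀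
    let x := sHom ((incl J).f j) W₁ (sHom ((TC J).iCycles j) W₁ (sres _ h₁ c))
    obtain ⟨W₂, h₂, t, u, z', hW₂, hp₂, hu, hz', ex⟩ := (surj_inj I J φ hiso s hI hJ r le_rfl).1 (j - 1) j
      (by omega) W₁ le_rfl hW₁ x (by rw [← incl_d, sHom_eq_zero ((TC J).iCycles_d j (j + 1)), map_zero])
      (nil_incl hN hW₁ le_rfl hW₁ s hs _) p hp₁
    have hlift : ∀ a, ∃ ca : ModSite.sect ((TC (I a)).cycles j) W₂,
        a ∈ t → sHom ((incl (I a)).f j) W₂ (sHom ((TC (I a)).iCycles j) W₂ ca) = u a := fun a => by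
      by_cases ha : a ∈ t
      · obtain ⟨v, hv⟩ := exists_incl_of_nil hN hW₁ h₂ hW₂ s hs (hu a ha).1
        obtain ⟨ca, hca⟩ := exists_cycle (TC (I a)) j v (sHom_injective ((incl (I a)).f (j + 1)) W₂
          (by rw [incl_d, hv, (hu a ha).2, map_zero]))
        exact ⟨ca, fun _ => by rw [hca, hv]⟩
      · exact ⟨0, fun h' => absurd h' ha⟩
    choose ca hca using hlift
    obtain ⟨zz, hzz⟩ := exists_incl_of_nil hN hW₁ h₂ hW₂ s hs hz'
    have ec : sres _ (h₂.trans h₁) c = ∑ a ∈ t, sHom (HomologicalComplex.cyclesMap (tmap (φ a)) j) W₂ (ca a) +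
        sHom ((TC J).toCycles (j - 1) j) W₂ zz := by
      refine sHom_injective ((TC J).iCycles j) W₂ (sHom_injective ((incl J).f j) W₂ ?_)
      rw [map_add, map_add, map_sum, map_sum]
      refine Eq.trans ?_ (ex.trans (congr_arg₂ (· + ·) (Finset.sum_congr rfl fun a ha => ?_) ?_))
      · simp only [x, sHom_res, sres_sres]
      · rw [← hca a ha]
        exact (hcyc a (ca a)).symm
      · rw [(sHom_comp _ _ W₂ zz).symm.trans (congrArg (fun g : (TC J).X (j - 1) ⟶ (TC J).X j => sHom g W₂ zz)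
          ((TC J).toCycles_i (j - 1) j)), incl_d, hzz]
    refine ⟨W₂, (h₂.trans h₁).trans h₀, hp₂, ?_⟩
    rw [← sres_sres h₀ (h₂.trans h₁), ← sHom_res, ← sHom_res, sres_sres,
      show sres ((TC J).homology j) ((h₂.trans h₁).trans h₀) z =
        sHom ((TC J).homologyπ j) W₂ (sres _ (h₂.trans h₁) c) by rw [sHom_res, hc, sres_sres],
      ec, map_add, sHom_eq_zero ((TC J).toCycles_comp_homologyπ (j - 1) j), add_zero, map_sum,
      Finset.sum_congr rfl fun a _ => (hιD a (ca a)).symm, ← map_sum, sHom_eq_zero hg, sres_zero]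
  exact isIso_of_mono_of_epi D

end GrothLib.Gam7
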