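import Groth.Agent.Lib.Gam7.Derived
import Groth.Agent.Lib.Gam7.Coref
import Mathlib.CategoryTheory.Abelian.Subcategory

/-!
# The derived category of torsion modules
-/

set_option autoImplicit false
set_option linter.style.haveILetI false
set_option linter.unusedSectionVars false
universe u

open CategoryTheory CategoryTheory.Limits AlgebraicGeometry TopologicalSpace Opposite

attribute [local instance] HasDerivedCategory.standard

noncomputable section

namespace GrothLib.Gam7

open GrothLib.FMod7 GrothLib.FCat7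

variable {𝔛 : FSch.Sys.{u}} {h : 𝔛.IsFormal}

instance isTorsF_isoClosed : (FTors.IsTorsF 𝔛 h).IsClosedUnderIsomorphisms where
  of_iso e hM := isTorsF_of_mono e.inv hM

variable (𝔛 h) in
/-- The torsion functor into torsion modules. -/
def gammaC : FSch.ModF 𝔛 h ⥤ (FTors.IsTorsF 𝔛 h).FullSubcategory :=
  (FTors.IsTorsF 𝔛 h).lift (FTors.gammaT 𝔛 h) isTorsF_gammaT

instance : (gammaC 𝔛 h).Additive where
  map_add {M N f g} := (FTors.IsTorsF 𝔛 h).ι.map_injective ((FTors.gammaT 𝔛 h).map_add (f := f) (g := g))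

variable (𝔛 h) in
/-- The torsion functor is right adjoint to the inclusion of torsion modules. -/
def gammaAdj : (FTors.IsTorsF 𝔛 h).ι ⊣ gammaC 𝔛 h where
  unit :=
    { app := fun T => ObjectProperty.homMk
        (@inv _ _ _ _ ((FTors.gammaTι 𝔛 h).app T.obj) (isIso_gammaι_of_isTorsF T.property))
      naturality := fun T T' f => by
        haveI := isIso_gammaι_of_isTorsF T.property
        haveI := isIso_gammaι_of_isTorsF T'.property
        refine (FTors.IsTorsF 𝔛 h).ι.map_injective ?_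
        show f.hom ≫ inv ((FTors.gammaTι 𝔛 h).app T'.obj) =
          inv ((FTors.gammaTι 𝔛 h).app T.obj) ≫ (FTors.gammaT 𝔛 h).map f.hom
        rw [IsIso.eq_inv_comp, ← Category.assoc, IsIso.comp_inv_eq]
        exact ((FTors.gammaTι 𝔛 h).naturality f.hom).symm }
  counit :=
    { app := fun M => (FTors.gammaTι 𝔛 h).app M
      naturality := fun M N f => (FTors.gammaTι 𝔛 h).naturality f }
  left_triangle_components T := by
    haveI := isIso_gammaι_of_isTorsF T.property
    exact IsIso.inv_hom_id ((FTors.gammaTι 𝔛 h).app T.obj)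
  right_triangle_components M := by
    haveI := isIso_gammaι_of_isTorsF (isTorsF_gammaT (h := h) M)
    refine (FTors.IsTorsF 𝔛 h).ι.map_injective ?_
    show inv ((FTors.gammaTι 𝔛 h).app ((FTors.gammaT 𝔛 h).obj M)) ≫
      (FTors.gammaT 𝔛 h).map ((FTors.gammaTι 𝔛 h).app M) = 𝟙 _
    rw [IsIso.inv_comp_eq, Category.comp_id]
    haveI : Mono ((FTors.gammaTι 𝔛 h).app M) := ⟨fun g g' e => hom_ext_basis fun U _ z =>
      sHom_gammaι_injective M U (congrArg (fun φ => sHom φ U z) e)⟩
    exact (cancel_mono ((FTors.gammaTι 𝔛 h).app M)).1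
      ((FTors.gammaTι 𝔛 h).naturality ((FTors.gammaTι 𝔛 h).app M))

theorem full_faithful_torsion (hN : 𝔛.IsLocNoethFormal)
    [(FTors.IsTorsF 𝔛 h).ContainsZero] [(FTors.IsTorsF 𝔛 h).IsClosedUnderKernels]
    [(FTors.IsTorsF 𝔛 h).IsClosedUnderCokernels] [(FTors.IsTorsF 𝔛 h).IsClosedUnderFiniteProducts]
    [PreservesFiniteLimits (FTors.IsTorsF 𝔛 h).ι] [PreservesFiniteColimits (FTors.IsTorsF 𝔛 h).ι] :
    (FTors.IsTorsF 𝔛 h).ι.mapDerivedCategory.Full ∧ (FTors.IsTorsF 𝔛 h).ι.mapDerivedCategory.Faithful ∧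
      ∀ G : DerivedCategory (FSch.ModF 𝔛 h),
        (FTors.IsTorsF 𝔛 h).ι.mapDerivedCategory.essImage G ↔ FTors.IsDTorsF 𝔛 h G :=
  full_faithful_essImage (gammaAdj 𝔛 h) (FTors.IsTorsF 𝔛 h) (fun X => X.property) fun I _ hI hH => by
    refine ⟨fun j => ?_⟩
    have e : HomologicalComplex.Hom.f ((KInj.mapComplexAdj (gammaAdj 𝔛 h) (ComplexShape.up ℤ)).counit.app I) =
        (incl I).f := funext fun n => (incl_f I n).symm
    have := quasiIso_incl hN I hI hH
    rw [show (KInj.mapComplexAdj (gammaAdj 𝔛 h) (ComplexShape.up ℤ)).counit.app I = incl I from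
      HomologicalComplex.hom_ext _ _ (congrFun e)]
    exact this.quasiIsoAt j

end GrothLib.Gam7
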