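import Groth.Agent.Lib.Gam7.SumQis
import Groth.Agent.Lib.Gam7.Derived
import Groth.Agent.Lib.Gam7.SumDerived

/-!
# Vanishing of the derived torsion functor where a function of the ideal of definition acts bijectively
-/

set_option autoImplicit false
set_option linter.style.haveILetI false
set_option linter.unusedSectionVars false
universe u

open CategoryTheory CategoryTheory.Limits AlgebraicGeometry TopologicalSpace Opposite

attribute [local instance] HasDerivedCategory.standard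

noncomputable section

namespace GrothLib.Gam7

open GrothLib.FMod7 GrothLib.FCat7 ZeroObject

variable {𝔛 : FSch.Sys.{u}} {h : 𝔛.IsFormal}

/-- The germ of a module at a point is zero. -/
def GermZero (M : FSch.ModF 𝔛 h) (p : 𝔛.X 0) : Prop :=
  ∀ (U : (𝔛.X 0).Opens), p ∈ U → ∀ x : ModSite.sect M U, ∃ (U' : (𝔛.X 0).Opens) (h' : U' ≤ U), p ∈ U' ∧ sres M h' x = 0

/-- A cycle with locally zero class is locally a boundary. -/
theorem exists_d_of_class (K : CochainComplex (FSch.ModF 𝔛 h) ℤ) {i j : ℤ} (hij : i + 1 = j) {U : (𝔛.X 0).Opens}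
    (c : ModSite.sect (K.cycles j) U) {U₁ : (𝔛.X 0).Opens} (h₁ : U₁ ≤ U)
    (hc : sres _ h₁ (sHom (K.homologyπ j) U c) = 0) {p : 𝔛.X 0} (hp : p ∈ U₁) :
    ∃ (U₂ : (𝔛.X 0).Opens) (h₂ : U₂ ≤ U) (y : ModSite.sect (K.X i) U₂), IsAffineOpen U₂ ∧ p ∈ U₂ ∧
      sHom (K.d i j) U₂ y = sres _ h₂ (sHom (K.iCycles j) U c) := by
  obtain ⟨U₂', h₂', hp₂', y, hy⟩ := exists_local_preimage_of_exact
    (ShortComplex.mk (K.toCycles i j) (K.homologyπ j) (by simp))
    (ShortComplex.exact_of_g_is_cokernel _ (K.homologyIsCokernel i j (by simp; omega)))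
    (sres _ h₁ c) ((sHom_res _ h₁ c).trans hc) hp
  obtain ⟨U₂, hU₂, hp₂, h₂⟩ := exists_isAffineOpen_mem_and_subset (x := p) (U := U₂') hp₂'
  have hle : U₂ ≤ U₂' := h₂
  refine ⟨U₂, hle.trans (h₂'.trans h₁), sres _ hle y, hU₂, hp₂, ?_⟩
  have e : sHom (K.d i j) U₂' y = sres _ (h₂'.trans h₁) (sHom (K.iCycles j) U c) := by
    refine (congrArg (fun φ : K.X i ⟶ K.X j => sHom φ U₂' y) (K.toCycles_i i j)).symm.trans
      ((sHom_comp _ _ U₂' y).trans ?_)
    refine (congrArg (sHom (K.iCycles j) U₂') hy).trans ?_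
    rw [sHom_res, sHom_res, sres_sres]
  rw [sHom_res, e, sres_sres]

variable (hN : 𝔛.IsLocNoethFormal) {W : (𝔛.X 0).Opens} (t : Sec 𝔛 h W) (I : CochainComplex (FSch.ModF 𝔛 h) ℤ)
  (hI : ∀ n, Injective (I.X n)) (hout : ∀ n p, p ∉ W → GermZero (I.homology n) p)
  (hin : ∀ n (U : (𝔛.X 0).Opens) (hUW : U ≤ W),
    Function.Bijective fun x : ModSite.sect (I.homology n) U => rRes hUW t • x)

include hN hI hout hin in
/-- The torsion subcomplex is acyclic. -/
theorem isZero_homology_TC_of_bijective (ht : ∀ (U : (𝔛.X 0).Opens) (hUW : U ≤ W), IsAffineOpen U → rRes hUW t ∈ secIdeal 𝔛 h U)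
    (j : ℤ) : IsZero ((TC I).homology j) := by
  classical
  rw [IsZero.iff_id_eq_zero]
  refine hom_ext_basis fun U₀ _ z => ?_
  show z = 0
  refine FMod7.sect_ext _ _ _ fun p hp => ?_
  obtain ⟨W₀, h₀, hp₀, c, hc⟩ := exists_local_preimage ((TC I).homologyπ j) z hp
  obtain ⟨V, h₁, t', ht', hV, hpV, hinj, hsur⟩ : ∃ (V : (𝔛.X 0).Opens) (h₁ : V ≤ W₀) (t' : Sec 𝔛 h V),
      t' ∈ secIdeal 𝔛 h V ∧ IsAffineOpen V ∧ p ∈ V ∧
      (∀ (n : ℤ) (N : ℕ) (U : (𝔛.X 0).Opens) (hU : U ≤ V), p ∈ U → ∀ x : ModSite.sect (I.homology n) U,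
        rRes hU t' ^ N • x = 0 → ∃ (U' : (𝔛.X 0).Opens) (h' : U' ≤ U), p ∈ U' ∧ sres _ h' x = 0) ∧
      (∀ (n : ℤ) (N : ℕ) (U : (𝔛.X 0).Opens) (hU : U ≤ V), p ∈ U → ∀ x : ModSite.sect (I.homology n) U,
        ∃ (U' : (𝔛.X 0).Opens) (h' : U' ≤ U) (y : ModSite.sect (I.homology n) U'), p ∈ U' ∧
          rRes (h'.trans hU) t' ^ N • y = sres _ h' x) := by
    by_cases hpW : p ∈ W
    · obtain ⟨V, hV, hpV, hVW⟩ := exists_isAffineOpen_mem_and_subset (x := p) (U := W₀ ⊓ W) ⟨hp₀, hpW⟩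
      have hVW' : V ≤ W := fun q hq => (hVW hq).2
      have hb : ∀ (n : ℤ) (N : ℕ) (U : (𝔛.X 0).Opens) (hU : U ≤ V),
          Function.Bijective fun x : ModSite.sect (I.homology n) U => rRes hU (rRes hVW' t) ^ N • x := by
        intro n N U hU
        induction N with
        | zero => simp only [pow_zero, one_smul]; exact Function.bijective_id
        | succ N ih =>
          simp only [rRes_rRes, pow_succ, mul_smul] at ih ⊢
          exact ih.comp (hin n U (hU.trans hVW'))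
      refine ⟨V, fun q hq => (hVW hq).1, rRes hVW' t, ht V hVW' hV, hV, hpV, fun n N U hU hpU x hx => ?_,
        fun n N U hU hpU x => ?_⟩
      · refine ⟨U, le_rfl, hpU, ?_⟩
        rw [(hb n N U hU).1 (hx.trans (smul_zero _).symm), sres_zero]
      · obtain ⟨y, hy⟩ := (hb n N U hU).2 x
        exact ⟨U, le_rfl, y, hpU, hy.trans (sres_id (M := I.homology n) x).symm⟩
    · obtain ⟨V, hV, hpV, hVW⟩ := exists_isAffineOpen_mem_and_subset (x := p) (U := W₀) hp₀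
      refine ⟨V, hVW, 0, zero_mem _, hV, hpV, fun n N U hU hpU x _ => hout n p hpW U hpU x,
        fun n N U hU hpU x => ?_⟩
      obtain ⟨U', h', hp', e⟩ := hout n p hpW U hpU x
      exact ⟨U', h', 0, hp', by rw [smul_zero, e]⟩
  obtain ⟨r, g, hg⟩ := exists_gens (h := h) hN hV
  let s : Fin (r + 1) → Sec 𝔛 h V := Fin.cons t' g
  have hs : Ideal.span (Set.range s) = secIdeal 𝔛 h V := by
    rw [Fin.range_cons, Ideal.span_insert, hg, sup_eq_right, Ideal.span_singleton_le_iff_mem]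
    exact ht'
  have hJ : ∀ n, Splits (I.X n) s := fun n => @splits_of_injective _ _ hN _ (hI n) _ _ _
  have h1 : ∀ (i j' : ℤ), i + 1 = j' → ∀ (W' : (𝔛.X 0).Opens) (hW'V : W' ≤ V), IsAffineOpen W' →
      ∀ x : ModSite.sect (I.X j') W', sHom (I.d j' (j' + 1)) W' x = 0 → P s hW'V 1 x → p ∈ W' →
      ∃ (W'' : (𝔛.X 0).Opens) (h'' : W'' ≤ W') (y : ModSite.sect (I.X i) W''), IsAffineOpen W'' ∧ p ∈ W'' ∧
        P s (h''.trans hW'V) 1 y ∧ sHom (I.d i j') W'' y = sres _ h'' x := by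
    intro i j' hij W' hW'V hW' x hx hxP hp'
    let T := rRes hW'V t'
    obtain ⟨N, hN'⟩ : ∃ N, T ^ N • x = 0 := (hxP 0 Nat.one_pos).exists_pow hW'.isCompact
    obtain ⟨cx, hcx⟩ := exists_cycle I j' x hx
    have hz : T ^ N • cx = 0 := sHom_injective (I.iCycles j') W' (by rw [map_smul, hcx, hN', map_zero])
    obtain ⟨U₁, g₁, hpU₁, hU₁⟩ := hinj j' N W' hW'V hp' (sHom (I.homologyπ j') W' cx)
      (by rw [← map_smul, hz, map_zero])
    obtain ⟨W₁, g₂, y, hW₁, hp₁, hy⟩ := exists_d_of_class I hij cx g₁ hU₁ hpU₁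
    rw [hcx] at hy
    have hW₁V : W₁ ≤ V := g₂.trans hW'V
    let T₁ := rRes hW₁V t'
    have hyc : sHom (I.d i (i + 1)) W₁ (T₁ ^ N • y) = 0 := by
      have hr : rRes g₂ T = T₁ := rRes_rRes _ _ _
      rw [show i + 1 = j' from hij, map_smul, hy, ← hr, ← map_pow, ← sres_smul, hN', sres_zero]
    obtain ⟨cy, hcy⟩ := exists_cycle I i (T₁ ^ N • y) hyc
    obtain ⟨U₂, g₃, w, hpU₂, hw⟩ := hsur i N W₁ hW₁V hp₁ (sHom (I.homologyπ i) W₁ cy)
    obtain ⟨U₃, g₄, hpU₃, d₃, hd₃⟩ := exists_local_preimage (I.homologyπ i) w hpU₂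
    have h32 : U₃ ≤ W₁ := g₄.trans g₃
    have hcls : sHom (I.homologyπ i) U₃ (sres _ h32 cy - rRes (h32.trans hW₁V) t' ^ N • d₃) = 0 := by
      rw [map_sub, sHom_res, map_smul, hd₃, ← sres_sres g₃ g₄ (sHom (I.homologyπ i) W₁ cy), ← hw, sres_smul,
        map_pow, rRes_rRes, sub_self]
    obtain ⟨W₄, g₅, e, hW₄, hp₄, he⟩ := exists_d_of_class I (show i - 1 + 1 = i by omega) _ le_rfl
      (by rw [sres_id]; exact hcls) hpU₃
    obtain ⟨W₅, g₆, e₁, hW₅, hp₅, -, he₁⟩ := hJ (i - 1) 0 W₄ (g₅.trans (h32.trans hW₁V)) hW₄ e Nil.zero_idx 0 N p hp₄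
    have h5 : W₅ ≤ W₁ := g₆.trans (g₅.trans h32)
    let y' := sres _ h5 y - sres _ (g₆.trans g₅) (sHom (I.iCycles i) U₃ d₃) - sHom (I.d (i - 1) i) W₅ e₁
    let T₅ := rRes (h5.trans hW₁V) t'
    change LocNil T₅ (sres _ g₆ e - T₅ ^ N • e₁) at he₁
    have key : sHom (I.d (i - 1) i) W₅ (sres _ g₆ e - T₅ ^ N • e₁) = T₅ ^ N • y' := by
      rw [map_sub, sHom_res, he, sres_sres]
      have e1 : sHom (I.iCycles i) U₃ (sres _ h32 cy - rRes (h32.trans hW₁V) t' ^ N • d₃) =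
          rRes (h32.trans hW₁V) t' ^ N • (sres _ h32 y - sHom (I.iCycles i) U₃ d₃) := by
        rw [map_sub, map_smul, sHom_res, hcy, sres_smul, map_pow, rRes_rRes, smul_sub]
      rw [e1, map_smul, sres_smul, map_pow, rRes_rRes, sres_sub, sres_sres]
      exact (smul_sub _ _ _).symm
    refine ⟨W₅, h5.trans g₂, y', hW₅, hp₅,
      Nil.succ (j := 0) Nil.zero_idx (LocNil.of_pow_smul (n := N) (key ▸ he₁.hom _)), ?_⟩
    simp only [y', map_sub, d_d, sub_zero, sHom_res]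
    rw [hy, sres_sres, sHom_eq_zero (I.iCycles_d i j'), sres_zero, sub_zero]
  have hS : ∀ k, k ≤ r → ∀ (i j' : ℤ), i + 1 = j' → ∀ (W' : (𝔛.X 0).Opens) (hW'V : W' ≤ V), IsAffineOpen W' →
      ∀ x : ModSite.sect (I.X j') W', sHom (I.d j' (j' + 1)) W' x = 0 → P s hW'V (k + 1) x → p ∈ W' →
      ∃ (W'' : (𝔛.X 0).Opens) (h'' : W'' ≤ W') (y : ModSite.sect (I.X i) W''), IsAffineOpen W'' ∧ p ∈ W'' ∧
        P s (h''.trans hW'V) (k + 1) y ∧ sHom (I.d i j') W'' y = sres _ h'' x := by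
    intro k
    induction k with
    | zero => exact fun _ => h1
    | succ k ih =>
      intro hk i j' hij W' hW'V hW' x hx hxP hp'
      let l : Fin (r + 1) := ⟨k + 1, by omega⟩
      obtain ⟨W₁, g₁, y, hW₁, hp₁, hyP, hy⟩ := ih (by omega) i j' hij W' hW'V hW' x hx (hxP.mono (k + 1).le_succ) hp'
      have hW₁V : W₁ ≤ V := g₁.trans hW'V
      obtain ⟨n, hn⟩ := ((P.res s hxP g₁) l (Nat.lt_succ_self _)).exists_pow hW₁.isCompact
      obtain ⟨W₂, g₂, e, hW₂, hp₂, heP, he⟩ := ih (by omega) (i - 1) i (by omega) W₁ hW₁V hW₁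
        (rRes hW₁V (s l) ^ n • y) (by rw [show i + 1 = j' from hij, map_smul, hy]; exact hn) (Nil.smul hyP _) hp₁
      obtain ⟨W₃, g₃, e₁, hW₃, hp₃, he₁P, he₁⟩ := hJ (i - 1) (k + 1) W₂ (g₂.trans hW₁V) hW₂ e heP l n p hp₂
      let T₃ := rRes (g₃.trans (g₂.trans hW₁V)) (s l)
      let y' := sres _ (g₃.trans g₂) y - sHom (I.d (i - 1) i) W₃ e₁
      have key : sHom (I.d (i - 1) i) W₃ (sres _ g₃ e - T₃ ^ n • e₁) = T₃ ^ n • y' := by
        rw [map_sub, sHom_res, he, map_smul]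
        simp only [y', smul_sub, sres_smul, sres_sres, map_pow, rRes_rRes, T₃]
      refine ⟨W₃, g₃.trans (g₂.trans g₁), y', hW₃, hp₃,
        Nil.succ (j := l) (Nil.sub (P.res s hyP (g₃.trans g₂)) (he₁P.hom _))
          (LocNil.of_pow_smul (n := n) (key ▸ he₁.hom _)), ?_⟩
      simp only [y', map_sub, d_d, sub_zero, sHom_res]
      rw [hy, sres_sres]
  let x := sHom ((incl I).f j) V (sHom ((TC I).iCycles j) V (sres _ h₁ c))
  obtain ⟨W₂, h₂, y, hW₂, hp₂, hyP, hy⟩ := hS r le_rfl (j - 1) j (by omega) V le_rfl hV x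
    (by rw [← incl_d, sHom_eq_zero ((TC I).iCycles_d j (j + 1)), map_zero])
    (nil_incl hN hV le_rfl hV s hs _) hpV
  obtain ⟨v, hv⟩ := exists_incl_of_nil hN hV h₂ hW₂ s hs hyP
  have e : sres _ (h₂.trans h₁) c = sHom ((TC I).toCycles (j - 1) j) W₂ v := by
    refine sHom_injective ((TC I).iCycles j) W₂ (sHom_injective ((incl I).f j) W₂ ?_)
    refine Eq.trans ?_ ((congrArg (sHom ((incl I).f j) W₂) ((sHom_comp _ _ W₂ v).symm.trans
      (congrArg (fun g : (TC I).X (j - 1) ⟶ (TC I).X j => sHom g W₂ v) ((TC I).toCycles_i (j - 1) j)))).trans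
      ((incl_d (j - 1) j v).trans ((congrArg _ hv).trans hy))).symm
    simp only [x, sHom_res, sres_sres]
  refine ⟨W₂, (h₂.trans h₁).trans h₀, hp₂, ?_⟩
  rw [← sres_sres h₀ (h₂.trans h₁), ← hc, ← sHom_res, e, sres_zero]
  exact sHom_eq_zero ((TC I).toCycles_comp_homologyπ (j - 1) j) W₂ v

include hN hI hout hin in
/-- No maps from objects with torsion cohomology, at a K-injective complex. -/
theorem eq_zero_of_isDTorsF [FTors.HasRgammaT 𝔛 h] [I.IsKInjective]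
    (ht : ∀ (U : (𝔛.X 0).Opens) (hUW : U ≤ W), IsAffineOpen U → rRes hUW t ∈ secIdeal 𝔛 h U)
    {T : DerivedCategory (FSch.ModF 𝔛 h)} (hT : FTors.IsDTorsF 𝔛 h T)
    (φ : T ⟶ DerivedCategory.Qh.obj ((HomotopyCategory.quotient _ (ComplexShape.up ℤ)).obj I)) : φ = 0 := by
  let q := HomotopyCategory.quotient (FSch.ModF 𝔛 h) (ComplexShape.up ℤ)
  let η := Functor.totalRightDerivedUnit (FTors.gammaKh (FTors.openIdealFam 𝔛 h)) DerivedCategory.Qh
    (HomotopyCategory.quasiIso (FSch.ModF 𝔛 h) (ComplexShape.up ℤ))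
  haveI : IsIso (η.app (q.obj I)) := isIso_unit_kinj I
  let j : DerivedCategory.Qh.obj (q.obj (TC I)) ≅ (FTors.RgammaT 𝔛 h).obj (DerivedCategory.Qh.obj (q.obj I)) :=
    DerivedCategory.Qh.mapIso (((FTors.gammaT 𝔛 h).mapHomotopyCategoryFactors (ComplexShape.up ℤ)).app I).symm ≪≫
      asIso (η.app (q.obj I))
  have hH : ∀ n, IsZero ((DerivedCategory.homologyFunctor _ n).obj (DerivedCategory.Qh.obj (q.obj (TC I)))) :=
    fun n => (isZero_homology_TC_of_bijective hN t I hI hout hin ht n).of_iso ((homIso n).app (TC I))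
  have hz : IsZero (DerivedCategory.Qh.obj (q.obj (TC I))) := by
    have : IsIso (0 : DerivedCategory.Qh.obj (q.obj (TC I)) ⟶ (0 : DerivedCategory (FSch.ModF 𝔛 h))) :=
      (DerivedCategory.isIso_iff (C := FSch.ModF 𝔛 h) _).2 fun n =>
        isIso_of_source_target_iso_zero _ (hH n).isoZero
          ((DerivedCategory.homologyFunctor _ n).map_isZero (isZero_zero _)).isoZero
    exact (isZero_zero _).of_iso (@asIso _ _ _ _ _ this)
  refine (comp_ε_bijective hN hT (F := DerivedCategory.Qh.obj (q.obj I))).2 φ |>.elim fun a ha => ?_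
  rw [← show a ≫ _ = φ from ha, (hz.of_iso j.symm).eq_of_tgt a 0, zero_comp]

end GrothLib.Gam7
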